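import Cfsg.Agent.Lib.Solv.Gross.Weights

/-!
An operator of order `2 ^ m` without a regular block, on a module on which a `q`-group has scalar
commutators: half its order either centralizes the group modulo scalars or moves just a plane.
-/

set_option autoImplicit false
set_option linter.style.haveILetI false

namespace Cfsg.Agent.Solv.Gross

open Cfsg.Agent.Solv.CRep
open scoped commutatorElement

universe u v

theorem mersenne_pow_eq_one {q b m : ℕ} (hodd : Odd q) (hm : 2 ≤ m) (h : q ^ b + 1 = 2 ^ m) : b = 1 := by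
  have h4m : 4 ∣ 2 ^ m := (show (4 : ℕ) = 2 ^ 2 from rfl) ▸ pow_dvd_pow 2 hm
  rcases Nat.even_or_odd b with ⟨j, rfl⟩ | hb
  · exfalso
    rw [← h, ← Nat.modEq_zero_iff_dvd, Nat.ModEq, ← two_mul, pow_mul, Nat.add_mod, Nat.pow_mod,
      Nat.pow_mod q 2] at h4m
    obtain ⟨r, rfl⟩ := hodd
    have h1 : (2 * r + 1) ^ 2 % 4 = 1 := by
      rw [show (2 * r + 1) ^ 2 = 4 * (r * r + r) + 1 by ring]; omega
    rw [← Nat.pow_mod (2 * r + 1) 2, h1, one_pow] at h4m
    norm_num at h4m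
  · by_contra hb1
    obtain ⟨S, hS⟩ : ∃ S : ℤ, S = ∑ i ∈ Finset.range b, (-(q : ℤ)) ^ i := ⟨_, rfl⟩
    have hgeom : ((q : ℤ) ^ b + 1) = S * (q + 1) := by
      have := geom_sum_mul_neg (-(q : ℤ)) b
      rw [hS]
      rw [hb.neg_pow] at this
      linarith
    have hSodd : Odd S := by
      rw [hS]
      rw [← ZMod.intCast_eq_one_iff_odd, Int.cast_sum]
      have hq1 : ((-(q : ℤ) : ℤ) : ZMod 2) = 1 := by
        rw [ZMod.intCast_eq_one_iff_odd]; exact (Int.odd_coe_nat q |>.2 hodd).neg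
      simp only [Int.cast_pow, hq1, one_pow, Finset.sum_const, Finset.card_range, nsmul_one]
      exact ZMod.natCast_eq_one_iff_odd.2 hb
    have hdvd : S ∣ (2 : ℤ) ^ m := ⟨(q : ℤ) + 1, by rw [← hgeom]; exact_mod_cast h.symm⟩
    have hco : IsCoprime S ((2 : ℤ) ^ m) := by
      refine IsCoprime.pow_right ?_
      obtain ⟨r, hr⟩ := hSodd
      exact ⟨1, -r, by rw [hr]; ring⟩
    have hS1 : IsUnit S := hco.isUnit_of_dvd' dvd_rfl hdvd
    rcases Int.isUnit_iff.1 hS1 with h1 | h1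
    · rw [h1, one_mul] at hgeom
      have : q ^ b = q ^ 1 := by rw [pow_one]; exact_mod_cast (add_right_cancel hgeom)
      rcases Nat.eq_or_lt_of_le (show 1 ≤ q from hodd.pos) with hq | hq
      · subst hq
        rw [one_pow] at h
        have := Nat.le_of_dvd (by norm_num) (h ▸ h4m)
        omega
      · exact hb1 (Nat.pow_right_injective hq this)
    · rw [h1] at hgeom
      have : (0 : ℤ) ≤ (q : ℤ) ^ b := by positivity
      linarith [Int.natCast_nonneg q]

variable {K : Type*} [Field K] [IsAlgClosed K] [CharP K 2] {G : Type u} [Group G] [Finite G]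
variable {W : Type v} [AddCommGroup W] [Module K W] [FiniteDimensional K W]

omit [CharP K 2] in
/-- Elements acting as scalars, and elements acting centrally. -/
theorem exists_scalar_central (ρ : G →* Module.End K W) (C : Subgroup G)
    (hcomm : ∀ a ∈ C, ∀ b ∈ C, ∃ c : K, ρ ⁅a, b⁆ = c • 1) :
    ∃ S R : Subgroup G, (∀ a, a ∈ S ↔ a ∈ C ∧ ∃ c : K, ρ a = c • 1) ∧
      (∀ a, a ∈ R ↔ a ∈ C ∧ ∀ b ∈ C, ρ ⁅a, b⁆ = 1) := by
  refine ⟨
    { carrier := {a | a ∈ C ∧ ∃ c : K, ρ a = c • 1}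
      one_mem' := ⟨one_mem _, 1, by rw [map_one, one_smul]⟩
      mul_mem' := fun {a b} ⟨ha, c, hc⟩ ⟨hb, d, hd⟩ =>
        ⟨mul_mem ha hb, c * d, by rw [map_mul, hc, hd, smul_mul_assoc, one_mul, smul_smul]⟩
      inv_mem' := fun {a} ⟨ha, c, hc⟩ => by
        refine ⟨inv_mem ha, c ^ (orderOf a - 1), ?_⟩
        rw [inv_eq_of_mul_eq_one_right (show a * a ^ (orderOf a - 1) = 1 by
          rw [← pow_succ', Nat.sub_add_cancel (orderOf_pos a), pow_orderOf_eq_one]), map_pow, hc,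
          smul_pow, one_pow] },
    { carrier := {a | a ∈ C ∧ ∀ b ∈ C, ρ ⁅a, b⁆ = 1}
      one_mem' := ⟨one_mem _, fun b _ => by rw [commutatorElement_one_left, map_one]⟩
      mul_mem' := fun {a a'} ⟨ha, h⟩ ⟨ha', h'⟩ => ⟨mul_mem ha ha', fun b hb => by
        rw [show ⁅a * a', b⁆ = a * ⁅a', b⁆ * a⁻¹ * ⁅a, b⁆ by simp only [commutatorElement_def]; group,
          map_mul, map_mul, map_mul, h' b hb, h b hb, mul_one, mul_one, ← map_mul, mul_inv_cancel,
          map_one]⟩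
      inv_mem' := fun {a} ⟨ha, h⟩ => ⟨inv_mem ha, fun b hb => by
        have h1 := h _ hb
        rw [show ⁅a⁻¹, b⁆ = a⁻¹ * ⁅a, b⁆⁻¹ * a by simp only [commutatorElement_def]; group, map_mul,
          map_mul]
        have h2 : ρ ⁅a, b⁆⁻¹ = 1 := by
          have h3 : ρ ⁅a, b⁆⁻¹ * ρ ⁅a, b⁆ = 1 := by rw [← map_mul, inv_mul_cancel, map_one]
          rwa [h1, mul_one] at h3
        rw [h2, mul_one, ← map_mul, inv_mul_cancel, map_one]⟩ },
    fun a => Iff.rfl, fun a => Iff.rfl⟩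

/-- The alternative for an operator without a regular block. -/
theorem exceptional [Nontrivial W] {q : ℕ} [Fact q.Prime] (hq : q ≠ 2) (C : Subgroup G)
    (hC : IsPGroup q C) (ρ : G →* Module.End K W) (g : G)
    (hgC : g ∈ Subgroup.normalizer (C : Set G))
    (hcomm : ∀ a ∈ C, ∀ b ∈ C, ∃ c : K, ρ ⁅a, b⁆ = c • 1) (hpow : ∀ a ∈ C, ∃ c : K, ρ (a ^ q) = c • 1)
    (m : ℕ) (hgm : g ^ 2 ^ m = 1) (hdeg : (ρ g - 1) ^ (2 ^ m - 1) = 0)
    (R : Subgroup G) (hR : ∀ a, a ∈ R ↔ a ∈ C ∧ ∀ b ∈ C, ρ ⁅a, b⁆ = 1) :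
    (∀ c ∈ C, g ^ 2 ^ (m - 1) * c * (g ^ 2 ^ (m - 1))⁻¹ * c⁻¹ ∈ R) ∨
    (2 ≤ m ∧ q + 1 = 2 ^ m ∧ ∃ Q : Subgroup G, Q ≤ C ∧ R.relIndex Q = q ^ 2 ∧
      (∀ c ∈ C, g * c * g⁻¹ * c⁻¹ ∈ Q ⊔ R) ∧
      ∀ a ∈ Q, g ^ 2 ^ (m - 1) * a * (g ^ 2 ^ (m - 1))⁻¹ * a ∈ R) := by
  classical
  haveI : Fact (Nat.Prime 2) := ⟨Nat.prime_two⟩
  obtain ⟨z, hz⟩ : ∃ z, z = g ^ 2 ^ (m - 1) := ⟨_, rfl⟩
  rw [← hz]
  by_cases hall : ∀ c ∈ C, z * c * z⁻¹ * c⁻¹ ∈ R
  · exact Or.inl hall
  refine Or.inr ?_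
  have hm1 : 1 ≤ m := by
    by_contra h
    obtain rfl : m = 0 := by omega
    rw [Nat.zero_sub, pow_zero, pow_one] at hz
    rw [pow_zero, pow_one] at hgm
    exact hall fun c _ => by rw [hz, hgm, one_mul, inv_one, mul_one, mul_inv_cancel]; exact one_mem _
  have hz2 : z * z = 1 := by
    rw [hz, ← pow_add, ← two_mul, ← pow_succ', Nat.sub_add_cancel hm1, hgm]
  have hzinv : z⁻¹ = z := inv_eq_of_mul_eq_one_right hz2
  obtain ⟨S, -, hS, -⟩ := exists_scalar_central ρ C hcomm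
  have hzC : z ∈ Subgroup.normalizer (C : Set G) := hz ▸ pow_mem hgC _
  have hnC : ∀ {y}, y ∈ Subgroup.normalizer (C : Set G) → ∀ a ∈ C, y * a * y⁻¹ ∈ C := fun hy a ha =>
    (Subgroup.mem_normalizer_iff.1 hy a).1 ha
  have hconjS : ∀ (y : G), y ∈ Subgroup.normalizer (C : Set G) → ∀ s ∈ S,
      y * s * y⁻¹ ∈ S ∧ ρ (y * s * y⁻¹) = ρ s := by
    intro y hy s hs
    obtain ⟨hsC, c, hc⟩ := (hS s).1 hs
    have h1 : ρ (y * s * y⁻¹) = ρ s := by
      rw [map_mul, map_mul, hc, mul_smul_comm, mul_one, smul_mul_assoc, ← map_mul, mul_inv_cancel,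
        map_one]
    exact ⟨(hS _).2 ⟨hnC hy s hsC, c, h1.trans hc⟩, h1⟩
  have hcS : ∀ a ∈ C, ∀ b ∈ C, ⁅a, b⁆ ∈ S := fun a ha b hb => (hS _).2 ⟨by
    rw [commutatorElement_def]; exact mul_mem (mul_mem (mul_mem ha hb) (inv_mem ha)) (inv_mem hb),
    hcomm a ha b hb⟩
  have hCn : ∀ a ∈ C, a ∈ Subgroup.normalizer (C : Set G) := fun a ha => Subgroup.le_normalizer ha
  have hSR : S ≤ R := fun s hs => (hR s).2 ⟨((hS s).1 hs).1, fun b hb => by
    obtain ⟨-, c, hc⟩ := (hS s).1 hs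
    rw [commutatorElement_def, show s * b * s⁻¹ * b⁻¹ = s * (b * s⁻¹ * b⁻¹) by group, map_mul,
      (hconjS b (hCn b hb) _ (inv_mem hs)).2, ← map_mul, mul_inv_cancel, map_one]⟩
  have hodd : Odd q := (Fact.out : q.Prime).odd_of_ne_two hq
  have hordK : ∀ a ∈ C, ((orderOf a : ℕ) : K) ≠ 0 := fun a ha => by
    obtain ⟨i, hi⟩ := hC ⟨a, ha⟩
    obtain ⟨j, -, hj⟩ := (Nat.dvd_prime_pow (Fact.out : q.Prime)).1
      (orderOf_dvd_of_pow_eq_one (congrArg Subtype.val hi))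
    rw [hj, Nat.cast_pow]
    refine pow_ne_zero _ fun h => ?_
    rw [CharP.cast_eq_zero_iff K 2] at h
    exact hq ((Nat.prime_dvd_prime_iff_eq Nat.prime_two Fact.out).1 h).symm
  -- an element whose square is scalar is scalar
  have hsq : ∀ a ∈ C, a * a ∈ S → a ∈ S := by
    intro a ha h
    obtain ⟨k, hk⟩ := hodd
    obtain ⟨c, hc⟩ := hpow a ha
    have h1 : a ^ q ∈ S := (hS _).2 ⟨pow_mem ha _, c, hc⟩
    have h2 : a = ((a * a) ^ k)⁻¹ * a ^ q := by
      rw [← pow_two, ← pow_mul, hk, pow_succ (a) (2 * k), inv_mul_cancel_left]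
    rw [h2]; exact mul_mem (inv_mem (pow_mem h _)) h1
  have hRC : R ≤ C := fun a ha => ((hR a).1 ha).1
  have hRcomm : ∀ a ∈ R, ∀ b ∈ C, Commute (ρ a) (ρ b) := fun a ha b hb => by
    have h1 := ((hR a).1 ha).2 b hb
    show ρ a * ρ b = ρ b * ρ a
    rw [← map_mul, ← map_mul, show a * b = ⁅a, b⁆ * (b * a) by rw [commutatorElement_def]; group,
      map_mul, h1, one_mul]
  have hgR : g ∈ Subgroup.normalizer (R : Set G) := by
    refine Subgroup.mem_normalizer_fintype fun a ha => ?_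
    obtain ⟨haC, ha'⟩ := (hR a).1 ha
    refine (hR _).2 ⟨hnC hgC a haC, fun b hb => ?_⟩
    have hb' : g⁻¹ * b * g ∈ C := by simpa using hnC (inv_mem hgC) b hb
    rw [show ⁅g * a * g⁻¹, b⁆ = g * ⁅a, g⁻¹ * b * g⁆ * g⁻¹ by simp only [commutatorElement_def]; group,
      map_mul, map_mul, ha' _ hb', mul_one, ← map_mul, mul_inv_cancel, map_one]
  -- half the order fixes central elements
  have hzR : ∀ a ∈ R, ρ (z * a * z⁻¹) = ρ a := by
    intro a ha
    have he : z * a * z⁻¹ * a⁻¹ ∈ R :=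
      mul_mem ((Subgroup.mem_normalizer_iff.1 (hz ▸ pow_mem hgR _) a).1 ha) (inv_mem ha)
    have h1 : ρ (z * a * z⁻¹ * a⁻¹) = 1 := by
      refine eq_one_of_weights ρ R (fun u hu v hv => hRcomm u hu v (hRC hv)) _ he (hordK _ (hRC he))
        fun χ hχ => ?_
      obtain ⟨k, hkm, hfix, -⟩ := period ρ R g hgR m hgm hdeg χ hχ
      obtain ⟨w, hw, hw0⟩ := Submodule.exists_mem_ne_zero_of_ne_bot hχ
      have hmul : ∀ t, ∀ b ∈ R, χ ((g ^ (2 ^ k * t))⁻¹ * b * g ^ (2 ^ k * t)) = χ b := by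
        intro t
        induction t with
        | zero => intro b _; simp
        | succ t ih =>
          intro b hb
          have hb' : (g ^ (2 ^ k * t))⁻¹ * b * g ^ (2 ^ k * t) ∈ R := by
            simpa using (Subgroup.mem_normalizer_iff.1 (inv_mem (pow_mem hgR _)) b).1 hb
          rw [Nat.mul_succ, pow_add, show (g ^ (2 ^ k * t) * g ^ 2 ^ k)⁻¹ * b *
            (g ^ (2 ^ k * t) * g ^ 2 ^ k) =
            (g ^ 2 ^ k)⁻¹ * ((g ^ (2 ^ k * t))⁻¹ * b * g ^ (2 ^ k * t)) * g ^ 2 ^ k by group,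
            hfix _ hb', ih b hb]
      have hzfix : ∀ b ∈ R, χ (z⁻¹ * b * z) = χ b := fun b hb => by
        have := hmul (2 ^ (m - 1 - k)) b hb
        rwa [← pow_add, Nat.add_sub_cancel' (by omega : k ≤ m - 1), ← hz] at this
      have h2 : χ (z * a * z⁻¹) = χ a := by
        have := hzfix _ ha
        rw [hzinv] at this ⊢
        exact this
      have h3 : ρ (z * a * z⁻¹ * a⁻¹) w = w := by
        rw [map_mul, Module.End.mul_apply, mem_wt.1 hw _ (inv_mem ha), map_smul,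
          mem_wt.1 hw _ ((Subgroup.mem_normalizer_iff.1 (hz ▸ pow_mem hgR _) a).1 ha), h2, smul_smul]
        have h4 : ρ (a⁻¹ * a) w = w := by rw [inv_mul_cancel, map_one, Module.End.one_apply]
        rw [map_mul, Module.End.mul_apply, mem_wt.1 hw a ha, map_smul, mem_wt.1 hw _ (inv_mem ha),
          smul_smul, mul_comm] at h4
        exact h4
      rw [mem_wt.1 hw _ he] at h3
      exact smul_left_injective K hw0 (h3.trans (one_smul K w).symm)
    calc ρ (z * a * z⁻¹) = ρ (z * a * z⁻¹ * a⁻¹) * ρ a := by rw [← map_mul, inv_mul_cancel_right]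
      _ = ρ a := by rw [h1, one_mul]
  -- the inverted part
  obtain ⟨Q, hQ⟩ : ∃ Q : Subgroup G, ∀ a, a ∈ Q ↔ a ∈ C ∧ z * a * z⁻¹ * a ∈ S := by
    have hmul : ∀ {a b}, a ∈ C → z * a * z⁻¹ * a ∈ S → b ∈ C → z * b * z⁻¹ * b ∈ S →
        z * (a * b) * z⁻¹ * (a * b) ∈ S := by
      intro a b ha ha' hb hb'
      have e : z * (a * b) * z⁻¹ * (a * b) = ((z * a * z⁻¹) * ⁅z * b * z⁻¹, a⁆ * (z * a * z⁻¹)⁻¹) *
          (z * a * z⁻¹ * a) * (z * b * z⁻¹ * b) := by
        simp only [commutatorElement_def]; group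
      rw [e]
      exact mul_mem (mul_mem (hconjS _ (hCn _ (hnC hzC a ha)) _ (hcS _ (hnC hzC b hb) _ ha)).1 ha') hb'
    exact ⟨{ carrier := {a | a ∈ C ∧ z * a * z⁻¹ * a ∈ S}
             one_mem' := ⟨one_mem _, by simp⟩
             mul_mem' := fun {a b} ha hb => ⟨mul_mem ha.1 hb.1, hmul ha.1 ha.2 hb.1 hb.2⟩
             inv_mem' := fun {a} ha => by
              refine ⟨inv_mem ha.1, ?_⟩
              have e2 : z * a⁻¹ * z⁻¹ * a⁻¹ = ⁅z * a⁻¹ * z⁻¹, a⁻¹⁆ * (z * a * z⁻¹ * a)⁻¹ := by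
                simp only [commutatorElement_def]; group
              rw [e2]
              exact mul_mem (hcS _ (hnC hzC _ (inv_mem ha.1)) _ (inv_mem ha.1)) (inv_mem ha.2) },
      fun a => Iff.rfl⟩
  have hQC : Q ≤ C := fun a ha => ((hQ a).1 ha).1
  have hQR : ∀ a ∈ Q, a ∈ R → a ∈ S := by
    intro a ha haR
    refine hsq a (hQC ha) ((hS _).2 ⟨mul_mem (hQC ha) (hQC ha), ?_⟩)
    obtain ⟨-, c, hc⟩ := (hS _).1 ((hQ a).1 ha).2
    exact ⟨c, by rw [map_mul, ← hzR a haR, hzR a haR, ← hc, map_mul, hzR a haR]⟩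
  have hSQ : S ≤ Q := fun s hs => (hQ s).2 ⟨((hS s).1 hs).1, mul_mem (hconjS z hzC s hs).1 hs⟩
  have hdiff : ∀ c ∈ C, z * c * z⁻¹ * c⁻¹ ∈ Q := by
    intro c hc
    refine (hQ _).2 ⟨mul_mem (hnC hzC c hc) (inv_mem hc), ?_⟩
    have e : z * (z * c * z⁻¹ * c⁻¹) * z⁻¹ * (z * c * z⁻¹ * c⁻¹) =
        (z * z) * c * (z * z)⁻¹ * c⁻¹ := by group
    rw [e, hz2, one_mul, inv_one, mul_one, mul_inv_cancel]
    exact one_mem _
  have hcinv : ∀ {c : K}, c * c = 1 → c = 1 := fun {c} h => by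
    have : (c - 1) ^ 2 = 0 := by
      rw [sub_sq, one_pow, mul_one, pow_two, h, show (2 : K) = 0 from CharTwo.two_eq_zero, zero_mul,
        sub_zero]
      exact CharTwo.add_self_eq_zero 1
    exact sub_eq_zero.1 (pow_eq_zero_iff two_ne_zero |>.1 this)
  -- elements of `Q` which commute with `Q` are scalars
  have hQS : ∀ a ∈ Q, (∀ b ∈ Q, ρ ⁅a, b⁆ = 1) → a ∈ S := by
    intro a ha h
    refine hQR a ha ((hR a).2 ⟨hQC ha, fun d hd => ?_⟩)
    obtain ⟨c, hc⟩ := hcomm a (hQC ha) d hd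
    have hzd : ρ ⁅a, z * d * z⁻¹⁆ = c • 1 := by
      rw [show ⁅a, z * d * z⁻¹⁆ = ⁅a, z * d * z⁻¹ * d⁻¹⁆ *
        ((z * d * z⁻¹ * d⁻¹) * ⁅a, d⁆ * (z * d * z⁻¹ * d⁻¹)⁻¹) by
          simp only [commutatorElement_def]; group, map_mul, h _ (hdiff d hd), one_mul, ← hc]
      exact (hconjS _ (hCn _ (hQC (hdiff d hd))) _ (hcS a (hQC ha) d hd)).2
    obtain ⟨-, c₁, hc₁⟩ := (hS _).1 ((hQ a).1 ha).2
    have hzz : ρ ⁅z * a * z⁻¹, z * d * z⁻¹⁆ = c • 1 := by
      rw [show ⁅z * a * z⁻¹, z * d * z⁻¹⁆ = z * ⁅a, d⁆ * z⁻¹ by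
        simp only [commutatorElement_def]; group, ← hc]
      exact (hconjS _ hzC _ (hcS a (hQC ha) d hd)).2
    have hsR := ((hR _).1 (hSR ((hQ a).1 ha).2)).2 (z * d * z⁻¹) (hnC hzC d hd)
    rw [show ⁅z * a * z⁻¹ * a, z * d * z⁻¹⁆ = (z * a * z⁻¹) * ⁅a, z * d * z⁻¹⁆ * (z * a * z⁻¹)⁻¹ *
      ⁅z * a * z⁻¹, z * d * z⁻¹⁆ by simp only [commutatorElement_def]; group, map_mul,
      (hconjS _ (hCn _ (hnC hzC a (hQC ha))) _ (hcS a (hQC ha) _ (hnC hzC d hd))).2, hzd, hzz,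
      smul_mul_assoc, one_mul, smul_smul] at hsR
    rw [hc, hcinv (smul_one_injective (W := W) (hsR.trans (one_smul K _).symm)), one_smul]
  obtain ⟨c₀, hc₀, hc₀R⟩ : ∃ c ∈ C, z * c * z⁻¹ * c⁻¹ ∉ R := by
    by_contra h
    push Not at h
    exact hall h
  have hgS : ∀ a ∈ S, g * a * g⁻¹ ∈ S := fun a ha => (hconjS g hgC a ha).1
  have hgQ : g ∈ Subgroup.normalizer (Q : Set G) := by
    refine Subgroup.mem_normalizer_fintype fun a ha => ?_
    obtain ⟨haC, haS⟩ := (hQ a).1 ha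
    refine (hQ _).2 ⟨hnC hgC a haC, ?_⟩
    have hzg : z * g = g * z := by rw [hz]; exact (Commute.self_pow g _).symm.eq
    have e : z * (g * a * g⁻¹) * z⁻¹ * (g * a * g⁻¹) = g * (z * a * z⁻¹ * a) * g⁻¹ := by
      calc _ = (z * g) * a * (z * g)⁻¹ * (g * a * g⁻¹) := by group
        _ = (g * z) * a * (g * z)⁻¹ * (g * a * g⁻¹) := by rw [hzg]
        _ = _ := by group
    rw [e]; exact hgS _ haS
  -- a simple submodule for `Q` and `g`
  obtain ⟨G0, hG0⟩ : ∃ G0, G0 = Q ⊔ Subgroup.zpowers g := ⟨_, rfl⟩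
  have hQG0 : Q ≤ G0 := hG0 ▸ le_sup_left
  have hgG0 : g ∈ G0 := hG0 ▸ Subgroup.mem_sup_right (Subgroup.mem_zpowers g)
  obtain ⟨U, hU, hUs⟩ := exists_simple (ρ.comp G0.subtype)
  haveI := hUs.1
  obtain ⟨σ, hσ⟩ : ∃ σ : G0 →* Module.End K U, σ = subRep (ρ.comp G0.subtype) U hU := ⟨_, rfl⟩
  rw [← hσ] at hUs
  have hσa : ∀ (a : G0) (u : U), ((σ a u : U) : W) = ρ (a : G) u := fun a u => by rw [hσ]; rfl
  obtain ⟨g0, hg0⟩ : ∃ g0 : G0, (g0 : G) = g := ⟨⟨g, hgG0⟩, rfl⟩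
  have hσsc : ∀ (a : G0) (c : K), ρ (a : G) = c • 1 → σ a = c • 1 := fun a c h =>
    LinearMap.ext fun u => Subtype.ext (by rw [hσa, h]; rfl)
  have hscalar : ∀ a ∈ Q.subgroupOf G0,
      (∀ b ∈ Q.subgroupOf G0, Commute (σ a) (σ b)) → (a : G) ∈ S := by
    intro a ha h
    refine hQS _ ha fun b hb => ?_
    obtain ⟨c, hc⟩ := hcomm (a : G) (hQC ha) b (hQC hb)
    obtain ⟨b0, hb0⟩ : ∃ b0 : G0, (b0 : G) = b := ⟨⟨b, hQG0 hb⟩, rfl⟩
    have h1 : σ ⁅a, b0⁆ = c • 1 := hσsc _ c (by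
      rw [show ((⁅a, b0⁆ : G0) : G) = ⁅(a : G), b⁆ from hb0 ▸ map_commutatorElement G0.subtype a b0, hc])
    have h2 : σ ⁅a, b0⁆ = 1 := by
      rw [show ⁅a, b0⁆ = a * b0 * (b0 * a)⁻¹ by rw [commutatorElement_def]; group, map_mul, map_mul,
        (h b0 (Subgroup.mem_subgroupOf.2 (hb0 ▸ hb))).eq, ← map_mul, ← map_mul, mul_inv_cancel, map_one]
    rw [h1] at h2
    rw [hc, smul_one_injective (h2.trans (one_smul K _).symm), one_smul]
  have hirr : ∀ X : Submodule K U, (∀ a ∈ Q.subgroupOf G0, ∀ u ∈ X, σ a u ∈ X) →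
      (∀ u ∈ X, σ g0 u ∈ X) → X = ⊥ ∨ X = ⊤ := by
    intro X hXQ hXg
    obtain ⟨St, hSt⟩ := ThmB.exists_stab σ X
    refine hUs.2 X fun a => (hSt a).1 ?_
    have hle : G0 ≤ St.map G0.subtype := by
      conv_lhs => rw [hG0]
      refine sup_le (fun b hb => ⟨⟨b, hQG0 hb⟩, (hSt _).2 (hXQ _ hb), rfl⟩) ?_
      rw [Subgroup.zpowers_le]
      exact ⟨g0, (hSt _).2 hXg, hg0⟩
    obtain ⟨a', ha', he⟩ := hle a.2
    rwa [← Subtype.ext he]
  have hcl : ∀ a ∈ Q.subgroupOf G0, ∀ b ∈ Q.subgroupOf G0, ∀ c ∈ Q.subgroupOf G0,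
      Commute (σ ⁅a, b⁆) (σ c) := by
    intro a ha b hb c _
    obtain ⟨d, hd⟩ := hcomm _ (hQC ha) _ (hQC hb)
    rw [hσsc ⁅a, b⁆ d hd]
    exact (Commute.one_left _).smul_left d
  have hg0n : g0 ∈ Subgroup.normalizer ((Q.subgroupOf G0 : Subgroup G0) : Set G0) := by
    refine Subgroup.mem_normalizer_iff.2 fun a => ?_
    simp only [Subgroup.mem_subgroupOf, Subgroup.coe_mul, InvMemClass.coe_inv, hg0]
    exact Subgroup.mem_normalizer_iff.1 hgQ a
  have hσgm : σ g0 ^ 2 ^ m = 1 := by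
    rw [← map_pow, show g0 ^ 2 ^ m = 1 from Subtype.ext (by
      rw [SubmonoidClass.coe_pow, hg0, hgm, OneMemClass.coe_one]), map_one]
  obtain ⟨τ, hτ⟩ : ∃ τ : G0 →* (Module.End K U)ˣ, τ = σ.toHomUnits := ⟨_, rfl⟩
  obtain ⟨G1, hG1⟩ : ∃ G1 : Subgroup (Module.End K U)ˣ, G1 = τ.range := ⟨_, rfl⟩
  haveI : Finite G1 := hG1 ▸ Finite.of_surjective _ τ.rangeRestrict_surjective
  obtain ⟨θ, hθ, hθs⟩ : ∃ θ : G0 →* G1, (∀ a, ((θ a : (Module.End K U)ˣ) : Module.End K U) = σ a) ∧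
      Function.Surjective θ := by
    subst hG1 hτ
    exact ⟨σ.toHomUnits.rangeRestrict, fun _ => rfl, MonoidHom.rangeRestrict_surjective _⟩
  obtain ⟨π, hπ⟩ : ∃ π : G1 →* Module.End K U, π = (Units.coeHom _).comp G1.subtype := ⟨_, rfl⟩
  have hπθ : ∀ a, π (θ a) = σ a := fun a => by rw [hπ]; exact hθ a
  have hπinj : Function.Injective π := by
    rw [hπ]; exact Units.val_injective.comp Subtype.val_injective
  obtain ⟨Q1, hQ1⟩ : ∃ Q1, Q1 = (Q.subgroupOf G0).map θ := ⟨_, rfl⟩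
  have hQ1p : IsPGroup q Q1 := hQ1 ▸ ((hC.to_le hQC).comap_subtype).map θ
  have hgQ1 : θ g0 ∈ Subgroup.normalizer (Q1 : Set G1) := by
    refine Subgroup.mem_normalizer_fintype fun w hw => ?_
    rw [hQ1] at hw ⊢
    obtain ⟨a, ha, rfl⟩ := hw
    exact ⟨g0 * a * g0⁻¹, (Subgroup.mem_normalizer_iff.1 hg0n a).1 ha, by
      rw [map_mul, map_mul, map_inv]⟩
  have hsimple : IsSimpleRep (π.comp Q1.subtype) := by
    refine ThmB.simple_of_homogeneous (p := 2) hq Q1 hQ1p ?_ (θ g0) hgQ1 π ?_ (Nat.two_pow_pos m)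
      (by rw [hπθ]; exact hσgm) ?_
    · rw [hQ1]
      rintro _ ⟨a, ha, rfl⟩ _ ⟨b, hb, rfl⟩ _ ⟨c, hc, rfl⟩
      refine hπinj ?_
      rw [map_mul, map_mul, ← map_commutatorElement θ, hπθ, hπθ]
      exact (hcl a ha b hb c hc).eq
    · intro X hXQ hXg
      refine hirr X (fun a ha u hu => ?_) (fun u hu => ?_)
      · rw [← hπθ]; exact hXQ _ (hQ1 ▸ Subgroup.mem_map_of_mem θ ha) u hu
      · rw [← hπθ]; exact hXg u hu
    · rintro w hw h
      rw [hQ1] at hw
      obtain ⟨a, ha, rfl⟩ := hw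
      obtain ⟨-, c, hc⟩ := (hS _).1 (hscalar a ha fun b hb => by
        rw [← hπθ, ← hπθ]; exact h _ (hQ1 ▸ Subgroup.mem_map_of_mem θ hb))
      exact ⟨c, by rw [hπθ]; exact hσsc a c hc⟩
  have hQsimple : IsSimpleRep (σ.comp (Q.subgroupOf G0).subtype) := ⟨hUs.1, fun X hX => by
    refine hsimple.2 X fun w u hu => ?_
    obtain ⟨a, ha, he⟩ := hQ1.le w.2
    show π (w : G1) u ∈ X
    rw [← he, hπθ]
    exact hX ⟨a, ha⟩ u hu⟩
  -- the critical bound
  have hex : ∃ s, (σ g0 - 1) ^ s = 0 := ⟨2 ^ m - 1, LinearMap.ext fun u => Subtype.ext (by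
    have h2 : ∀ (i : ℕ) (u : U), ((((σ g0 - 1) ^ i) u : U) : W) = ((ρ g - 1) ^ i) (u : W) := by
      intro i
      induction i with
      | zero => intro u; simp
      | succ i ihi =>
        intro u
        rw [pow_succ', pow_succ', Module.End.mul_apply, Module.End.mul_apply, LinearMap.sub_apply,
          LinearMap.sub_apply, Module.End.one_apply, Module.End.one_apply,
          AddSubgroupClass.coe_sub, hσa, hg0, ihi]
    rw [h2, hdeg]; rfl)⟩
  obtain ⟨s, hs⟩ : ∃ s, s = Nat.find hex := ⟨_, rfl⟩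
  have hsN : (σ g0 - 1) ^ s = 0 := hs ▸ Nat.find_spec hex
  have hmin : ∀ k < s, (σ g0 - 1) ^ k ≠ 0 := fun k hk => Nat.find_min hex (hs ▸ hk)
  have hslt : s < 2 ^ m := by
    by_contra h
    push Not at h
    obtain ⟨s₀, hs₀⟩ := hex
    have h1 : (σ g0 - 1) ^ (2 ^ m - 1) ≠ 0 :=
      hmin _ (by have := Nat.one_le_two_pow (n := m); omega)
    refine h1 (LinearMap.ext fun u => Subtype.ext ?_)
    have h2 : ∀ (i : ℕ) (u : U), ((((σ g0 - 1) ^ i) u : U) : W) = ((ρ g - 1) ^ i) (u : W) := by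
      intro i
      induction i with
      | zero => intro u; simp
      | succ i ihi =>
        intro u
        rw [pow_succ', pow_succ', Module.End.mul_apply, Module.End.mul_apply, LinearMap.sub_apply,
          LinearMap.sub_apply, Module.End.one_apply, Module.End.one_apply,
          AddSubgroupClass.coe_sub, hσa, hg0, ihi]
    rw [h2, hdeg]; rfl
  have hfree : ∀ a ∈ Q.subgroupOf G0, ∀ i, 0 < i → i < 2 ^ m → g0 ^ i * a * (g0 ^ i)⁻¹ = a →
      ∃ c : K, σ a = c • 1 := by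
    intro a ha i hi hi' hfix
    have hG : g ^ i * (a : G) * (g ^ i)⁻¹ = a := by
      have := congrArg Subtype.val hfix
      simpa [hg0] using this
    have hc : Commute (g ^ i) (a : G) := mul_inv_eq_iff_eq_mul.1 hG
    obtain ⟨v, hv, hgcd⟩ := (Nat.dvd_prime_pow Nat.prime_two).1 (Nat.gcd_dvd_right i (2 ^ m))
    have hvm : v ≤ m - 1 := by
      by_contra hlt
      have : v = m := by omega
      rw [this] at hgcd
      have := Nat.le_of_dvd hi (hgcd ▸ Nat.gcd_dvd_left i (2 ^ m))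
      omega
    obtain ⟨t, ht⟩ : ∃ t, (g ^ i) ^ t = g ^ 2 ^ v := by
      rcases Nat.eq_or_lt_of_le (Nat.one_le_two_pow (n := m)) with h1 | h1
      · omega
      obtain ⟨t, -, ht⟩ := Nat.exists_mul_mod_eq_gcd (n := i) (k := 2 ^ m)
        (lt_of_le_of_lt (Nat.gcd_le_left _ hi) hi')
      refine ⟨t, ?_⟩
      rw [← pow_mul, ← hgcd, ← ht]
      conv_lhs => rw [← Nat.mod_add_div (i * t) (2 ^ m), pow_add, pow_mul, hgm, one_pow, mul_one]
    have hcz : Commute z (a : G) := by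
      rw [hz, show 2 ^ (m - 1) = 2 ^ v * 2 ^ (m - 1 - v) by rw [← pow_add, Nat.add_sub_cancel' hvm],
        pow_mul, ← ht]
      exact (hc.pow_left _).pow_left _
    have hzfix : z * (a : G) * z⁻¹ = a := by rw [hcz.eq, mul_inv_cancel_right]
    obtain ⟨haC, haS⟩ := (hQ _).1 (Subgroup.mem_subgroupOf.1 ha)
    rw [hzfix] at haS
    obtain ⟨-, c, hc'⟩ := (hS _).1 (hsq _ haC haS)
    exact ⟨c, hσsc a c hc'⟩
  have hxn : ∀ a ∈ Q.subgroupOf G0, g0 ^ 2 ^ m * a * (g0 ^ 2 ^ m)⁻¹ = a := fun a _ => by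
    rw [show g0 ^ 2 ^ m = 1 from Subtype.ext (by
      rw [SubmonoidClass.coe_pow, hg0, hgm, OneMemClass.coe_one]), inv_one, one_mul, mul_one]
  obtain ⟨e₀, he₀, he₀S⟩ : ∃ a : G0, (a : G) = z * c₀ * z⁻¹ * c₀⁻¹ ∧ (a : G) ∉ S :=
    ⟨⟨_, hQG0 (hdiff c₀ hc₀)⟩, rfl, fun h => hc₀R (hSR h)⟩
  have hne : ¬ (σ g0 = 1) := by
    intro h1
    refine he₀S (hscalar e₀ (Subgroup.mem_subgroupOf.2 (he₀ ▸ hdiff c₀ hc₀)) fun b hb => ?_)
    have hz0 : ∀ a : G0, σ (g0 ^ 2 ^ (m - 1) * a * (g0 ^ 2 ^ (m - 1))⁻¹) = σ a := fun a => by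
      rw [map_mul, map_mul, map_pow, h1, one_pow, one_mul]
      have : σ ((g0 ^ 2 ^ (m - 1))⁻¹) = 1 := by
        have h3 : σ ((g0 ^ 2 ^ (m - 1))⁻¹) * σ (g0 ^ 2 ^ (m - 1)) = 1 := by
          rw [← map_mul, inv_mul_cancel, map_one]
        rwa [map_pow, h1, one_pow, mul_one] at h3
      rw [this, mul_one]
    -- every element of `Q` acts as a scalar
    obtain ⟨haC, haS⟩ := (hQ _).1 (Subgroup.mem_subgroupOf.1 hb)
    obtain ⟨-, c, hc⟩ := (hS _).1 haS
    have h4 := hσsc (g0 ^ 2 ^ (m - 1) * b * (g0 ^ 2 ^ (m - 1))⁻¹ * b) c (by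
      simp only [Subgroup.coe_mul, InvMemClass.coe_inv, SubmonoidClass.coe_pow, hg0, ← hz]
      exact hc)
    rw [map_mul, hz0] at h4
    obtain ⟨k, hk⟩ := hodd
    obtain ⟨c', hc'⟩ := hpow _ haC
    have h5 : σ b * (σ b * σ b) ^ k = c' • 1 := by
      rw [← pow_two, ← pow_mul, ← pow_succ', ← hk, ← map_pow]
      exact hσsc _ c' (by rw [SubmonoidClass.coe_pow]; exact hc')
    rw [h4, smul_pow, one_pow, mul_smul_comm, mul_one] at h5
    have hcne : c ^ k ≠ 0 := pow_ne_zero _ fun h0 => by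
      rw [h0, zero_smul] at h4
      obtain ⟨u, hu0⟩ := exists_ne (0 : U)
      have h9 := rep_injective σ b
      refine hu0 (h9 (h9 ?_))
      rw [← Module.End.mul_apply, h4, map_zero, map_zero]
      rfl
    have h6 : σ b = (c' / c ^ k) • 1 := by
      rw [div_eq_inv_mul, ← smul_smul, ← h5, inv_smul_smul₀ hcne]
    rw [h6]
    exact (Commute.one_right _).smul_right _
  obtain ⟨-, hcase⟩ := ThmB.core (p := 2) (q := q) hq (Q.subgroupOf G0) ((hC.to_le hQC).comap_subtype)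
    hg0n σ hQsimple m hσgm hfree hxn s hsN hmin
  rcases hcase with h | h | ⟨hPs, hD, hs2, ⟨b, hb⟩, -⟩
  · omega
  · exact absurd h hne
  have hm2 : 2 ≤ m := by
    by_contra h
    obtain rfl : m = 1 := by omega
    omega
  have hpos := Nat.one_le_two_pow (n := m)
  obtain rfl : b = 1 := mersenne_pow_eq_one hodd hm2 (by omega)
  rw [pow_one] at hb
  have hDq : Module.finrank K U = q := by omega
  refine ⟨hm2, by omega, Q, hQC, ?_, ?_, fun a ha => hSR ((hQ a).1 ha).2⟩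
  · -- the plane
    have hSRQ : R.relIndex Q = S.relIndex Q := by
      rw [← Subgroup.inf_relIndex_right R Q, ← Subgroup.inf_relIndex_right S Q]
      congr 1
      exact le_antisymm (fun a ha => ⟨hQR a ha.2 ha.1, ha.2⟩) (inf_le_inf_right _ hSR)
    rw [hSRQ]
    obtain ⟨i, hi⟩ : ∃ i, S.relIndex Q = q ^ i := by
      obtain ⟨j, hj⟩ := (hC.to_le hQC).exists_card_eq
      have hd : S.relIndex Q ∣ q ^ j := hj ▸ Subgroup.index_dvd_card _
      obtain ⟨i, -, hi⟩ := (Nat.dvd_prime_pow (Fact.out : q.Prime)).1 hd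
      exact ⟨i, hi⟩
    have hle : S.relIndex Q ≤ q * q := by
      haveI : Fintype (Q ⧸ S.subgroupOf Q) := Fintype.ofFinite _
      obtain ⟨r, hr⟩ : ∃ r : Q ⧸ S.subgroupOf Q → Q, ∀ t, QuotientGroup.mk (r t) = t :=
        ⟨Quotient.out, fun t => Quotient.out_eq t⟩
      have hind : LinearIndependent K (fun t => σ ⟨(r t : G), hQG0 (r t).2⟩) := by
        rw [Fintype.linearIndependent_iff]
        intro l hl t₀
        have h1 := congrArg (fun M => LinearMap.trace K U (M * σ ⟨(r t₀ : G), hQG0 (r t₀).2⟩⁻¹)) hl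
        simp only [Finset.sum_mul, zero_mul, map_zero, map_sum, smul_mul_assoc, map_smul, smul_eq_mul,
          ← map_mul] at h1
        rw [Finset.sum_eq_single t₀] at h1
        · rw [mul_inv_cancel, map_one, LinearMap.trace_one, hDq, mul_eq_zero] at h1
          refine h1.resolve_right fun h2 => ?_
          rw [CharP.cast_eq_zero_iff K 2, ← even_iff_two_dvd] at h2
          exact Nat.not_even_iff_odd.2 hodd h2
        · intro t _ ht
          obtain ⟨a, ha⟩ : ∃ a : G0, a = ⟨(r t : G), hQG0 (r t).2⟩ * ⟨(r t₀ : G), hQG0 (r t₀).2⟩⁻¹ :=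
            ⟨_, rfl⟩
          rw [← ha]
          have haQ : (a : G) ∈ Q := by rw [ha]; exact mul_mem (r t).2 (inv_mem (r t₀).2)
          have haS : (a : G) ∉ S := by
            intro h
            refine ht ?_
            rw [← hr t, ← hr t₀, eq_comm, QuotientGroup.eq, Subgroup.mem_subgroupOf]
            have h2 := (hconjS _ (inv_mem (hCn _ (hQC (r t₀).2))) _ h).1
            rw [ha] at h2
            simpa [mul_assoc] using h2
          obtain ⟨b, hb', hcb⟩ : ∃ b ∈ Q.subgroupOf G0, ¬ Commute (σ a) (σ b) := by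
            by_contra h
            push Not at h
            exact haS (hscalar a (Subgroup.mem_subgroupOf.2 haQ) h)
          obtain ⟨c, hc⟩ := hcomm (a : G) (hQC haQ) (b : G) (hQC (Subgroup.mem_subgroupOf.1 hb'))
          have h3 : σ ⁅a, b⁆ = c • 1 := hσsc _ c (by rw [← hc]; exact congrArg ρ (map_commutatorElement G0.subtype a b))
          have h4 : σ a * σ b = c • (σ b * σ a) := by
            rw [← map_mul, show a * b = ⁅a, b⁆ * (b * a) by rw [commutatorElement_def]; group,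
              map_mul σ ⁅a, b⁆, h3, smul_mul_assoc, one_mul, map_mul]
          have h5 : σ a = c • (σ b * σ a * σ b⁻¹) := by
            rw [← smul_mul_assoc, ← h4, mul_assoc, ← map_mul σ b, mul_inv_cancel, map_one, mul_one]
          have h6 := congrArg (LinearMap.trace K U) h5
          rw [map_smul, LinearMap.trace_mul_comm, ← mul_assoc, ← map_mul σ b⁻¹, inv_mul_cancel, map_one,
            one_mul, smul_eq_mul] at h6
          rcases eq_or_ne (LinearMap.trace K U (σ a)) 0 with h7 | h7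
          · rw [h7, mul_zero]
          · have hc1 : c = 1 := mul_right_cancel₀ h7 (h6.symm.trans (one_mul _).symm)
            rw [hc1, one_smul] at h4
            exact absurd h4 hcb
        · simp
      have h1 := hind.fintype_card_le_finrank
      rw [Module.finrank_linearMap, hDq, ← Nat.card_eq_fintype_card] at h1
      exact h1
    rcases Nat.lt_or_ge i 2 with hlt | hge
    · exfalso
      haveI hSn : (S.subgroupOf Q).Normal := ⟨fun s hs a => by
        rw [Subgroup.mem_subgroupOf] at hs ⊢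
        exact (hconjS a (hCn a (hQC a.2)) s hs).1⟩
      have hcyc : IsCyclic (Q ⧸ S.subgroupOf Q) := by
        rcases Nat.lt_or_ge i 1 with h0 | h0
        · obtain rfl : i = 0 := by omega
          rw [pow_zero] at hi
          haveI : Subsingleton (Q ⧸ S.subgroupOf Q) := (Nat.card_eq_one_iff_unique.1 hi).1
          infer_instance
        · obtain rfl : i = 1 := by omega
          exact isCyclic_of_prime_card (p := q) (hi.trans (pow_one q))
      obtain ⟨t, ht⟩ := hcyc.exists_generator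
      obtain ⟨a, rfl⟩ := QuotientGroup.mk_surjective t
      have hpair : ∀ b ∈ Q, ∃ (j : ℤ) (s : G), s ∈ S ∧ b = (a : G) ^ j * s := by
        intro b hb
        obtain ⟨j, hj⟩ := Subgroup.mem_zpowers_iff.1 (ht (QuotientGroup.mk ⟨b, hb⟩))
        rw [← QuotientGroup.mk_zpow, QuotientGroup.eq, Subgroup.mem_subgroupOf] at hj
        exact ⟨j, _, hj, by simp⟩
      refine he₀S (hscalar e₀ (Subgroup.mem_subgroupOf.2 (he₀ ▸ hdiff c₀ hc₀)) fun b hb => ?_)
      obtain ⟨j, s, hs, h1⟩ := hpair _ (he₀ ▸ hdiff c₀ hc₀ : (e₀ : G) ∈ Q)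
      obtain ⟨j', s', hs', h2⟩ := hpair _ (Subgroup.mem_subgroupOf.1 hb)
      have hρc : Commute (ρ (e₀ : G)) (ρ (b : G)) := by
        rw [h1, h2]
        obtain ⟨-, c, hc⟩ := (hS _).1 hs
        obtain ⟨-, c', hc'⟩ := (hS _).1 hs'
        simp only [map_mul, hc, hc']
        refine Commute.mul_left (Commute.mul_right ?_ ((Commute.one_right _).smul_right _))
          ((Commute.one_left _).smul_left _)
        exact ((Commute.refl (a : G)).zpow_zpow j j').map ρ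
      exact LinearMap.ext fun u => Subtype.ext (by
        simp only [Module.End.mul_apply, hσa]
        exact LinearMap.congr_fun hρc.eq _)
    · have : q ^ i ≤ q ^ 2 := by rw [pow_two, ← hi]; exact hle
      have := (Nat.pow_le_pow_iff_right (Fact.out : q.Prime).one_lt).1 this
      rw [hi, show i = 2 by omega]
  · -- the fixed part is fixed by `g` as well
    have hC0 : ∀ d ∈ C, z * d * z⁻¹ * d⁻¹ ∈ S → ∀ b ∈ Q, ρ ⁅d, b⁆ = 1 := by
      intro d hd hdS b hb
      obtain ⟨c, hc⟩ := hcomm d hd b (hQC hb)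
      obtain ⟨hbC, hbS⟩ := (hQ b).1 hb
      have hzb : z * b * z⁻¹ ∈ C := hnC hzC b hbC
      have e1 : ρ ⁅d, z * b * z⁻¹⁆ = c • 1 := by
        have e2 : ρ ⁅z * d * z⁻¹, z * b * z⁻¹⁆ = c • 1 := by
          rw [show ⁅z * d * z⁻¹, z * b * z⁻¹⁆ = z * ⁅d, b⁆ * z⁻¹ by
            simp only [commutatorElement_def]; group, ← hc]
          exact (hconjS z hzC _ (hcS d hd b hbC)).2
        rw [show ⁅z * d * z⁻¹, z * b * z⁻¹⁆ = (z * d * z⁻¹ * d⁻¹) * ⁅d, z * b * z⁻¹⁆ *
          (z * d * z⁻¹ * d⁻¹)⁻¹ * ⁅z * d * z⁻¹ * d⁻¹, z * b * z⁻¹⁆ by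
            simp only [commutatorElement_def]; group, map_mul,
          ((hR _).1 (hSR hdS)).2 _ hzb, mul_one,
          (hconjS _ (hCn _ ((hS _).1 hdS).1) _ (hcS d hd _ hzb)).2] at e2
        exact e2
      have e3 : ρ ⁅d, z * b * z⁻¹ * b⁆ = 1 := by
        obtain ⟨-, c', hc'⟩ := (hS _).1 hbS
        rw [commutatorElement_def, map_mul, map_mul, map_mul, hc',
          mul_smul_comm, mul_one, smul_mul_assoc, ← map_mul, mul_inv_cancel, map_one,
          ← hc', ← map_mul, mul_inv_cancel, map_one]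
      rw [show ⁅d, z * b * z⁻¹ * b⁆ = ⁅d, z * b * z⁻¹⁆ * ((z * b * z⁻¹) * ⁅d, b⁆ * (z * b * z⁻¹)⁻¹) by
        simp only [commutatorElement_def]; group, map_mul, e1,
        (hconjS _ (hCn _ hzb) _ (hcS d hd b hbC)).2, hc, smul_mul_assoc, one_mul, smul_smul] at e3
      rw [hc, hcinv (smul_one_injective (W := W) (e3.trans (one_smul K _).symm)), one_smul]
    have hfixU : ∀ d ∈ C, z * d * z⁻¹ * d⁻¹ ∈ S → ∀ u : U, ρ (g * d * g⁻¹) (u : W) = ρ d u := by
      intro d hd hdS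
      obtain ⟨L, hL⟩ : ∃ L : Module.End K (U →ₗ[K] W),
          ∀ f u, L f u = ρ g (f (σ g0⁻¹ u)) :=
        ⟨{ toFun := fun f => (ρ g).comp (f.comp (σ g0⁻¹))
           map_add' := fun f f' => by ext u; simp
           map_smul' := fun r f => by ext u; simp }, fun f u => rfl⟩
      obtain ⟨f, hf⟩ : ∃ f : U →ₗ[K] W, f = (ρ d).comp U.subtype := ⟨_, rfl⟩
      suffices hfix : L f = f by
        intro u
        have h1 := LinearMap.congr_fun hfix u
        rw [hL, hf, LinearMap.comp_apply, LinearMap.comp_apply, Submodule.subtype_apply,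
          Submodule.subtype_apply, hσa, InvMemClass.coe_inv, hg0, ← Module.End.mul_apply,
          ← Module.End.mul_apply, ← map_mul, ← map_mul] at h1
        exact h1
      have hLi : ∀ (j : ℕ) (f : U →ₗ[K] W) (u : U), (L ^ j) f u = ρ (g ^ j) (f (σ ((g0 ^ j)⁻¹) u)) := by
        intro j
        induction j with
        | zero => intro f u; simp
        | succ j ih =>
          intro f u
          rw [pow_succ', Module.End.mul_apply, hL, ih, ← Module.End.mul_apply, ← map_mul, ← pow_succ',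
            ← Module.End.mul_apply (σ _), ← map_mul, ← mul_inv_rev, ← pow_succ']
      have hLN : L ^ 2 ^ m = 1 := LinearMap.ext fun f => LinearMap.ext fun u => by
        rw [hLi, hgm, map_one, show g0 ^ 2 ^ m = 1 from Subtype.ext (by
          rw [SubmonoidClass.coe_pow, hg0, hgm, OneMemClass.coe_one]), inv_one, map_one]
        rfl
      by_contra hne'
      have hex' : ∃ k, ((L - 1) ^ k : Module.End K (U →ₗ[K] W)) f = 0 := by
        haveI : Nontrivial (U →ₗ[K] W) := ⟨⟨L f, f, hne'⟩⟩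
        haveI : CharP (Module.End K (U →ₗ[K] W)) 2 :=
          charP_of_injective_algebraMap (FaithfulSMul.algebraMap_injective K _) 2
        refine ⟨2 ^ m, ?_⟩
        rw [sub_pow_char_pow_of_commute 2 m (Commute.one_right L), hLN, one_pow, sub_self,
          LinearMap.zero_apply]
      obtain ⟨k, hk⟩ : ∃ k, k = Nat.find hex' := ⟨_, rfl⟩
      have hk2 : 2 ≤ k := by
        by_contra h
        have h1 := hk ▸ Nat.find_spec hex'
        interval_cases k
        · rw [pow_zero, Module.End.one_apply] at h1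
          exact hne' (by rw [h1, map_zero])
        · rw [pow_one, LinearMap.sub_apply, Module.End.one_apply, sub_eq_zero] at h1
          exact hne' h1
      obtain ⟨f1, hf1⟩ : ∃ f1, f1 = ((L - 1) ^ (k - 2) : Module.End K (U →ₗ[K] W)) f := ⟨_, rfl⟩
      obtain ⟨f0, hf0⟩ : ∃ f0, f0 = ((L - 1) ^ (k - 1) : Module.End K (U →ₗ[K] W)) f := ⟨_, rfl⟩
      have hLf1 : L f1 = f1 + f0 := by
        rw [hf0, show k - 1 = k - 2 + 1 by omega, pow_succ', Module.End.mul_apply, ← hf1,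
          LinearMap.sub_apply, Module.End.one_apply, add_sub_cancel]
      have hLf0 : L f0 = f0 := by
        have h1 : ((L - 1) ^ k : Module.End K (U →ₗ[K] W)) f = 0 := hk ▸ Nat.find_spec hex'
        rw [show k = k - 1 + 1 by omega, pow_succ', Module.End.mul_apply, ← hf0, LinearMap.sub_apply,
          Module.End.one_apply, sub_eq_zero] at h1
        exact h1
      have hf0ne : f0 ≠ 0 := fun h => Nat.find_min hex' (m := k - 1) (by omega) (hf0 ▸ h)
      -- intertwining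
      have hint : ∀ j, ∀ a : Q.subgroupOf G0, ∀ u : U,
          ((L - 1) ^ j : Module.End K (U →ₗ[K] W)) f (σ (a : G0) u) = ρ ((a : G0) : G) (((L - 1) ^ j : Module.End K (U →ₗ[K] W)) f u) := by
        intro j
        induction j with
        | zero =>
          intro a u
          rw [pow_zero, Module.End.one_apply, hf, LinearMap.comp_apply, LinearMap.comp_apply,
            Submodule.subtype_apply, Submodule.subtype_apply, hσa, ← Module.End.mul_apply,
            ← Module.End.mul_apply, ← map_mul, ← map_mul,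
            show d * ((a : G0) : G) = ⁅d, ((a : G0) : G)⁆ * (((a : G0) : G) * d) by
              rw [commutatorElement_def]; group,
            map_mul ρ ⁅d, _⁆, hC0 d hd hdS _ (Subgroup.mem_subgroupOf.1 a.2), one_mul]
        | succ j ih =>
          intro a u
          obtain ⟨f', hf'⟩ : ∃ f', f' = ((L - 1) ^ j : Module.End K (U →ₗ[K] W)) f := ⟨_, rfl⟩
          rw [pow_succ', Module.End.mul_apply, ← hf', LinearMap.sub_apply, Module.End.one_apply,
            LinearMap.sub_apply, LinearMap.sub_apply, map_sub, hL, hL]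
          rw [← hf'] at ih
          rw [ih a u, ← Module.End.mul_apply (σ g0⁻¹), ← map_mul,
            show g0⁻¹ * (a : G0) = (g0⁻¹ * (a : G0) * g0) * g0⁻¹ by group, map_mul, Module.End.mul_apply]
          have hmem : g0⁻¹ * (a : G0) * g0 ∈ Q.subgroupOf G0 := by
            have := (Subgroup.mem_normalizer_iff.1 (inv_mem hg0n) (a : G0)).1 a.2
            simpa using this
          rw [ih ⟨_, hmem⟩]
          simp only [Subgroup.coe_mul, InvMemClass.coe_inv, hg0, ← Module.End.mul_apply, ← map_mul]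
          congr 2
          group
      have hinj0 : Function.Injective f0 := intertwiner_injective hQsimple f0 hf0ne
        (fun a => ρ ((a : G0) : G)) (fun a u => by rw [hf0]; exact hint (k - 1) a u)
      have hiter : ∀ (i : ℕ) (u : U), ρ (g ^ i) (f1 u) =
          f1 (σ (g0 ^ i) u) + (i : K) • f0 (σ (g0 ^ i) u) := by
        have hstep1 : ∀ u, ρ g (f1 u) = f1 (σ g0 u) + f0 (σ g0 u) := fun u => by
          rw [← LinearMap.add_apply, ← hLf1, hL, rep_inv_apply]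
        have hstep0 : ∀ u, ρ g (f0 u) = f0 (σ g0 u) := fun u => by
          conv_rhs => rw [← hLf0, hL, rep_inv_apply]
        intro i
        induction i with
        | zero => intro u; simp
        | succ i ih =>
          intro u
          rw [pow_succ', map_mul, Module.End.mul_apply, ih, map_add, map_smul, hstep1, hstep0,
            ← Module.End.mul_apply, ← map_mul, ← pow_succ', Nat.cast_succ, add_smul, one_smul]
          abel
      obtain ⟨T, hT⟩ : ∃ T, T = σ g0 := ⟨_, rfl⟩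
      have hsum : ∀ u : U, f0 ((∑ i ∈ Finset.range (2 ^ m), (i : K) • T ^ i) u) = 0 := by
        intro u
        have h1 : ∑ i ∈ Finset.range (2 ^ m), ρ (g ^ i) (f1 u) = 0 := by
          rw [← LinearMap.sum_apply]
          simp_rw [map_pow]
          rw [sum_pow_two, hdeg, LinearMap.zero_apply]
        simp only [hiter, Finset.sum_add_distrib] at h1
        simp only [map_pow, ← hT] at h1
        rw [← map_sum f1, ← LinearMap.sum_apply, sum_pow_two, hT,
          show 2 ^ m - 1 = s by omega, hsN, LinearMap.zero_apply, map_zero, zero_add] at h1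
        rw [← h1, LinearMap.sum_apply, map_sum, ← hT]
        simp
      have hzero : ∑ i ∈ Finset.range (2 ^ m), (i : K) • T ^ i = 0 :=
        LinearMap.ext fun u => hinj0 (by rw [hsum, LinearMap.zero_apply, map_zero])
      refine hmin (2 ^ m - 2) (by omega) ?_
      haveI : CharP (Module.End K U) 2 :=
        charP_of_injective_algebraMap (FaithfulSMul.algebraMap_injective K _) 2
      have h2m : 2 ^ m = 2 * 2 ^ (m - 1) := by rw [← pow_succ', Nat.sub_add_cancel hm1]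
      rw [h2m, sum_range_mul_aux, Finset.sum_range_succ, Finset.sum_range_one] at hzero
      have h0 : ∑ t ∈ Finset.range (2 ^ (m - 1)), ((2 * t + 0 : ℕ) : K) • T ^ (2 * t + 0) = 0 :=
        Finset.sum_eq_zero fun t _ => by
          rw [add_zero, Nat.cast_mul, Nat.cast_two, show (2 : K) = 0 from CharTwo.two_eq_zero, zero_mul,
            zero_smul]
      have h1 : ∑ t ∈ Finset.range (2 ^ (m - 1)), ((2 * t + 1 : ℕ) : K) • T ^ (2 * t + 1) =
          T * (T - 1) ^ (2 ^ m - 2) := by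
        rw [show 2 ^ m - 2 = 2 * (2 ^ (m - 1) - 1) by omega, pow_mul, sub_pow_char_of_commute 2 (Commute.one_right T), one_pow,
          ← sum_pow_two, Finset.mul_sum]
        refine Finset.sum_congr rfl fun t _ => ?_
        rw [Nat.cast_add, Nat.cast_mul, Nat.cast_two, show (2 : K) = 0 from CharTwo.two_eq_zero,
          zero_mul, zero_add, Nat.cast_one, one_smul, ← pow_mul, pow_succ']
      rw [h0, zero_add, h1] at hzero
      have := congrArg (fun M => T ^ (2 ^ m - 1) * M) hzero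
      simp only [mul_zero, ← mul_assoc, ← pow_succ] at this
      rw [Nat.sub_add_cancel hpos, hT, hσgm, one_mul] at this
      exact this
    -- hence its differences are central
    have hdC : ∀ d ∈ C, z * d * z⁻¹ * d⁻¹ ∈ S → ∀ b ∈ C, z * b * z⁻¹ * b⁻¹ ∈ S →
        z * (d * b) * z⁻¹ * (d * b)⁻¹ ∈ S := by
      intro d hd hdS b hb hbS
      rw [show z * (d * b) * z⁻¹ * (d * b)⁻¹ = (z * d * z⁻¹) * (z * b * z⁻¹ * b⁻¹) *
        (z * d * z⁻¹)⁻¹ * (z * d * z⁻¹ * d⁻¹) by group]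
      exact mul_mem (hconjS _ (hCn _ (hnC hzC d hd)) _ hbS).1 hdS
    have hC0R : ∀ d ∈ C, z * d * z⁻¹ * d⁻¹ ∈ S → g * d * g⁻¹ * d⁻¹ ∈ R := by
      intro d hd hdS
      obtain ⟨e, he⟩ : ∃ e : G → G, ∀ c, e c = c⁻¹ * (g * c * g⁻¹) := ⟨_, fun _ => rfl⟩
      have heU : ∀ c ∈ C, z * c * z⁻¹ * c⁻¹ ∈ S → ∀ u : U, ρ (e c) (u : W) = u := by
        intro c hc hcS' u
        rw [he, map_mul, Module.End.mul_apply, hfixU c hc hcS', rep_inv_apply]
      have heC : e d ∈ C := he d ▸ mul_mem (inv_mem hd) (hnC hgC d hd)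
      have hgd : z * (g * d * g⁻¹) * z⁻¹ * (g * d * g⁻¹)⁻¹ ∈ S := by
        have hzg : z * g = g * z := by rw [hz]; exact (Commute.self_pow g _).symm.eq
        rw [show z * (g * d * g⁻¹) * z⁻¹ * (g * d * g⁻¹)⁻¹ =
          (z * g) * d * (z * g)⁻¹ * (g * d * g⁻¹)⁻¹ by group, hzg,
          show g * z * d * (g * z)⁻¹ * (g * d * g⁻¹)⁻¹ = g * (z * d * z⁻¹ * d⁻¹) * g⁻¹ by group]
        exact hgS _ hdS
      have hdinv : z * d⁻¹ * z⁻¹ * d⁻¹⁻¹ ∈ S := by
        rw [show z * d⁻¹ * z⁻¹ * d⁻¹⁻¹ = (z * d * z⁻¹)⁻¹ * (z * d * z⁻¹ * d⁻¹)⁻¹ * (z * d * z⁻¹)⁻¹⁻¹ by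
          group]
        exact (hconjS _ (inv_mem (hCn _ (hnC hzC d hd))) _ (inv_mem hdS)).1
      have heS : z * e d * z⁻¹ * (e d)⁻¹ ∈ S :=
        he d ▸ hdC _ (inv_mem hd) hdinv _ (hnC hgC d hd) hgd
      have hkey : ∀ b ∈ C, z * b * z⁻¹ * b⁻¹ ∈ S → ρ ⁅e d, b⁆ = 1 := by
        intro b hb hbS
        obtain ⟨c, hc⟩ := hcomm _ heC b hb
        obtain ⟨u, hu⟩ := exists_ne (0 : U)
        have h1 := heU _ (mul_mem hd hb) (hdC d hd hdS b hb hbS) u
        rw [he, show (d * b)⁻¹ * (g * (d * b) * g⁻¹) = b⁻¹ * e d * b * e b by rw [he, he]; group,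
          map_mul, Module.End.mul_apply, heU b hb hbS] at h1
        have h2 : ρ (e d) (ρ b u) = ρ b u := by
          have h3 := congrArg (ρ b) h1
          rw [map_mul, map_mul, Module.End.mul_apply, Module.End.mul_apply, rep_apply_inv] at h3
          exact h3
        have h4 : ρ ⁅e d, b⁆ (ρ b (ρ (e d) (u : W))) = ρ (e d) (ρ b u) := by
          rw [← Module.End.mul_apply, ← Module.End.mul_apply, ← Module.End.mul_apply, ← map_mul,
            ← map_mul, ← map_mul, commutatorElement_def]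
          congr 2
          group
        rw [hc, heU d hd hdS, h2, LinearMap.smul_apply, Module.End.one_apply] at h4
        have hbu : ρ b (u : W) ≠ 0 := fun h0 =>
          hu (Subtype.ext (rep_injective ρ b (h0.trans (map_zero _).symm)))
        rw [hc, smul_left_injective K hbu (h4.trans (one_smul K _).symm), one_smul]
      have heR : e d ∈ R := by
        refine (hR _).2 ⟨heC, fun b hb => ?_⟩
        -- write the square of `b` as a product of a fixed and an inverted element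
        have hb0 : z * (b * (z * b * z⁻¹)) * z⁻¹ * (b * (z * b * z⁻¹))⁻¹ ∈ S := by
          rw [show z * (b * (z * b * z⁻¹)) * z⁻¹ * (b * (z * b * z⁻¹))⁻¹ =
            (z * b * z⁻¹) * ((z * z) * b * (z * z)⁻¹) * (z * b * z⁻¹)⁻¹ * b⁻¹ by group, hz2]
          rw [inv_one, one_mul, mul_one]
          exact hcS _ (hnC hzC b hb) _ hb
        have h1 := hkey _ (mul_mem hb (hnC hzC b hb)) hb0
        have hq' : (z * b * z⁻¹)⁻¹ * b ∈ Q := by
          have h5 := hdiff b⁻¹ (inv_mem hb)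
          rwa [inv_inv, show z * b⁻¹ * z⁻¹ = (z * b * z⁻¹)⁻¹ by group] at h5
        have h2 := hC0 _ heC heS _ hq'
        obtain ⟨c, hc⟩ := hcomm _ heC b hb
        have hbb : ρ ⁅e d, b * b⁆ = 1 := by
          rw [show b * b = (b * (z * b * z⁻¹)) * ((z * b * z⁻¹)⁻¹ * b) by group,
            show ⁅e d, (b * (z * b * z⁻¹)) * ((z * b * z⁻¹)⁻¹ * b)⁆ = ⁅e d, b * (z * b * z⁻¹)⁆ *
              ((b * (z * b * z⁻¹)) * ⁅e d, (z * b * z⁻¹)⁻¹ * b⁆ * (b * (z * b * z⁻¹))⁻¹) by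
              simp only [commutatorElement_def]; group, map_mul, h1, one_mul, map_mul, map_mul, h2,
            mul_one, ← map_mul, mul_inv_cancel, map_one]
        rw [show ⁅e d, b * b⁆ = ⁅e d, b⁆ * (b * ⁅e d, b⁆ * b⁻¹) by
          simp only [commutatorElement_def]; group, map_mul,
          (hconjS b (hCn b hb) _ (hcS _ heC _ hb)).2, hc, smul_mul_assoc, one_mul, smul_smul] at hbb
        rw [hc, hcinv (smul_one_injective (W := W) (hbb.trans (one_smul K _).symm)), one_smul]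
      have hcon : d * e d * d⁻¹ ∈ R := by
        have h5 := ((hR _).1 heR).2 d hd
        refine (hR _).2 ⟨mul_mem (mul_mem hd heC) (inv_mem hd), fun b hb => ?_⟩
        have hb' : d⁻¹ * b * d ∈ C := mul_mem (mul_mem (inv_mem hd) hb) hd
        rw [show ⁅d * e d * d⁻¹, b⁆ = d * ⁅e d, d⁻¹ * b * d⁆ * d⁻¹ by
          simp only [commutatorElement_def]; group, map_mul, map_mul, ((hR _).1 heR).2 _ hb', mul_one,
          ← map_mul, mul_inv_cancel, map_one]
      rw [he] at hcon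
      simpa [mul_assoc] using hcon
    intro c hc
    have hRn : ∀ b ∈ C, ∀ r ∈ Q ⊔ R, b * r * b⁻¹ ∈ Q ⊔ R := by
      intro b hb r hr
      have hrC : r ∈ C := sup_le hQC hRC hr
      have h1 : b * r * b⁻¹ = ⁅b, r⁆ * r := by rw [commutatorElement_def]; group
      rw [h1]
      exact mul_mem (Subgroup.mem_sup_right (hSR (hcS b hb r hrC))) hr
    have hmul : ∀ a ∈ C, ∀ b ∈ C, g * a * g⁻¹ * a⁻¹ ∈ Q ⊔ R → g * b * g⁻¹ * b⁻¹ ∈ Q ⊔ R →
        g * (a * b) * g⁻¹ * (a * b)⁻¹ ∈ Q ⊔ R := by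
      intro a ha b hb h1 h2
      rw [show g * (a * b) * g⁻¹ * (a * b)⁻¹ =
        (g * a * g⁻¹) * (g * b * g⁻¹ * b⁻¹) * (g * a * g⁻¹)⁻¹ * (g * a * g⁻¹ * a⁻¹) by group]
      exact mul_mem (hRn _ (hnC hgC a ha) _ h2) h1
    have hsquare : ∀ b ∈ C, g * (b * b) * g⁻¹ * (b * b)⁻¹ ∈ Q ⊔ R := by
      intro b hb
      have hq' : (z * b * z⁻¹)⁻¹ * b ∈ Q := by
        have h5 := hdiff b⁻¹ (inv_mem hb)
        rwa [inv_inv, show z * b⁻¹ * z⁻¹ = (z * b * z⁻¹)⁻¹ by group] at h5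
      rw [show b * b = (b * (z * b * z⁻¹)) * ((z * b * z⁻¹)⁻¹ * b) by group]
      refine hmul _ (mul_mem hb (hnC hzC b hb)) _ (hQC hq') (Subgroup.mem_sup_right ?_)
        (Subgroup.mem_sup_left (mul_mem ((Subgroup.mem_normalizer_iff.1 hgQ _).1 hq') (inv_mem hq')))
      refine hC0R _ (mul_mem hb (hnC hzC b hb)) ?_
      rw [show z * (b * (z * b * z⁻¹)) * z⁻¹ * (b * (z * b * z⁻¹))⁻¹ =
        (z * b * z⁻¹) * ((z * z) * b * (z * z)⁻¹) * (z * b * z⁻¹)⁻¹ * b⁻¹ by group, hz2]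
      rw [inv_one, one_mul, mul_one]
      exact hcS _ (hnC hzC b hb) _ hb
    obtain ⟨j, hj⟩ := hC ⟨c, hc⟩
    have hco : Odd (q ^ j) := hodd.pow
    obtain ⟨k, hk⟩ := hco
    have h1 : c = c ^ (k + 1) * c ^ (k + 1) := by
      rw [← pow_add, show k + 1 + (k + 1) = 2 * k + 1 + 1 by ring, ← hk, pow_succ,
        show c ^ q ^ j = 1 from congrArg Subtype.val hj, one_mul]
    rw [h1]
    exact hsquare _ (pow_mem hc _)

end Cfsg.Agent.Solv.Gross
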