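import Mathlib

/-!
Automorphisms of an elementary abelian `q`-group which move only a plane on which half their order
inverts: two of them in a common 2-group either commute or have the same central power.
-/

set_option autoImplicit false
set_option linter.style.haveILetI false

namespace Cfsg.Agent.Solv.Gross

universe u

variable {M : Type u} [CommGroup M]

/-- `γ` moves only the plane `B`, on which its half power is inversion. -/
def Block (q m : ℕ) (γ : MulAut M) (B : Subgroup M) : Prop :=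
  γ ^ 2 ^ m = 1 ∧ Nat.card B = q ^ 2 ∧ (∀ v, γ v * v⁻¹ ∈ B) ∧
    ∀ b ∈ B, (γ ^ 2 ^ (m - 1)) b = b⁻¹

theorem pow_move {γ : MulAut M} {B : Subgroup M} (h : ∀ v, γ v * v⁻¹ ∈ B) (j : ℕ) (v : M) :
    (γ ^ j) v * v⁻¹ ∈ B := by
  induction j with
  | zero => simp
  | succ j ih =>
    have e : (γ ^ (j + 1)) v * v⁻¹ = (γ ((γ ^ j) v) * ((γ ^ j) v)⁻¹) * ((γ ^ j) v * v⁻¹) := by
      rw [pow_succ', MulAut.mul_apply]; group
    rw [e]; exact mul_mem (h _) ih

theorem Block.stable {q m : ℕ} {γ : MulAut M} {B : Subgroup M} (h : Block q m γ B) {b : M}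
    (hb : b ∈ B) : γ b ∈ B := by
  have := mul_mem (h.2.2.1 b) hb
  simpa [mul_assoc] using this

theorem Block.conj {q m : ℕ} {γ : MulAut M} {B : Subgroup M} (h : Block q m γ B) (t : MulAut M) :
    Block q m (t * γ * t⁻¹) (B.map t.toMonoidHom) := by
  obtain ⟨h1, h2, h3, h4⟩ := h
  refine ⟨by rw [conj_pow, h1, mul_one, mul_inv_cancel], ?_, fun v => ?_, ?_⟩
  · rw [← h2]
    exact (Nat.card_congr (B.equivMapOfInjective _ t.injective).toEquiv).symm
  · refine ⟨γ (t⁻¹ v) * (t⁻¹ v)⁻¹, h3 _, ?_⟩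
    simp
  · rintro _ ⟨b, hb, rfl⟩
    show ((t * γ * t⁻¹) ^ 2 ^ (m - 1)) (t b) = (t b)⁻¹
    rw [conj_pow, MulAut.mul_apply, MulAut.mul_apply, MulAut.inv_apply_self, h4 b hb, map_inv]

variable {q m : ℕ} [Fact q.Prime] [Finite M]

theorem Block.exists_preimage {γ : MulAut M} {B : Subgroup M} (h : Block q m γ B)
    (hexp : ∀ v : M, v ^ q = 1) (hodd : Odd q) {b : M} (hb : b ∈ B) :
    ∃ v, (γ ^ 2 ^ (m - 1)) v * v⁻¹ = b := by
  obtain ⟨k, hk⟩ := hodd
  refine ⟨b ^ k, ?_⟩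
  rw [h.2.2.2 _ (pow_mem hb k)]
  have h1 : b ^ k * b ^ k * b = 1 := by rw [← pow_add, ← pow_succ, ← two_mul, ← hk, hexp]
  calc (b ^ k)⁻¹ * (b ^ k)⁻¹ = (b ^ k * b ^ k)⁻¹ := by rw [mul_inv]
    _ = b := inv_eq_of_mul_eq_one_right h1

/-- `γ` is irreducible on its plane. -/
theorem Block.irr {γ : MulAut M} {B : Subgroup M} (h : Block q m γ B) (hexp : ∀ v : M, v ^ q = 1)
    (hm : 2 ≤ m) (hqm : q + 1 = 2 ^ m) (H : Subgroup M) (hHB : H ≤ B)
    (hH : ∀ v ∈ H, γ v ∈ H) : H = ⊥ ∨ H = B := by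
  classical
  have hq : q.Prime := Fact.out
  obtain ⟨i, hi, hcard⟩ := (Nat.dvd_prime_pow hq).1 (h.2.1 ▸ Subgroup.card_dvd_of_le hHB)
  interval_cases i
  · exact Or.inl (Subgroup.card_eq_one.1 (by simpa using hcard))
  · exfalso
    rw [pow_one] at hcard
    haveI : IsCyclic H := isCyclic_of_prime_card hcard
    obtain ⟨⟨a, ha⟩, hgen⟩ := IsCyclic.exists_generator (α := H)
    have hane : a ≠ 1 := by
      rintro rfl
      have h1 : Nat.card H = 1 := Nat.card_eq_one_iff_unique.2 ⟨⟨fun x y => by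
        obtain ⟨r, rfl⟩ := Subgroup.mem_zpowers_iff.1 (hgen x)
        obtain ⟨s, rfl⟩ := Subgroup.mem_zpowers_iff.1 (hgen y)
        exact Subtype.ext (by simp)⟩, inferInstance⟩
      exact hq.ne_one (hcard.symm.trans h1)
    have hao : orderOf a = q := orderOf_eq_prime (hexp a) hane
    obtain ⟨r, hr⟩ := Subgroup.mem_zpowers_iff.1 (hgen ⟨γ a, hH a ha⟩)
    have hr' : a ^ r = γ a := by simpa using congrArg Subtype.val hr
    have hit : ∀ j : ℕ, (γ ^ j) a = a ^ (r ^ j) := by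
      intro j
      induction j with
      | zero => simp
      | succ j ih => rw [pow_succ', MulAut.mul_apply, ih, map_zpow, ← hr', ← zpow_mul, pow_succ']
    have hcast : ∀ i j : ℤ, a ^ i = a ^ j → (i : ZMod q) = j := by
      intro i j hij
      rw [zpow_eq_zpow_iff_modEq, hao] at hij
      exact (ZMod.intCast_eq_intCast_iff _ _ _).2 hij
    obtain ⟨k, hk⟩ : ∃ k : ZMod q, k = (r : ZMod q) := ⟨_, rfl⟩
    have h1 : k ^ 2 ^ (m - 1) = -1 := by
      have := hcast _ (-1) ((hit _).symm.trans ((h.2.2.2 a (hHB ha)).trans (zpow_neg_one a).symm))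
      simpa [hk] using this
    have h2 : k ^ 2 ^ m = 1 := by
      rw [show 2 ^ m = 2 ^ (m - 1) * 2 by rw [← pow_succ, Nat.sub_add_cancel (by omega : 1 ≤ m)],
        pow_mul, h1]
      ring
    have h4m : 4 ≤ 2 ^ m := le_trans (by norm_num) (Nat.pow_le_pow_right (show 0 < 2 by norm_num) hm)
    haveI : Fact (2 < q) := ⟨by omega⟩
    have hne : ¬ k ^ 2 ^ (m - 1) = 1 := by rw [h1]; exact ZMod.neg_one_ne_one
    have hord : orderOf k = 2 ^ (m - 1 + 1) :=
      orderOf_eq_prime_pow hne (by rwa [Nat.sub_add_cancel (by omega : 1 ≤ m)])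
    rw [Nat.sub_add_cancel (by omega : 1 ≤ m)] at hord
    have hk0 : k ≠ 0 := fun h0 => by
      rw [h0, zero_pow (by positivity)] at h2; exact zero_ne_one h2
    have h3 := hord ▸ orderOf_dvd_of_pow_eq_one (ZMod.pow_card_sub_one_eq_one hk0)
    have : (2 ^ m) ∣ 2 := by
      have h5 := Nat.dvd_sub (dvd_refl (2 ^ m)) h3
      rwa [show 2 ^ m - (q - 1) = 2 by omega] at h5
    have := Nat.le_of_dvd (by norm_num) this
    omega
  · exact Or.inr (Subgroup.eq_of_le_of_card_ge hHB (by rw [hcard, h.2.1]))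

/-- Equal planes give equal central powers inside a 2-group. -/
theorem Block.power_eq {γ δ : MulAut M} {B : Subgroup M} (hg : Block q m γ B) (hd : Block q m δ B)
    (hexp : ∀ v : M, v ^ q = 1) (hodd : Odd q) (hm : 1 ≤ m) (X : Subgroup (MulAut M))
    (hX : IsPGroup 2 X) (hγ : γ ∈ X) (hδ : δ ∈ X) : γ ^ 2 ^ (m - 1) = δ ^ 2 ^ (m - 1) := by
  obtain ⟨t, ht⟩ : ∃ t : MulAut M, t = γ ^ 2 ^ (m - 1) * δ ^ 2 ^ (m - 1) := ⟨_, rfl⟩
  have htB : ∀ b ∈ B, t b = b := fun b hb => by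
    rw [ht, MulAut.mul_apply, hd.2.2.2 b hb, hg.2.2.2 _ (inv_mem hb), inv_inv]
  have hte : ∀ v, t v * v⁻¹ ∈ B := fun v => by
    have e : t v * v⁻¹ = ((γ ^ 2 ^ (m - 1)) ((δ ^ 2 ^ (m - 1)) v) * ((δ ^ 2 ^ (m - 1)) v)⁻¹) *
        ((δ ^ 2 ^ (m - 1)) v * v⁻¹) := by
      rw [ht, MulAut.mul_apply]; group
    rw [e]; exact mul_mem (pow_move hg.2.2.1 _ _) (pow_move hd.2.2.1 _ _)
  have hpow : ∀ (j : ℕ) (v : M), (t ^ j) v = v * (t v * v⁻¹) ^ j := by
    intro j v
    induction j with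
    | zero => simp
    | succ j ih =>
      rw [pow_succ', MulAut.mul_apply, ih, map_mul, map_pow, htB _ (hte v), pow_succ' (t v * v⁻¹),
        ← mul_assoc, mul_comm v (t v * v⁻¹), inv_mul_cancel_right]
  have htq : t ^ q = 1 := MulEquiv.ext fun v => by rw [hpow, hexp, mul_one]; rfl
  obtain ⟨l, hl⟩ := hX ⟨t, ht ▸ mul_mem (pow_mem hγ _) (pow_mem hδ _)⟩
  have ht1 : t = 1 := by
    have h1 : t ^ 2 ^ l = 1 := congrArg Subtype.val hl
    have h2 := pow_gcd_eq_one.2 ⟨htq, h1⟩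
    have hco : Nat.Coprime q (2 ^ l) := (Nat.coprime_two_right.2 hodd).pow_right _
    rwa [hco.gcd_eq_one, pow_one] at h2
  have hδ2 : δ ^ 2 ^ (m - 1) * δ ^ 2 ^ (m - 1) = 1 := by
    rw [← pow_add, ← two_mul, ← pow_succ', Nat.sub_add_cancel hm, hd.1]
  rw [ht] at ht1
  rw [eq_inv_of_mul_eq_one_left ht1, inv_eq_of_mul_eq_one_right hδ2]

/-- A plane whose conjugates are either itself or centralized is fixed. -/
theorem Block.fixed {γ δ : MulAut M} {B B' : Subgroup M} (hg : Block q m γ B) (hd : Block q m δ B')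
    (hexp : ∀ v : M, v ^ q = 1) (hodd : Odd q) (hm : 2 ≤ m)
    (hT : ∀ (t : MulAut M), t ∈ ({δ, δ * δ} : Set (MulAut M)) → B.map t.toMonoidHom = B ∨
      (B.map t.toMonoidHom ⊓ B = ⊥ ∧ ∀ w ∈ B.map t.toMonoidHom, γ w = w)) :
    B.map δ.toMonoidHom = B := by
  classical
  by_contra hne
  obtain ⟨h1i, h1f⟩ := (hT δ (Or.inl rfl)).resolve_left hne
  have hB' : ∀ b' ∈ B', ∃ b ∈ B, δ b * b⁻¹ = b' := by
    have hinj : Function.Injective (fun b : B => (⟨δ b * (b : M)⁻¹, hd.2.2.1 b⟩ : B')) := by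
      intro b c hbc
      have h1 : δ (b : M) * (b : M)⁻¹ = δ c * (c : M)⁻¹ := congrArg Subtype.val hbc
      have h2 : δ ((b : M) * (c : M)⁻¹) = (b : M) * (c : M)⁻¹ := by
        rw [map_mul, map_inv, ← mul_inv_eq_one]
        rw [← mul_inv_eq_one] at h1
        calc δ ↑b * (δ ↑c)⁻¹ * (↑b * (↑c)⁻¹)⁻¹ = δ ↑b * (↑b)⁻¹ * (δ ↑c * (↑c)⁻¹)⁻¹ := by
              simp only [mul_inv, inv_inv]; ac_rfl
          _ = 1 := h1
      have h3 : (b : M) * (c : M)⁻¹ ∈ B.map δ.toMonoidHom ⊓ B := Subgroup.mem_inf.2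
        ⟨⟨_, mul_mem b.2 (inv_mem c.2), h2⟩, mul_mem b.2 (inv_mem c.2)⟩
      rw [h1i, Subgroup.mem_bot, mul_inv_eq_one] at h3
      exact Subtype.ext h3
    haveI := Fintype.ofFinite B
    haveI := Fintype.ofFinite B'
    have hbij := (Fintype.bijective_iff_injective_and_card _).2 ⟨hinj, by
      rw [← Nat.card_eq_fintype_card, ← Nat.card_eq_fintype_card, hg.2.1, hd.2.1]⟩
    intro b' hb'
    obtain ⟨b, hb⟩ := hbij.2 ⟨b', hb'⟩
    exact ⟨b, b.2, congrArg Subtype.val hb⟩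
  obtain ⟨b, hb, hb1⟩ : ∃ b ∈ B, b ≠ 1 := by
    by_contra h
    push Not at h
    have : B = ⊥ := le_bot_iff.1 fun x hx => Subgroup.mem_bot.2 (h x hx)
    have h2 := hg.2.1
    rw [this, Subgroup.card_bot] at h2
    have := Nat.one_lt_pow two_ne_zero (Fact.out : q.Prime).one_lt
    omega
  rcases hT (δ * δ) (Or.inr rfl) with h2 | ⟨-, h2f⟩
  · -- the square fixes the plane, hence centralizes it
    have hfix : ∀ b ∈ B, δ (δ b) = b := by
      intro b hb
      obtain ⟨c, hc, he⟩ := hB' _ (hd.2.2.1 (δ b))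
      have h3 : δ (δ b) * c ∈ B :=
        mul_mem (h2.le ⟨b, hb, rfl⟩) hc
      have h4 : δ (δ b) * c = δ (b * c) := by
        rw [map_mul]
        rw [← div_eq_mul_inv, ← div_eq_mul_inv, div_eq_div_iff_mul_eq_mul] at he
        rw [mul_comm (δ b)]
        exact he.symm
      have h5 : δ (b * c) ∈ B.map δ.toMonoidHom ⊓ B :=
        ⟨⟨_, mul_mem hb hc, rfl⟩, h4 ▸ h3⟩
      rw [h1i, Subgroup.mem_bot] at h5
      have h6 : b * c = 1 := δ.injective (by rw [h5, map_one])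
      rw [h6, map_one] at h4
      rw [eq_inv_of_mul_eq_one_left h4, inv_eq_of_mul_eq_one_left h6]
    obtain ⟨d, hd'⟩ : ∃ d, d = δ b * b⁻¹ := ⟨_, rfl⟩
    have hdB : d ∈ B' := hd' ▸ hd.2.2.1 b
    have hz : ∀ j, (δ ^ (2 * j)) b = b := fun j => by
      induction j with
      | zero => simp
      | succ j ih =>
        rw [Nat.mul_succ, pow_add, MulAut.mul_apply, pow_two, MulAut.mul_apply, hfix b hb, ih]
    obtain ⟨e, he⟩ : ∃ e, e = 2 ^ (m - 1) := ⟨_, rfl⟩
    obtain ⟨j, hj⟩ : Even e := he ▸ (Nat.even_pow).2 ⟨even_two, by omega⟩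
    have h3 : (δ ^ e) d = d := by
      rw [hd', map_mul, map_inv, ← MulAut.mul_apply, ← pow_succ, pow_succ', MulAut.mul_apply,
        hj, ← two_mul, hz]
    have h4 := hd.2.2.2 d hdB
    rw [← he, h3] at h4
    have h5 : d ^ 2 = 1 := by rw [pow_two]; exact mul_eq_one_iff_eq_inv.2 h4
    have h6 : d ^ Nat.gcd 2 q = 1 := pow_gcd_eq_one.2 ⟨h5, hexp d⟩
    rw [Nat.coprime_two_left.2 hodd, pow_one, hd', mul_inv_eq_one] at h6
    have h7 : b ∈ B.map δ.toMonoidHom ⊓ B := ⟨⟨b, hb, h6⟩, hb⟩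
    rw [h1i, Subgroup.mem_bot] at h7
    exact hb1 h7
  · -- the square moves the plane
    obtain ⟨c, hc, he⟩ := hB' _ (hd.2.2.1 (δ b))
    have h3 : γ (δ (δ b) * (δ b)⁻¹) = δ (δ b) * (δ b)⁻¹ := by
      rw [map_mul, map_inv, h2f (δ (δ b)) ⟨b, hb, rfl⟩, h1f (δ b) ⟨b, hb, rfl⟩]
    rw [← he, map_mul, map_inv, h1f (δ c) ⟨c, hc, rfl⟩, mul_right_inj, inv_inj] at h3
    have h4 : c = 1 := by
      have hz : (γ ^ 2 ^ (m - 1)) c = c := by
        generalize 2 ^ (m - 1) = j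
        induction j with
        | zero => simp
        | succ j ih => rw [pow_succ', MulAut.mul_apply, ih, h3]
      rw [hg.2.2.2 c hc] at hz
      have h5 : c ^ 2 = 1 := by rw [pow_two]; exact mul_eq_one_iff_eq_inv.2 hz.symm
      have h6 : c ^ Nat.gcd 2 q = 1 := pow_gcd_eq_one.2 ⟨h5, hexp c⟩
      rwa [Nat.coprime_two_left.2 hodd, pow_one] at h6
    rw [h4, map_one, one_mul, inv_one, eq_comm, mul_inv_eq_one] at he
    have h5 : δ b = b := δ.injective he
    have h7 : b ∈ B.map δ.toMonoidHom ⊓ B := ⟨⟨b, hb, h5⟩, hb⟩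
    rw [h1i, Subgroup.mem_bot] at h7
    exact hb1 h7

/-- Two such automorphisms in a common 2-group commute or share their central power. -/
theorem pair (hexp : ∀ v : M, v ^ q = 1) (hm : 2 ≤ m) (hqm : q + 1 = 2 ^ m) :
    ∀ (X : Subgroup (MulAut M)), IsPGroup 2 X → ∀ γ ∈ X, ∀ δ ∈ X,
      ∀ B B' : Subgroup M, Block q m γ B → Block q m δ B' →
      γ ^ 2 ^ (m - 1) = δ ^ 2 ^ (m - 1) ∨ Commute γ δ := by
  classical
  haveI : Finite (MulAut M) := Finite.of_injective (fun e : MulAut M => (e : M → M)) DFunLike.coe_injective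
  have hodd : Odd q := by
    refine (Fact.out : q.Prime).odd_of_ne_two fun h => ?_
    have : 4 ≤ 2 ^ m := le_trans (by norm_num) (Nat.pow_le_pow_right (show 0 < 2 by norm_num) hm)
    omega
  intro X
  induction X using WellFoundedLT.induction with
  | _ X ih =>
  intro hX γ hγ δ hδ B B' hB hB'
  have main : ∀ (γ δ : MulAut M) (B B' : Subgroup M), γ ∈ X → δ ∈ X → Block q m γ B → Block q m δ B' →
      B.map δ.toMonoidHom = B ∨ Commute γ δ := by
    intro γ δ B B' hγ hδ hB hB'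
    by_cases htop : Subgroup.zpowers γ = X
    · right
      rw [← htop] at hδ
      obtain ⟨r, rfl⟩ := hδ
      exact (Commute.refl γ).zpow_right r
    left
    haveI : Group.IsNilpotent X := hX.isNilpotent
    obtain ⟨M0, hM0, hle⟩ := (eq_top_or_exists_le_coatom ((Subgroup.zpowers γ).subgroupOf X)).resolve_left
      (fun h => htop (le_antisymm ((Subgroup.zpowers_le).2 hγ) (Subgroup.subgroupOf_eq_top.1 h)))
    haveI : M0.Normal := Subgroup.NormalizerCondition.normal_of_coatom M0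
      (Group.normalizerCondition_of_isNilpotent) hM0
    have hlt : M0.map X.subtype < X := by
      refine lt_of_le_of_ne (Subgroup.map_subtype_le _) fun h => hM0.1 ?_
      apply Subgroup.map_injective X.subtype_injective
      rw [h, ← MonoidHom.range_eq_map, Subgroup.range_subtype]
    have hmem : ∀ t ∈ X, t * γ * t⁻¹ ∈ M0.map X.subtype := by
      intro t ht
      have h1 : (⟨γ, hγ⟩ : X) ∈ M0 := hle (Subgroup.mem_subgroupOf.2 (Subgroup.mem_zpowers γ))
      exact ⟨_, (inferInstance : M0.Normal).conj_mem _ h1 ⟨t, ht⟩, rfl⟩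
    refine Block.fixed hB hB' hexp hodd hm fun t ht => ?_
    have htX : t ∈ X := by
      rcases ht with rfl | rfl
      · exact hδ
      · exact mul_mem hδ hδ
    have hγ' : γ ∈ M0.map X.subtype := by simpa using hmem 1 (one_mem X)
    have hBt := hB.conj t
    have hstab : ∀ v ∈ B.map t.toMonoidHom, γ v ∈ B.map t.toMonoidHom ∨ B.map t.toMonoidHom = B := by
      intro v hv
      rcases ih _ hlt (hX.to_le hlt.le) _ hγ' _ (hmem t htX) _ _ hB hBt with h | h
      · refine Or.inr (le_antisymm ?_ ?_)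
        · intro w hw
          obtain ⟨u, rfl⟩ := hBt.exists_preimage hexp hodd hw
          rw [← h]; exact pow_move hB.2.2.1 _ _
        · intro w hw
          obtain ⟨u, rfl⟩ := hB.exists_preimage hexp hodd hw
          rw [h]; exact pow_move hBt.2.2.1 _ _
      · refine Or.inl ?_
        obtain ⟨u, rfl⟩ := hBt.exists_preimage hexp hodd hv
        rw [map_mul, map_inv, ← MulAut.mul_apply, (h.pow_right _).eq, MulAut.mul_apply]
        exact pow_move hBt.2.2.1 _ _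
    by_cases heq : B.map t.toMonoidHom = B
    · exact Or.inl heq
    refine Or.inr ?_
    have hst : ∀ v ∈ B.map t.toMonoidHom, γ v ∈ B.map t.toMonoidHom := fun v hv =>
      (hstab v hv).resolve_right heq
    have hint : B.map t.toMonoidHom ⊓ B = ⊥ := by
      rcases hB.irr hexp hm hqm _ inf_le_right (fun v hv => ⟨hst v hv.1, hB.stable hv.2⟩) with h | h
      · exact h
      · exact absurd (Subgroup.eq_of_le_of_card_ge (inf_eq_right.1 h) (by rw [hBt.2.1, hB.2.1])).symm heq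
    refine ⟨hint, fun w hw => ?_⟩
    have h1 : γ w * w⁻¹ ∈ B.map t.toMonoidHom ⊓ B := Subgroup.mem_inf.2 ⟨mul_mem (hst w hw) (inv_mem hw), hB.2.2.1 w⟩
    rwa [hint, Subgroup.mem_bot, mul_inv_eq_one] at h1
  rcases main γ δ B B' hγ hδ hB hB' with hBfix | hc
  swap
  · exact Or.inr hc
  rcases main δ γ B' B hδ hγ hB' hB with hB'fix | hc
  swap
  · exact Or.inr hc.symm
  by_cases heq : B = B'
  · subst heq
    exact Or.inl (hB.power_eq hB' hexp hodd (by omega) X hX hγ hδ)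
  refine Or.inr ?_
  have hint : B ⊓ B' = ⊥ := by
    rcases hB.irr hexp hm hqm _ inf_le_left
      (fun v hv => ⟨hB.stable hv.1, hB'fix.le ⟨v, hv.2, rfl⟩⟩) with h | h
    · exact h
    · exact absurd (Subgroup.eq_of_le_of_card_ge (inf_eq_left.1 h) (by rw [hB.2.1, hB'.2.1])) heq
  have hδB : ∀ b ∈ B, δ b = b := fun b hb => by
    have h1 : δ b * b⁻¹ ∈ B ⊓ B' := Subgroup.mem_inf.2 ⟨mul_mem (hBfix.le ⟨b, hb, rfl⟩) (inv_mem hb), hB'.2.2.1 b⟩
    rwa [hint, Subgroup.mem_bot, mul_inv_eq_one] at h1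
  have hγB' : ∀ b ∈ B', γ b = b := fun b hb => by
    have h1 : γ b * b⁻¹ ∈ B ⊓ B' := Subgroup.mem_inf.2 ⟨hB.2.2.1 b, mul_mem (hB'fix.le ⟨b, hb, rfl⟩) (inv_mem hb)⟩
    rwa [hint, Subgroup.mem_bot, mul_inv_eq_one] at h1
  refine MulEquiv.ext fun v => ?_
  show γ (δ v) = δ (γ v)
  have h1 : δ v = δ v * v⁻¹ * v := by group
  have h2 : γ v = γ v * v⁻¹ * v := by group
  conv_lhs => rw [h1, map_mul, hγB' _ (hB'.2.2.1 v), h2]
  conv_rhs => rw [h2, map_mul, hδB _ (hB.2.2.1 v), h1]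
  exact mul_left_comm _ _ _

end Cfsg.Agent.Solv.Gross
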