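import Cfsg.Agent.Lib.Solv.PGroupPhi

/-!
A normal series of a normal 2-subgroup built from squares, and elements stabilizing it.
-/

set_option autoImplicit false
set_option linter.style.haveILetI false

namespace Cfsg.Agent.Solv.Gross

open scoped commutatorElement

universe u

variable {N : Type u} [Group N] [Finite N]

theorem pow_act {g u e : N} (hu : g * u * g⁻¹ = e * u) (he : g * e * g⁻¹ = e) (j : ℕ) :
    g ^ j * u * (g ^ j)⁻¹ = e ^ j * u := by
  induction j with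
  | zero => simp
  | succ j ih =>
    calc g ^ (j + 1) * u * (g ^ (j + 1))⁻¹ = g * (g ^ j * u * (g ^ j)⁻¹) * g⁻¹ := by
          rw [pow_succ']; group
      _ = (g * e * g⁻¹) ^ j * (g * u * g⁻¹) := by rw [ih, conj_pow]; group
      _ = e ^ (j + 1) * u := by rw [he, hu, ← mul_assoc, ← pow_succ]

/-- An element fixing `e` and mapping `u` to `e * u` fixes `u` as soon as its order is prime to
that of `e`. -/
theorem fix_of_coprime {g u e : N} (hu : g * u * g⁻¹ = e * u) (he : g * e * g⁻¹ = e)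
    (hco : (orderOf g).Coprime (orderOf e)) : g * u * g⁻¹ = u := by
  have h1 := pow_act hu he (orderOf g)
  rw [pow_orderOf_eq_one, one_mul, inv_one, mul_one] at h1
  have h2 : e ^ orderOf g = 1 := mul_eq_right.1 h1.symm
  have h3 : orderOf e = 1 :=
    Nat.eq_one_of_dvd_coprimes hco (orderOf_dvd_of_pow_eq_one h2) dvd_rfl
  rw [hu, orderOf_eq_one_iff.1 h3, one_mul]

/-- The stabilizer of the series. -/
theorem exists_stabilizer {ι : Type*} (Ker : ι → Subgroup N) (U F : Subgroup N) [U.Normal] [F.Normal]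
    (hU : IsPGroup 2 U) (Z : Set N) (hZ : ∀ t : N, ∀ z ∈ Z, t * z * t⁻¹ ∈ Z)
    (hbot : ∀ u ∈ U ⊓ F, (∀ i, u ∈ Ker i) → u = 1) (h0 : ∀ z ∈ Z, ∀ u ∈ U, ⁅u, z⁆ ∈ F)
    (hstep : ∀ V : Subgroup N, V.Normal → V ≤ U ⊓ F → ∀ z ∈ Z, ∀ u ∈ V, ∀ i,
      ⁅u, z⁆ ∈ Subgroup.normalClosure ((fun v => v * v) '' (V : Set N)) ⊔ Ker i) :
    ∃ Zs : Subgroup N, Zs.Normal ∧ Z ⊆ Zs ∧
      ∀ g ∈ Zs, (orderOf g).Coprime 2 → g ∈ Subgroup.centralizer (U : Set N) := by
  classical
  haveI : Fact (Nat.Prime 2) := ⟨Nat.prime_two⟩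
  have step : ∀ (V V' : Subgroup N), V.Normal → V'.Normal → V' ≤ U → (∀ z ∈ Z, ∀ u ∈ V, ⁅u, z⁆ ∈ V') →
      (∃ Zs : Subgroup N, Zs.Normal ∧ Z ⊆ Zs ∧
        ∀ g ∈ Zs, (orderOf g).Coprime 2 → g ∈ Subgroup.centralizer (V' : Set N)) →
      ∃ Zs : Subgroup N, Zs.Normal ∧ Z ⊆ Zs ∧
        ∀ g ∈ Zs, (orderOf g).Coprime 2 → g ∈ Subgroup.centralizer (V : Set N) := by
    intro V V' hV hV' hle hcomm ⟨Zs, hn, hsub, hcen⟩
    obtain ⟨S, hS⟩ : ∃ S : Subgroup N, ∀ g, g ∈ S ↔ ∀ u ∈ V, ⁅u, g⁆ ∈ V' := by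
      refine ⟨{ carrier := {g | ∀ u ∈ V, ⁅u, g⁆ ∈ V'}
                one_mem' := fun u _ => by rw [commutatorElement_one_right]; exact one_mem _
                mul_mem' := fun {a b} ha hb u hu => by
                  rw [show ⁅u, a * b⁆ = ⁅u, a⁆ * (a * ⁅u, b⁆ * a⁻¹) by
                    simp only [commutatorElement_def]; group]
                  exact mul_mem (ha u hu) (hV'.conj_mem _ (hb u hu) a)
                inv_mem' := fun {a} ha u hu => by
                  rw [show ⁅u, a⁻¹⁆ = a⁻¹ * ⁅u, a⁆⁻¹ * a⁻¹⁻¹ by simp only [commutatorElement_def]; group]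
                  exact hV'.conj_mem _ (inv_mem (ha u hu)) _ }, fun g => Iff.rfl⟩
    have hSn : S.Normal := ⟨fun g hg t => (hS _).2 fun u hu => by
      have h1 := hV'.conj_mem _ ((hS g).1 hg _ (hV.conj_mem u hu t⁻¹)) t
      rw [show t * ⁅t⁻¹ * u * t⁻¹⁻¹, g⁆ * t⁻¹ = ⁅u, t * g * t⁻¹⁆ by
        simp only [commutatorElement_def]; group] at h1
      exact h1⟩
    refine ⟨Zs ⊓ S, Subgroup.normal_inf_normal _ _,
      fun z hz => ⟨hsub hz, (hS z).2 (hcomm z hz)⟩, fun g hg hco => ?_⟩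
    rw [Subgroup.mem_centralizer_iff]
    intro u hu
    have heV : ⁅g, u⁆ ∈ V' := by
      rw [← commutatorElement_inv]
      exact inv_mem ((hS g).1 hg.2 u hu)
    have hfix : g * u * g⁻¹ = u := by
      refine fix_of_coprime (e := ⁅g, u⁆) (by rw [commutatorElement_def]; group) ?_ ?_
      · exact mul_inv_eq_iff_eq_mul.2 (Subgroup.mem_centralizer_iff.1 (hcen g hg.1 hco) _ heV).symm
      · obtain ⟨j, hj⟩ := hU ⟨_, hle heV⟩
        have hj' : ⁅g, u⁆ ^ 2 ^ j = 1 := congrArg Subtype.val hj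
        exact (hco.pow_right j).coprime_dvd_right (orderOf_dvd_of_pow_eq_one hj')
    exact (mul_inv_eq_iff_eq_mul.1 hfix).symm
  have main : ∀ V : Subgroup N, V.Normal → V ≤ U ⊓ F →
      ∃ Zs : Subgroup N, Zs.Normal ∧ Z ⊆ Zs ∧
        ∀ g ∈ Zs, (orderOf g).Coprime 2 → g ∈ Subgroup.centralizer (V : Set N) := by
    intro V
    induction V using WellFoundedLT.induction with
    | _ V ih =>
    intro hVn hV
    by_cases hV1 : V = ⊥
    · refine ⟨⊤, inferInstance, fun _ _ => Subgroup.mem_top _, fun g _ _ => ?_⟩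
      rw [hV1, Subgroup.mem_centralizer_iff]
      intro u hu
      obtain rfl := Subgroup.mem_bot.1 hu
      rw [one_mul, mul_one]
    obtain ⟨Sq, hSq⟩ : ∃ Sq, Sq = Subgroup.normalClosure ((fun v => v * v) '' (V : Set N)) := ⟨_, rfl⟩
    haveI : Sq.Normal := hSq ▸ Subgroup.normalClosure_normal
    obtain ⟨T, hT⟩ : ∃ T : Subgroup N, T = V ⊓ ⨅ i, (Sq ⊔ Ker i) := ⟨_, rfl⟩
    haveI : (T.normalCore).Normal := T.normalCore_normal
    have hlt : T.normalCore < V := by
      refine lt_of_le_of_ne ((T.normalCore_le).trans (hT ▸ inf_le_left)) fun heq => hV1 ?_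
      have hall : ∀ i, V ≤ Sq ⊔ Ker i := fun i =>
        (heq ▸ T.normalCore_le).trans (hT ▸ inf_le_right.trans (iInf_le _ i))
      rw [eq_bot_iff]
      intro v hv
      refine Subgroup.mem_bot.2 (hbot v (hV hv) fun i => ?_)
      have hVp : IsPGroup 2 V := hU.to_le (hV.trans inf_le_left)
      haveI : Group.IsNilpotent V := hVp.isNilpotent
      have hΦ : Sq ≤ (frattini ↥V).map V.subtype := by
        haveI := hVn
        haveI : ((frattini ↥V).map V.subtype).Normal := inferInstance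
        rw [hSq]
        refine Subgroup.normalClosure_le_normal ?_
        rintro _ ⟨w, hw, rfl⟩
        refine ⟨⟨w, hw⟩ * ⟨w, hw⟩, ?_, rfl⟩
        rw [← pow_two]
        exact pow_mem_frattini hVp _
      have htop : (Ker i).subgroupOf V = ⊤ := by
        refine frattini_nongenerating (eq_top_iff.2 fun w _ => ?_)
        obtain ⟨s, hs, k, hk, he⟩ := Subgroup.mem_sup_of_normal_left.1 (hall i w.2)
        obtain ⟨s', hs', hss⟩ := hΦ hs
        have h1 : w = s' * (s'⁻¹ * w) := by group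
        rw [h1]
        refine mul_mem (Subgroup.mem_sup_right hs') (Subgroup.mem_sup_left ?_)
        rw [Subgroup.mem_subgroupOf, Subgroup.coe_mul, InvMemClass.coe_inv,
          show (s' : N) = s from hss, ← he, inv_mul_cancel_left]
        exact hk
      exact (Subgroup.subgroupOf_eq_top.1 htop) hv
    refine step V _ hVn inferInstance (hlt.le.trans (hV.trans inf_le_left)) (fun z hz u hu => ?_)
      (ih _ hlt inferInstance (hlt.le.trans hV))
    intro t
    rw [show t * ⁅u, z⁆ * t⁻¹ = ⁅t * u * t⁻¹, t * z * t⁻¹⁆ by simp only [commutatorElement_def]; group,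
      hT]
    have hu' := hVn.conj_mem u hu t
    have hz' := hZ t z hz
    refine Subgroup.mem_inf.2 ⟨?_, Subgroup.mem_iInf.2 fun i => hSq ▸ hstep V hVn hV _ hz' _ hu' i⟩
    rw [show ⁅t * u * t⁻¹, t * z * t⁻¹⁆ = (t * u * t⁻¹) *
      ((t * z * t⁻¹) * (t * u * t⁻¹)⁻¹ * (t * z * t⁻¹)⁻¹) by simp only [commutatorElement_def]; group]
    exact mul_mem hu' (hVn.conj_mem _ (inv_mem hu') _)
  refine step U (U ⊓ F) inferInstance inferInstance inf_le_left (fun z hz u hu => ⟨?_, h0 z hz u hu⟩)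
    (main (U ⊓ F) inferInstance le_rfl)
  rw [show ⁅u, z⁆ = u * (z * u⁻¹ * z⁻¹) by simp only [commutatorElement_def]; group]
  exact mul_mem hu ((inferInstance : U.Normal).conj_mem _ (inv_mem hu) z)

end Cfsg.Agent.Solv.Gross
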