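import Cfsg.Agent.Lib.Solv.Gross.Exceptional
import Cfsg.Agent.Lib.Solv.Gross.Pseudo
import Cfsg.Agent.Lib.Solv.Gross.Series
import Cfsg.Agent.Lib.Solv.PLengthExponent
import Cfsg.Agent.Lib.Fusion.Critical
import Cfsg.Agent.Lib.Fusion.SolvableBalance

/-!
Gross: in a solvable group without normal 2-subgroups, acting faithfully in characteristic 2 with no
regular block of order `2 ^ n`, the `2 ^ (n-1)`-th powers of 2-elements lie in `O_{2',2}`.
-/

set_option autoImplicit false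
set_option linter.style.haveILetI false

namespace Cfsg.Agent.Solv.Gross

open scoped commutatorElement

universe u v

/-- The conjugation action on an abelian normal section. -/
theorem exists_conjAct {E : Type u} [Group E] [Finite E] (C R : Subgroup E) [C.Normal] [R.Normal]
    (hab : ∀ a ∈ C, ∀ b ∈ C, ⁅a, b⁆ ∈ R) :
    ∃ (M : Type u) (_ : CommGroup M) (_ : Finite M) (π : C →* M) (φ : E →* MulAut M),
      Function.Surjective π ∧ π.ker = R.subgroupOf C ∧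
        ∀ (e : E) (c : C) (h : e * c * e⁻¹ ∈ C), φ e (π c) = π ⟨e * c * e⁻¹, h⟩ := by
  obtain ⟨N, hN⟩ : ∃ N, N = R.subgroupOf C := ⟨_, rfl⟩
  haveI hNn : N.Normal := hN ▸ inferInstance
  have hcomm : ∀ x y : C ⧸ N, x * y = y * x := by
    intro x y
    obtain ⟨a, rfl⟩ := QuotientGroup.mk_surjective x
    obtain ⟨b, rfl⟩ := QuotientGroup.mk_surjective y
    rw [← QuotientGroup.mk_mul, ← QuotientGroup.mk_mul, QuotientGroup.eq, hN, Subgroup.mem_subgroupOf]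
    have := hab (b : E)⁻¹ (inv_mem b.2) (a : E)⁻¹ (inv_mem a.2)
    simpa [commutatorElement_def, mul_assoc] using this
  letI : CommGroup (C ⧸ N) := { (inferInstance : Group (C ⧸ N)) with mul_comm := hcomm }
  have hmap : ∀ e : E, N.map (MulAut.conjNormal e : C ≃* C) = N := by
    intro e
    ext w
    constructor
    · rintro ⟨a, ha, rfl⟩
      rw [hN] at ha ⊢
      rw [SetLike.mem_coe, Subgroup.mem_subgroupOf] at ha
      rw [Subgroup.mem_subgroupOf]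
      show ((MulAut.conjNormal e a : C) : E) ∈ R
      rw [MulAut.conjNormal_apply]
      exact (inferInstance : R.Normal).conj_mem _ ha e
    · intro hw
      refine ⟨MulAut.conjNormal e⁻¹ w, ?_, ?_⟩
      · rw [hN, SetLike.mem_coe, Subgroup.mem_subgroupOf, MulAut.conjNormal_apply]
        rw [hN, Subgroup.mem_subgroupOf] at hw
        exact (inferInstance : R.Normal).conj_mem _ hw _
      · show MulAut.conjNormal e (MulAut.conjNormal e⁻¹ w) = w
        rw [← MulAut.mul_apply, ← map_mul, mul_inv_cancel, map_one, MulAut.one_apply]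
  obtain ⟨φ, hφ⟩ : ∃ φ : E →* MulAut (C ⧸ N), ∀ (e : E) (c : C),
      φ e (QuotientGroup.mk c) = QuotientGroup.mk (MulAut.conjNormal e c) :=
    ⟨MonoidHom.mk' (fun e => QuotientGroup.congr N N (MulAut.conjNormal e) (hmap e)) (fun a b => by
      refine MulEquiv.ext fun x => ?_
      obtain ⟨c, rfl⟩ := QuotientGroup.mk_surjective x
      rw [MulAut.mul_apply, QuotientGroup.congr_mk, QuotientGroup.congr_mk, QuotientGroup.congr_mk,
        map_mul, MulAut.mul_apply]), fun e c => QuotientGroup.congr_mk N N _ (hmap e) c⟩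
  refine ⟨C ⧸ N, inferInstance, inferInstance, QuotientGroup.mk' N, φ,
    QuotientGroup.mk'_surjective N, by rw [QuotientGroup.ker_mk', hN], fun e c h => ?_⟩
  rw [QuotientGroup.mk'_apply, hφ, QuotientGroup.mk'_apply]
  congr 1

/-- The data attached to a critical subgroup and a weight. -/
theorem component {K : Type*} [Field K] [IsAlgClosed K] [CharP K 2] {H : Type u} [Group H] [Finite H]
    {W : Type v} [AddCommGroup W] [Module K W] [FiniteDimensional K W] (ρ : H →* Module.End K W)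
    {q : ℕ} [Fact q.Prime] (hq : q ≠ 2) (C : Subgroup H) [C.Normal] (hC : IsPGroup q C)
    (Zc : Subgroup H) [Zc.Normal] (hZc : ∀ a, a ∈ Zc ↔ a ∈ C ∧ ∀ b ∈ C, Commute a b)
    (hcl : ∀ a ∈ C, ∀ b ∈ C, ⁅a, b⁆ ∈ Zc) (hqpow : ∀ a ∈ C, a ^ q ∈ Zc)
    (n : ℕ) (hn : 1 ≤ n) (χ : H → K) (hχ : wt ρ Zc χ ≠ ⊥) :
    ∃ Ker : Subgroup H,
      (∀ u, u ∈ Ker → ∀ c ∈ C, ∀ d ∈ C, ∀ w ∈ wt ρ Zc χ, ρ ⁅u * c * u⁻¹ * c⁻¹, d⁆ w = w) ∧
      ∀ (u y : H) (U : Subgroup H), IsPGroup 2 U → u ∈ U → y ∈ U →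
        (∀ b ∈ Zc, u * b * u⁻¹ = b) → y ^ 2 ^ n = 1 → (ρ y - 1) ^ (2 ^ n - 1) = 0 →
        ⁅u, y ^ 2 ^ (n - 1)⁆ ∈ Ker ∨ ∃ (k : ℕ) (j : ℕ),
          (⁅u, y ^ 2 ^ k⁆ ^ (2 * j))⁻¹ * ⁅u, y ^ 2 ^ (n - 1)⁆ ∈ Ker := by
  classical
  obtain ⟨E, hE⟩ : ∃ E : Subgroup H, ∀ a, a ∈ E ↔ ∀ b ∈ Zc, χ (a⁻¹ * b * a) = χ b := by
    have hmul : ∀ {a a' : H}, (∀ b ∈ Zc, χ (a⁻¹ * b * a) = χ b) →
        (∀ b ∈ Zc, χ (a'⁻¹ * b * a') = χ b) → ∀ b ∈ Zc, χ ((a * a')⁻¹ * b * (a * a')) = χ b := by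
      intro a a' ha ha' b hb
      have hb' : a⁻¹ * b * a ∈ Zc := by
        simpa using (inferInstance : Zc.Normal).conj_mem b hb a⁻¹
      rw [show (a * a')⁻¹ * b * (a * a') = a'⁻¹ * (a⁻¹ * b * a) * a' by group, ha' _ hb', ha b hb]
    exact ⟨{ carrier := {a | ∀ b ∈ Zc, χ (a⁻¹ * b * a) = χ b}
             one_mem' := fun b _ => by simp
             mul_mem' := fun ha ha' => hmul ha ha'
             inv_mem' := fun {a} ha b hb => by
              have hb' : a * b * a⁻¹ ∈ Zc := (inferInstance : Zc.Normal).conj_mem b hb a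
              have := ha _ hb'
              rw [show a⁻¹ * (a * b * a⁻¹) * a = b by group] at this
              rw [inv_inv]; exact this.symm }, fun a => Iff.rfl⟩
  have hCE : C ≤ E := fun a ha => (hE a).2 fun b hb => by
    rw [mul_assoc, (((hZc b).1 hb).2 a ha).eq, inv_mul_cancel_left]
  obtain ⟨W1, hW1⟩ : ∃ W1, W1 = wt ρ Zc χ := ⟨_, rfl⟩
  rw [← hW1] at hχ ⊢
  haveI : Nontrivial W1 := Submodule.nontrivial_iff_ne_bot.2 hχ
  have hW1E : ∀ a : E, ∀ w ∈ W1, (ρ.comp E.subtype) a w ∈ W1 := by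
    intro a w hw
    rw [hW1] at hw ⊢
    have h1 := map_wt (show (a : H) ∈ Subgroup.normalizer (Zc : Set H) by
      rw [Subgroup.normalizer_eq_top]; exact Subgroup.mem_top _) hw
    rw [mem_wt] at h1 ⊢
    intro b hb
    show ρ b (ρ (a : H) w) = _
    rw [h1 b hb, (hE _).1 a.2 b hb]
    rfl
  obtain ⟨σ, hσ⟩ : ∃ σ : E →* Module.End K W1, σ = CRep.subRep (ρ.comp E.subtype) W1 hW1E := ⟨_, rfl⟩
  have hσa : ∀ (a : E) (w : W1), ((σ a w : W1) : W) = ρ (a : H) w := fun a w => by rw [hσ]; rfl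
  have hsc : ∀ a : E, (a : H) ∈ Zc → σ a = χ a • 1 := fun a ha => LinearMap.ext fun w => Subtype.ext (by
    rw [hσa, mem_wt.1 (show (w : W) ∈ wt ρ Zc χ from hW1.le w.2) _ ha]; rfl)
  obtain ⟨CE, hCEdef⟩ : ∃ CE, CE = C.subgroupOf E := ⟨_, rfl⟩
  haveI : CE.Normal := hCEdef ▸ inferInstance
  have hmemCE : ∀ a : E, a ∈ CE ↔ (a : H) ∈ C := fun a => by rw [hCEdef, Subgroup.mem_subgroupOf]
  have hcomm : ∀ a ∈ CE, ∀ b ∈ CE, ∃ c : K, σ ⁅a, b⁆ = c • 1 := fun a ha b hb =>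
    ⟨_, hsc _ (by
      rw [show ((⁅a, b⁆ : E) : H) = ⁅(a : H), (b : H)⁆ from map_commutatorElement E.subtype a b]
      exact hcl _ ((hmemCE a).1 ha) _ ((hmemCE b).1 hb))⟩
  have hpow : ∀ a ∈ CE, ∃ c : K, σ (a ^ q) = c • 1 := fun a ha =>
    ⟨_, hsc _ (by rw [SubmonoidClass.coe_pow]; exact hqpow _ ((hmemCE a).1 ha))⟩
  obtain ⟨S, R, hS, hR⟩ := exists_scalar_central σ CE hcomm
  have hSR : ∀ a ∈ CE, (a : H) ∈ Zc → a ∈ R := fun a ha haZ => (hR a).2 ⟨ha, fun b hb => by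
    have h1 : ⁅a, b⁆ = 1 :=
      commutatorElement_eq_one_iff_commute.2 (Subtype.ext (((hZc _).1 haZ).2 b ((hmemCE b).1 hb)).eq)
    rw [h1, map_one]⟩
  haveI : R.Normal := ⟨fun a ha e => by
    obtain ⟨haC, ha'⟩ := (hR a).1 ha
    refine (hR _).2 ⟨(inferInstance : CE.Normal).conj_mem a haC e, fun b hb => ?_⟩
    have hb' : e⁻¹ * b * e ∈ CE := by simpa using (inferInstance : CE.Normal).conj_mem b hb e⁻¹
    rw [show ⁅e * a * e⁻¹, b⁆ = e * ⁅a, e⁻¹ * b * e⁆ * e⁻¹ by simp only [commutatorElement_def]; group,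
      map_mul, map_mul, ha' _ hb', mul_one, ← map_mul, mul_inv_cancel, map_one]⟩
  have hab : ∀ a ∈ CE, ∀ b ∈ CE, ⁅a, b⁆ ∈ R := fun a ha b hb => hSR _ (by
    rw [commutatorElement_def]; exact mul_mem (mul_mem (mul_mem ha hb) (inv_mem ha)) (inv_mem hb)) (by
      rw [show ((⁅a, b⁆ : E) : H) = ⁅(a : H), (b : H)⁆ from map_commutatorElement E.subtype a b]
      exact hcl _ ((hmemCE a).1 ha) _ ((hmemCE b).1 hb))
  obtain ⟨M, _, _, π, φ, hπ, hker, hφ⟩ := exists_conjAct CE R hab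
  have hexp : ∀ v : M, v ^ q = 1 := by
    intro v
    obtain ⟨c, rfl⟩ := hπ v
    rw [← map_pow, ← MonoidHom.mem_ker, hker, Subgroup.mem_subgroupOf, SubmonoidClass.coe_pow]
    exact hSR _ (pow_mem c.2 q) (by rw [SubmonoidClass.coe_pow]; exact hqpow _ ((hmemCE _).1 c.2))
  have hφ1 : ∀ e : E, φ e = 1 ↔ ∀ c ∈ CE, e * c * e⁻¹ * c⁻¹ ∈ R := by
    intro e
    constructor
    · intro h c hc
      have hc' : e * c * e⁻¹ ∈ CE := (inferInstance : CE.Normal).conj_mem c hc e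
      have h1 := hφ e ⟨c, hc⟩ hc'
      rw [h, MulAut.one_apply, eq_comm, ← mul_inv_eq_one, ← map_inv, ← map_mul, ← MonoidHom.mem_ker,
        hker, Subgroup.mem_subgroupOf] at h1
      exact h1
    · intro h
      refine MulEquiv.ext fun v => ?_
      obtain ⟨c, rfl⟩ := hπ v
      rw [MulAut.one_apply, hφ e c ((inferInstance : CE.Normal).conj_mem c c.2 e), ← mul_inv_eq_one,
        ← map_inv, ← map_mul, ← MonoidHom.mem_ker, hker, Subgroup.mem_subgroupOf]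
      exact h c c.2
  refine ⟨φ.ker.map E.subtype, ?_, ?_⟩
  · rintro _ ⟨u, hu, rfl⟩ c hc d hd w hw
    have h1 := ((hR _).1 ((hφ1 u).1 (MonoidHom.mem_ker.1 hu) ⟨c, hCE hc⟩ ((hmemCE _).2 hc))).2
      ⟨d, hCE hd⟩ ((hmemCE _).2 hd)
    have h2 := congrArg Subtype.val (LinearMap.congr_fun h1 ⟨w, hW1 ▸ hw⟩)
    rw [hσa] at h2
    exact h2
  intro u y U hU huU hyU huZ hy hdeg
  obtain ⟨k, hk, hfix, hdeg'⟩ := period ρ Zc y (by rw [Subgroup.normalizer_eq_top]; exact Subgroup.mem_top _)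
    n hy hdeg χ (hW1 ▸ hχ)
  have huE : u ∈ E := (hE u).2 fun b hb => by
    rw [show u⁻¹ * b * u = u⁻¹ * (u * b * u⁻¹) * u by rw [huZ b hb]]
    group
  obtain ⟨u0, hu0⟩ : ∃ u0 : E, (u0 : H) = u := ⟨⟨u, huE⟩, rfl⟩
  obtain ⟨g, hg⟩ : ∃ g : E, (g : H) = y ^ 2 ^ k := ⟨⟨_, (hE _).2 hfix⟩, rfl⟩
  obtain ⟨m, hm⟩ : ∃ m, m = n - k := ⟨_, rfl⟩
  have hgm : g ^ 2 ^ m = 1 := Subtype.ext (by
    rw [SubmonoidClass.coe_pow, hg, ← pow_mul, ← pow_add, hm, Nat.add_sub_cancel' hk.le, hy,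
      OneMemClass.coe_one])
  have hgz : (g : H) ^ 2 ^ (m - 1) = y ^ 2 ^ (n - 1) := by
    rw [hg, ← pow_mul, ← pow_add, hm, show k + (n - k - 1) = n - 1 by omega]
  have hdegσ : (σ g - 1) ^ (2 ^ m - 1) = 0 := LinearMap.ext fun w => Subtype.ext (by
    have h2 : ∀ (i : ℕ) (w : W1), ((((σ g - 1) ^ i) w : W1) : W) = ((ρ (g : H) - 1) ^ i) (w : W) := by
      intro i
      induction i with
      | zero => intro w; simp
      | succ i ihi =>
        intro w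
        rw [pow_succ', pow_succ', Module.End.mul_apply, Module.End.mul_apply, LinearMap.sub_apply,
          LinearMap.sub_apply, Module.End.one_apply, Module.End.one_apply,
          AddSubgroupClass.coe_sub, hσa, ihi]
    rw [h2, hg, hm]
    exact hdeg' _ (hW1 ▸ w.2))
  obtain ⟨z, hz⟩ : ∃ z : E, z = g ^ 2 ^ (m - 1) := ⟨_, rfl⟩
  have hzH : (z : H) = y ^ 2 ^ (n - 1) := by rw [hz, SubmonoidClass.coe_pow, hgz]
  have hcomH : ∀ a : E, ⁅u0, a⁆ ∈ φ.ker → ⁅u, (a : H)⁆ ∈ φ.ker.map E.subtype := fun a ha =>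
    ⟨_, ha, by rw [map_commutatorElement, ← hu0]; rfl⟩
  have hCEp : IsPGroup q CE := hCEdef ▸ hC.comap_subtype
  rcases exceptional hq CE hCEp σ g (by rw [Subgroup.normalizer_eq_top]; exact Subgroup.mem_top _)
      hcomm hpow m hgm hdegσ R hR with h | ⟨hm2, hqm, Q, hQC, hQcard, hQmove, hQinv⟩
  · left
    rw [← hzH]
    refine hcomH z (MonoidHom.mem_ker.2 ?_)
    rw [map_commutatorElement, commutatorElement_eq_one_iff_commute,
      (hφ1 z).2 (by rw [hz]; exact h)]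
    exact Commute.one_right _
  obtain ⟨B, hB⟩ : ∃ B : Subgroup M, B = (Q.subgroupOf CE).map π := ⟨_, rfl⟩
  have hblock : Block q m (φ g) B := by
    refine ⟨by rw [← map_pow, hgm, map_one], ?_, fun v => ?_, ?_⟩
    · rw [hB, ← Subgroup.relIndex_ker, hker]
      rw [show (R.subgroupOf CE).relIndex (Q.subgroupOf CE) = R.relIndex Q from
        Subgroup.relIndex_subgroupOf hQC]
      exact hQcard
    · obtain ⟨c, rfl⟩ := hπ v
      have hc' : g * c * g⁻¹ ∈ CE := (inferInstance : CE.Normal).conj_mem c c.2 g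
      rw [hφ g c hc', ← map_inv, ← map_mul, hB]
      obtain ⟨a, ha, r, hr, he⟩ := Subgroup.mem_sup_of_normal_right.1 (hQmove c c.2)
      refine ⟨⟨a, hQC ha⟩, ha, ?_⟩
      rw [← mul_inv_eq_one, ← map_inv, ← map_mul, ← MonoidHom.mem_ker, hker, Subgroup.mem_subgroupOf]
      show a * (g * c * g⁻¹ * (c : E)⁻¹)⁻¹ ∈ R
      rw [← he, mul_inv_rev, ← mul_assoc]
      exact (inferInstance : R.Normal).conj_mem _ (inv_mem hr) a
    · rintro _ hb
      rw [hB] at hb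
      obtain ⟨a, ha, rfl⟩ := hb
      have hc' : z * a * z⁻¹ ∈ CE := (inferInstance : CE.Normal).conj_mem a a.2 z
      rw [← map_pow, ← hz, hφ z a hc', ← mul_eq_one_iff_eq_inv, ← map_mul, ← MonoidHom.mem_ker, hker,
        Subgroup.mem_subgroupOf]
      have := hQinv _ ha
      rw [← hz] at this
      exact this
  have hblock' := hblock.conj (φ u0)
  rw [← map_inv, ← map_mul, ← map_mul] at hblock'
  obtain ⟨X, hX⟩ : ∃ X, X = (U.subgroupOf E).map φ := ⟨_, rfl⟩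
  have hXp : IsPGroup 2 X := hX ▸ hU.comap_subtype.map φ
  have hgX : φ g ∈ X := hX ▸ Subgroup.mem_map_of_mem φ (Subgroup.mem_subgroupOf.2 (hg ▸ pow_mem hyU _))
  have hgX' : φ (u0 * g * u0⁻¹) ∈ X := hX ▸ Subgroup.mem_map_of_mem φ (Subgroup.mem_subgroupOf.2 (by
    rw [Subgroup.coe_mul, Subgroup.coe_mul, InvMemClass.coe_inv, hu0, hg]
    exact mul_mem (mul_mem huU (pow_mem hyU _)) (inv_mem huU)))
  rcases pair hexp hm2 hqm X hXp _ hgX _ hgX' _ _ hblock hblock' with h | h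
  · left
    rw [← hzH]
    refine hcomH z (MonoidHom.mem_ker.2 ?_)
    rw [← map_pow, ← map_pow, conj_pow, ← hz] at h
    rw [commutatorElement_def, map_mul, ← h, ← map_mul, mul_inv_cancel, map_one]
  · right
    refine ⟨k, 2 ^ (m - 2), ?_⟩
    rw [← pow_succ', show m - 2 + 1 = m - 1 by omega, ← hzH, ← hg, ← hu0]
    refine ⟨(⁅u0, g⁆ ^ 2 ^ (m - 1))⁻¹ * ⁅u0, z⁆, MonoidHom.mem_ker.2 ?_, ?_⟩
    · have e1 : φ (⁅u0, g⁆ ^ 2 ^ (m - 1)) = φ ⁅u0, z⁆ := by
        rw [map_pow, show ⁅u0, g⁆ = u0 * g * u0⁻¹ * g⁻¹ from commutatorElement_def u0 g, map_mul,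
          map_inv, h.symm.inv_right.mul_pow, inv_pow, ← map_pow, ← map_pow, ← map_inv, ← map_mul,
          conj_pow, ← hz, commutatorElement_def]
      rw [map_mul, map_inv, e1, inv_mul_cancel]
    · simp only [map_mul, map_inv, map_pow, map_commutatorElement]
      rfl

/-- The drop of the exponent over `O_{2',2}`. -/
theorem drop {K : Type} [Field K] [IsAlgClosed K] [CharP K 2] {H : Type u} [Group H] [Finite H]
    (hsol : Group.IsSolvable H) (hcore : Cfsg.pCore 2 H = ⊥) {W : Type v} [AddCommGroup W] [Module K W]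
    [FiniteDimensional K W] (ρ : H →* Module.End K W) (hρ : Function.Injective ρ) (n : ℕ) (hn : 1 ≤ n)
    (hexp : ∀ g : H, (∃ j, g ^ 2 ^ j = 1) → g ^ 2 ^ n = 1)
    (hdeg : ∀ g : H, (∃ j, g ^ 2 ^ j = 1) → (ρ g - 1) ^ (2 ^ n - 1) = 0)
    [(Cfsg.pPrimeCore 2 H).Normal] (x : H ⧸ Cfsg.pPrimeCore 2 H) (hx : ∃ j, x ^ 2 ^ j = 1) :
    x ^ 2 ^ (n - 1) ∈ Cfsg.pCore 2 (H ⧸ Cfsg.pPrimeCore 2 H) := by
  classical
  haveI h2f : Fact (Nat.Prime 2) := ⟨Nat.prime_two⟩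
  obtain ⟨R, hR⟩ : ∃ R, R = Cfsg.pPrimeCore 2 H := ⟨_, rfl⟩
  haveI hQn : (Cfsg.pCore 2 (H ⧸ Cfsg.pPrimeCore 2 H)).Normal := Cfsg.pCore_normal 2 _
  obtain ⟨O, hO⟩ : ∃ O, O = (Cfsg.pCore 2 (H ⧸ Cfsg.pPrimeCore 2 H)).comap (QuotientGroup.mk' _) :=
    ⟨_, rfl⟩
  haveI : O.Normal := hO ▸ inferInstance
  obtain ⟨T⟩ : Nonempty (Sylow 2 O) := inferInstance
  obtain ⟨U0, hU0⟩ : ∃ U0, U0 = (T : Subgroup O).map O.subtype := ⟨_, rfl⟩
  obtain ⟨N, hN⟩ : ∃ N, N = Subgroup.normalizer (U0 : Set H) := ⟨_, rfl⟩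
  obtain ⟨f, hf⟩ : ∃ f : N →* H ⧸ Cfsg.pPrimeCore 2 H, f = (QuotientGroup.mk' _).comp N.subtype := ⟨_, rfl⟩
  have hfa : ∀ a : N, f a = QuotientGroup.mk' _ (a : H) := fun a => by rw [hf]; rfl
  -- the image of the Sylow subgroup
  have hTimage : U0.map (QuotientGroup.mk' (Cfsg.pPrimeCore 2 H)) =
      Cfsg.pCore 2 (H ⧸ Cfsg.pPrimeCore 2 H) := by
    obtain ⟨g, hg⟩ : ∃ g : O →* Cfsg.pCore 2 (H ⧸ Cfsg.pPrimeCore 2 H),
        ∀ a : O, (g a : H ⧸ Cfsg.pPrimeCore 2 H) = QuotientGroup.mk' _ (a : H) :=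
      ⟨((QuotientGroup.mk' _).comp O.subtype).codRestrict _ fun a => (hO.le a.2 :), fun _ => rfl⟩
    have hgs : Function.Surjective g := fun w => by
      obtain ⟨h, hh⟩ := QuotientGroup.mk'_surjective _ (w : H ⧸ Cfsg.pPrimeCore 2 H)
      exact ⟨⟨h, hO.ge (show QuotientGroup.mk' _ h ∈ _ from hh ▸ w.2)⟩, Subtype.ext ((hg _).trans hh)⟩
    have htop : ((T.mapSurjective hgs : Sylow 2 _) : Subgroup (Cfsg.pCore 2 (H ⧸ Cfsg.pPrimeCore 2 H))) = ⊤ :=
      ((T.mapSurjective hgs).is_maximal' ((Cfsg.Agent.Solv.pCore_isPGroup 2).to_subgroup ⊤) le_top).symm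
    refine le_antisymm ?_ fun w hw => ?_
    · rw [hU0]
      rintro _ ⟨_, ⟨a, -, rfl⟩, rfl⟩
      rw [Subgroup.coe_subtype, ← hg a]; exact (g a).2
    · have h1 : (⟨w, hw⟩ : Cfsg.pCore 2 (H ⧸ Cfsg.pPrimeCore 2 H)) ∈
          ((T.mapSurjective hgs : Sylow 2 _) : Subgroup (Cfsg.pCore 2 (H ⧸ Cfsg.pPrimeCore 2 H))) := htop ▸ Subgroup.mem_top _
      rw [Sylow.coe_mapSurjective] at h1
      obtain ⟨a, ha, he⟩ := h1
      exact ⟨a, hU0 ▸ Subgroup.mem_map_of_mem _ ha, (hg a).symm.trans (congrArg Subtype.val he)⟩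
  have hfs : Function.Surjective f := by
    intro w
    obtain ⟨h, rfl⟩ := QuotientGroup.mk'_surjective _ w
    have h1 : h ∈ Subgroup.normalizer (U0 : Set H) ⊔ O := by
      rw [hU0, Sylow.normalizer_sup_eq_top T]; exact Subgroup.mem_top _
    obtain ⟨a, ha, b, hb, rfl⟩ := Subgroup.mem_sup_of_normal_right.1 h1
    rw [hO, Subgroup.mem_comap, ← hTimage] at hb
    obtain ⟨c, hc, hcb⟩ := hb
    refine ⟨⟨a * c, hN ▸ mul_mem ha (Subgroup.le_normalizer hc)⟩, ?_⟩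
    rw [hfa]
    show QuotientGroup.mk' _ (a * c) = _
    rw [map_mul, map_mul, hcb]
  obtain ⟨UN, hUN⟩ : ∃ UN, UN = U0.subgroupOf N := ⟨_, rfl⟩
  haveI : UN.Normal := hUN ▸ (Subgroup.normal_subgroupOf_of_le_normalizer (le_of_eq hN))
  have hUNp : IsPGroup 2 UN := hUN ▸ (hU0 ▸ T.isPGroup'.map O.subtype : IsPGroup 2 U0).comap_subtype
  have hUmem : ∀ a : N, a ∈ UN ↔ (a : H) ∈ U0 := fun a => by rw [hUN, Subgroup.mem_subgroupOf]
  -- critical subgroups
  have hcrit : ∀ q : Nat.Primes, ∃ C Zc : Subgroup H, C.Normal ∧ Zc.Normal ∧ C ≤ Cfsg.pCore (q : ℕ) H ∧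
      (∀ a, a ∈ Zc ↔ a ∈ C ∧ ∀ b ∈ C, Commute a b) ∧ (∀ a ∈ C, ∀ b ∈ C, ⁅a, b⁆ ∈ Zc) ∧
      (∀ a ∈ C, a ^ (q : ℕ) ∈ Zc) ∧ ∀ a : H, (orderOf a).Coprime q →
        (∀ c ∈ C, a * c * a⁻¹ = c) → ∀ w ∈ Cfsg.pCore (q : ℕ) H, a * w * a⁻¹ = w := by
    intro q
    haveI := Fact.mk q.2
    haveI : (Cfsg.pCore (q : ℕ) H).Normal := Cfsg.pCore_normal _ _
    obtain ⟨P, hP⟩ : ∃ P, P = Cfsg.pCore (q : ℕ) H := ⟨_, rfl⟩
    haveI : P.Normal := hP ▸ inferInstance
    have hPp : IsPGroup (q : ℕ) P := hP ▸ Cfsg.Agent.Solv.pCore_isPGroup _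
    obtain ⟨C0, hC0c, hC0p, hC0cl, hC0cen⟩ := Fusion.exists_critical hPp
    haveI := hC0c
    obtain ⟨C, hC⟩ : ∃ C, C = C0.map P.subtype := ⟨_, rfl⟩
    haveI hCn : C.Normal := hC ▸ inferInstance
    obtain ⟨Zc, hZc⟩ : ∃ Zc, Zc = C ⊓ Subgroup.centralizer (C : Set H) := ⟨_, rfl⟩
    have hmemZ : ∀ a, a ∈ Zc ↔ a ∈ C ∧ ∀ b ∈ C, Commute a b := by
      intro a
      rw [hZc, Subgroup.mem_inf, Subgroup.mem_centralizer_iff]
      exact and_congr_right fun _ => ⟨fun h b hb => (h b hb).symm, fun h b hb => (h b hb).symm⟩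
    have hz : ∀ a : P, a ∈ Fusion.zOf C0 → (a : H) ∈ Zc := by
      intro a ha
      refine (hmemZ _).2 ⟨hC ▸ Subgroup.mem_map_of_mem _ ha.1, ?_⟩
      rw [hC]
      rintro _ ⟨b, hb, rfl⟩
      exact congrArg Subtype.val (Subgroup.mem_centralizer_iff.1 ha.2 b hb).symm
    refine ⟨C, Zc, hCn, hZc ▸ inferInstance, hP ▸ hC ▸ Subgroup.map_subtype_le _, hmemZ, ?_, ?_, ?_⟩
    · rw [hC]
      rintro _ ⟨a, ha, rfl⟩ _ ⟨b, hb, rfl⟩
      rw [← map_commutatorElement]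
      exact hz _ (hC0cl (Subgroup.commutator_mem_commutator ha (Subgroup.mem_top _)))
    · rw [hC]
      rintro _ ⟨a, ha, rfl⟩
      rw [← map_pow]
      exact hz _ (hC0p a ha)
    · intro a hco hfix w hw
      obtain ⟨α, hα⟩ : ∃ α : MulAut P, ∀ b : P, ((α b : P) : H) = a * b * a⁻¹ :=
        ⟨MulAut.conjNormal a, fun b => MulAut.conjNormal_apply a b⟩
      have hαo : (orderOf α).Coprime q := by
        refine hco.coprime_dvd_left (orderOf_dvd_of_pow_eq_one ?_)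
        have hpw : ∀ (j : ℕ) (b : P), (((α ^ j) b : P) : H) = a ^ j * b * (a ^ j)⁻¹ := by
          intro j
          induction j with
          | zero => simp
          | succ j ih => intro b; rw [pow_succ', MulAut.mul_apply, hα, ih, pow_succ']; group
        refine MulEquiv.ext fun b => Subtype.ext ?_
        rw [hpw, pow_orderOf_eq_one, one_mul, inv_one, mul_one]; rfl
      have h1 := Fusion.aut_eq_one_of_fix hPp hC0cen α hαo fun b hb => Subtype.ext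
        ((hα b).trans (hfix _ (hC ▸ Subgroup.mem_map_of_mem _ hb)))
      have h2 := hα ⟨w, hP ▸ hw⟩
      rw [h1, MulAut.one_apply] at h2
      exact h2.symm
  choose C Zc hCn hZn hCle hmemZ hcl hqpow hext using hcrit
  have hC2 : ∀ q : Nat.Primes, (q : ℕ) = 2 → C q = ⊥ := fun q hq => le_bot_iff.1 (by
    refine (hCle q).trans ?_
    rw [hq, hcore])
  have hCp : ∀ q : Nat.Primes, IsPGroup (q : ℕ) (C q) := fun q => by
    haveI := Fact.mk q.2
    exact (Cfsg.Agent.Solv.pCore_isPGroup _).to_le (hCle q)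
  have hordZ : ∀ q : Nat.Primes, (q : ℕ) ≠ 2 → ∀ e ∈ C q, ((orderOf e : ℕ) : K) ≠ 0 := fun q hq e he => by
    obtain ⟨i, hi⟩ := hCp q ⟨e, he⟩
    obtain ⟨j, -, hj⟩ := (Nat.dvd_prime_pow q.2).1 (orderOf_dvd_of_pow_eq_one (congrArg Subtype.val hi))
    rw [hj, Nat.cast_pow]
    refine pow_ne_zero _ fun h => hq ?_
    rw [CharP.cast_eq_zero_iff K 2] at h
    exact ((Nat.prime_dvd_prime_iff_eq Nat.prime_two q.2).1 h).symm
  -- half powers centralize the centres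
  have hzfix : ∀ y : H, (∃ j, y ^ 2 ^ j = 1) → ∀ q, ∀ a ∈ Zc q,
      y ^ 2 ^ (n - 1) * a * (y ^ 2 ^ (n - 1))⁻¹ = a := by
    intro y hy q a ha
    haveI := hZn q
    by_cases hq : (q : ℕ) = 2
    · have h1 : a ∈ C q := ((hmemZ q a).1 ha).1
      rw [hC2 q hq, Subgroup.mem_bot] at h1
      rw [h1, mul_one, mul_inv_cancel]
    obtain ⟨z, hz⟩ : ∃ z, z = y ^ 2 ^ (n - 1) := ⟨_, rfl⟩
    rw [← hz]
    have he : z * a * z⁻¹ * a⁻¹ ∈ Zc q := mul_mem ((hZn q).conj_mem a ha z) (inv_mem ha)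
    have hnorm : ∀ b : H, b ∈ Subgroup.normalizer (Zc q : Set H) := fun b => by
      rw [Subgroup.normalizer_eq_top]; exact Subgroup.mem_top _
    have hcomm : ∀ u ∈ Zc q, ∀ v ∈ Zc q, Commute (ρ u) (ρ v) := fun u hu v hv =>
      (((hmemZ q u).1 hu).2 v ((hmemZ q v).1 hv).1).map ρ
    have h1 : ρ (z * a * z⁻¹ * a⁻¹) = 1 := by
      refine eq_one_of_weights ρ (Zc q) hcomm _ he (hordZ q hq _ ((hmemZ q _).1 he).1) fun χ hχ => ?_
      obtain ⟨k, hk, hfix, -⟩ := period ρ (Zc q) y (hnorm y) n (hexp y hy) (hdeg y hy) χ hχ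
      obtain ⟨w, hw, hw0⟩ := Submodule.exists_mem_ne_zero_of_ne_bot hχ
      have hmul : ∀ t, ∀ b ∈ Zc q, χ ((y ^ (2 ^ k * t))⁻¹ * b * y ^ (2 ^ k * t)) = χ b := by
        intro t
        induction t with
        | zero => intro b _; simp
        | succ t ih =>
          intro b hb
          have hb' : (y ^ (2 ^ k * t))⁻¹ * b * y ^ (2 ^ k * t) ∈ Zc q := by
            simpa using (hZn q).conj_mem b hb (y ^ (2 ^ k * t))⁻¹
          rw [Nat.mul_succ, pow_add, show (y ^ (2 ^ k * t) * y ^ 2 ^ k)⁻¹ * b *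
            (y ^ (2 ^ k * t) * y ^ 2 ^ k) =
            (y ^ 2 ^ k)⁻¹ * ((y ^ (2 ^ k * t))⁻¹ * b * y ^ (2 ^ k * t)) * y ^ 2 ^ k by group,
            hfix _ hb', ih b hb]
      have h2 := hmul (2 ^ (n - 1 - k)) _ ((hZn q).conj_mem a ha z)
      rw [← pow_add, Nat.add_sub_cancel' (by omega : k ≤ n - 1), ← hz,
        show z⁻¹ * (z * a * z⁻¹) * z = a by group] at h2
      have h3 : ρ (z * a * z⁻¹ * a⁻¹) w = w := by
        rw [map_mul, Module.End.mul_apply, mem_wt.1 hw _ (inv_mem ha), map_smul,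
          mem_wt.1 hw _ ((hZn q).conj_mem a ha z), ← h2, smul_smul]
        have h4 : ρ (a⁻¹ * a) w = w := by rw [inv_mul_cancel, map_one, Module.End.one_apply]
        rw [map_mul, Module.End.mul_apply, mem_wt.1 hw a ha, map_smul, mem_wt.1 hw _ (inv_mem ha),
          smul_smul, mul_comm] at h4
        exact h4
      rw [mem_wt.1 hw _ he] at h3
      exact smul_left_injective K hw0 (h3.trans (one_smul K w).symm)
    exact mul_inv_eq_one.1 (hρ (h1.trans (map_one ρ).symm))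
  -- the centralizer of the centres
  obtain ⟨F, hF⟩ : ∃ F : Subgroup H, F = ⨅ q, Subgroup.centralizer (Zc q : Set H) := ⟨_, rfl⟩
  haveI : F.Normal := hF ▸ Subgroup.normal_iInf_normal fun q => by
    haveI := hZn q
    infer_instance
  obtain ⟨FN, hFN⟩ : ∃ FN, FN = F.subgroupOf N := ⟨_, rfl⟩
  haveI : FN.Normal := hFN ▸ inferInstance
  have hFmem : ∀ a : N, a ∈ FN ↔ ∀ q, ∀ b ∈ Zc q, (a : H) * b * (a : H)⁻¹ = b := by
    intro a
    rw [hFN, Subgroup.mem_subgroupOf, hF, Subgroup.mem_iInf]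
    refine forall_congr' fun q => ?_
    rw [Subgroup.mem_centralizer_iff]
    exact ⟨fun h b hb => mul_inv_eq_iff_eq_mul.2 (h b hb).symm,
      fun h b hb => (mul_inv_eq_iff_eq_mul.1 (h b hb)).symm⟩
  -- the components
  obtain ⟨ι, hι⟩ : ∃ ι : Type u, ι = {p : Nat.Primes × (H → K) // (p.1 : ℕ) ≠ 2 ∧ wt ρ (Zc p.1) p.2 ≠ ⊥} :=
    ⟨_, rfl⟩
  have hcomp : ∀ i : {p : Nat.Primes × (H → K) // (p.1 : ℕ) ≠ 2 ∧ wt ρ (Zc p.1) p.2 ≠ ⊥}, _ := fun i =>
    haveI := Fact.mk i.1.1.2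
    haveI := hCn i.1.1
    haveI := hZn i.1.1
    component ρ i.2.1 (C i.1.1) (hCp _) (Zc i.1.1) (hmemZ _) (hcl _) (hqpow _) n hn i.1.2 i.2.2
  choose Ker hKer hKstep using hcomp
  obtain ⟨Z, hZdef⟩ : ∃ Z : Set N, Z = {z | ∃ y : N, (∃ j, y ^ 2 ^ j = 1) ∧ z = y ^ 2 ^ (n - 1)} :=
    ⟨_, rfl⟩
  obtain ⟨Zs, hZsn, hZsub, hZcen⟩ := exists_stabilizer (fun i => (Ker i).comap N.subtype) UN FN hUNp Z
    (fun t z hz => by
      rw [hZdef] at hz ⊢
      obtain ⟨y, ⟨j, hj⟩, rfl⟩ := hz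
      exact ⟨t * y * t⁻¹, ⟨j, by rw [conj_pow, hj, mul_one, mul_inv_cancel]⟩, conj_pow.symm⟩)
    (fun u hu hall => by
      -- an element fixing all components is trivial
      have huF := (hFmem u).1 hu.2
      obtain ⟨l, hl⟩ := hUNp ⟨u, hu.1⟩
      have hul : (u : H) ^ 2 ^ l = 1 := by
        simpa using congrArg (fun t : UN => ((t : N) : H)) hl
      have hco : ∀ q : Nat.Primes, (q : ℕ) ≠ 2 → (orderOf (u : H)).Coprime q := fun q hq =>
        (((Nat.coprime_primes Nat.prime_two q.2).2 (Ne.symm hq)).pow_left l).coprime_dvd_left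
          (orderOf_dvd_of_pow_eq_one hul)
      have hcC : ∀ q : Nat.Primes, ∀ c ∈ C q, (u : H) * c * (u : H)⁻¹ = c := by
        intro q c hc
        by_cases hq : (q : ℕ) = 2
        · rw [hC2 q hq, Subgroup.mem_bot] at hc
          rw [hc, mul_one, mul_inv_cancel]
        have he : (u : H) * c * (u : H)⁻¹ * c⁻¹ ∈ C q := mul_mem ((hCn q).conj_mem c hc _) (inv_mem hc)
        have heZ : (u : H) * c * (u : H)⁻¹ * c⁻¹ ∈ Zc q := by
          refine (hmemZ q _).2 ⟨he, fun d hd => commutatorElement_eq_one_iff_commute.1 (hρ ?_)⟩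
          rw [map_one]
          have hmemd : ⁅(u : H) * c * (u : H)⁻¹ * c⁻¹, d⁆ ∈ Zc q := hcl q _ he _ hd
          refine eq_one_of_weights ρ (Zc q) (fun a ha b hb =>
            (((hmemZ q a).1 ha).2 b ((hmemZ q b).1 hb).1).map ρ) _ hmemd
            (hordZ q hq _ ((hmemZ q _).1 hmemd).1) fun χ hχ => ?_
          obtain ⟨w, hw, hw0⟩ := Submodule.exists_mem_ne_zero_of_ne_bot hχ
          have h1 : ρ ⁅(u : H) * c * (u : H)⁻¹ * c⁻¹, d⁆ w = w :=
            hKer ⟨(q, χ), hq, hχ⟩ _ (hall ⟨(q, χ), hq, hχ⟩) c hc d hd w hw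
          rw [mem_wt.1 hw _ hmemd] at h1
          exact smul_left_injective K hw0 (h1.trans (one_smul K w).symm)
        refine fix_of_coprime (e := (u : H) * c * (u : H)⁻¹ * c⁻¹) (by group) (huF q _ heZ) ?_
        obtain ⟨i, hi⟩ := hCp q ⟨_, he⟩
        obtain ⟨j, -, hj⟩ := (Nat.dvd_prime_pow q.2).1
          (orderOf_dvd_of_pow_eq_one (congrArg Subtype.val hi))
        rw [hj]
        exact (hco q hq).pow_right j
      have hfit : (u : H) ∈ Subgroup.centralizer (Cfsg.fittingSubgroup H : Set H) := by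
        rw [Cfsg.Agent.Solv.fitting_eq_iSup_pCore, ← Subgroup.zpowers_le, Subgroup.le_centralizer_iff,
          iSup_le_iff]
        intro q w hw
        rw [Subgroup.mem_centralizer_iff]
        intro v hv
        obtain ⟨r, rfl⟩ := hv
        by_cases hq : (q : ℕ) = 2
        · rw [hq, hcore, Subgroup.mem_bot] at hw
          rw [hw, mul_one, one_mul]
        · exact ((show Commute (u : H) w from
            mul_inv_eq_iff_eq_mul.1 (hext q _ (hco q hq) (hcC q) w hw)).zpow_left r).eq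
      have huR : (u : H) ∈ Cfsg.pPrimeCore 2 H := by
        have h1 := Cfsg.Agent.Solv.centralizer_fitting_le hsol hfit
        rw [Cfsg.Agent.Solv.fitting_eq_iSup_pCore] at h1
        refine (iSup_le fun q : Nat.Primes => ?_ : (⨆ q : Nat.Primes, Cfsg.pCore (q : ℕ) H) ≤ _) h1
        by_cases hq : (q : ℕ) = 2
        · rw [hq, hcore]; exact bot_le
        · haveI := Fact.mk q.2
          obtain ⟨k, hk⟩ := (Cfsg.Agent.Solv.pCore_isPGroup (q : ℕ) (G := H)).exists_card_eq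
          haveI := Cfsg.pCore_normal (q : ℕ) H
          refine Cfsg.Agent.Solv.normal_le_pPrimeCore ?_
          rw [hk]
          exact ((Nat.coprime_primes q.2 Nat.prime_two).2 hq).pow_left k
      have h1 : (u : H) = 1 := by
        rw [← orderOf_eq_one_iff]
        refine Nat.eq_one_of_dvd_coprimes ?_ (orderOf_dvd_of_pow_eq_one hul)
          (Subgroup.orderOf_dvd_natCard _ huR)
        exact ((pPrimeCore_coprime 2).pow_right l).symm
      exact Subtype.ext h1)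
    (fun z hz u _ => by
      rw [hZdef] at hz
      obtain ⟨y, ⟨j, hj⟩, rfl⟩ := hz
      have hy : ∃ j, (y : H) ^ 2 ^ j = 1 := ⟨j, by rw [← SubmonoidClass.coe_pow, hj]; rfl⟩
      have hzF : y ^ 2 ^ (n - 1) ∈ FN := (hFmem _).2 fun q b hb => by
        rw [SubmonoidClass.coe_pow]; exact hzfix _ hy q b hb
      rw [commutatorElement_def]
      exact mul_mem ((inferInstance : FN.Normal).conj_mem _ hzF u) (inv_mem hzF))
    (fun V hVn hV z hz u hu i => by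
      rw [hZdef] at hz
      obtain ⟨y, ⟨j, hj⟩, rfl⟩ := hz
      have hy : ∃ j, (y : H) ^ 2 ^ j = 1 := ⟨j, by rw [← SubmonoidClass.coe_pow, hj]; rfl⟩
      obtain ⟨U2, hU2⟩ : ∃ U2, U2 = (UN ⊔ Subgroup.zpowers y).map N.subtype := ⟨_, rfl⟩
      have hU2p : IsPGroup 2 U2 := by
        rw [hU2]
        obtain ⟨i, -, hi⟩ := (Nat.dvd_prime_pow Nat.prime_two).1 (orderOf_dvd_of_pow_eq_one hj)
        exact (hUNp.to_sup_of_normal_left
          (IsPGroup.of_card (n := i) (by rw [Nat.card_zpowers, hi]))).map N.subtype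
      rcases hKstep i (u : H) (y : H) U2 hU2p
          (hU2 ▸ Subgroup.mem_map_of_mem N.subtype (Subgroup.mem_sup_left (hV hu).1))
          (hU2 ▸ Subgroup.mem_map_of_mem N.subtype (Subgroup.mem_sup_right (Subgroup.mem_zpowers y)))
          ((hFmem u).1 (hV hu).2 _) (hexp _ hy) (hdeg _ hy) with h | ⟨k, l, h⟩
      · refine Subgroup.mem_sup_right ?_
        rw [Subgroup.mem_comap, map_commutatorElement, map_pow]
        exact h
      · have hw : ⁅u, y ^ 2 ^ k⁆ ∈ V := by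
          rw [show ⁅u, y ^ 2 ^ k⁆ = u * (y ^ 2 ^ k * u⁻¹ * (y ^ 2 ^ k)⁻¹) by
            simp only [commutatorElement_def]; group]
          exact mul_mem hu (hVn.conj_mem _ (inv_mem hu) _)
        rw [show ⁅u, y ^ 2 ^ (n - 1)⁆ = ⁅u, y ^ 2 ^ k⁆ ^ (2 * l) *
          ((⁅u, y ^ 2 ^ k⁆ ^ (2 * l))⁻¹ * ⁅u, y ^ 2 ^ (n - 1)⁆) by rw [mul_inv_cancel_left]]
        refine mul_mem (Subgroup.mem_sup_left ?_) (Subgroup.mem_sup_right ?_)
        · rw [pow_mul, pow_two]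
          exact pow_mem (Subgroup.subset_normalClosure (Set.mem_image_of_mem (fun v => v * v) hw)) _
        · simp only [Subgroup.mem_comap, map_mul, map_inv, map_pow, map_commutatorElement]
          exact h)
  -- conclusion
  obtain ⟨y0, hy0, hy0p⟩ := PLE.exists_lift (p := 2) f.ker
    ((QuotientGroup.quotientKerEquivOfSurjective f hfs).symm x) (by
      obtain ⟨j, hj⟩ := hx
      exact ⟨j, by rw [← map_pow, hj, map_one]⟩)
  have hfy : f y0 = x := by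
    have h1 := congrArg (QuotientGroup.quotientKerEquivOfSurjective f hfs) hy0
    rw [MulEquiv.apply_symm_apply] at h1
    rw [← h1]; rfl
  obtain ⟨M, hM⟩ : ∃ M, M = Zs.map f := ⟨_, rfl⟩
  haveI : M.Normal := hM ▸ hZsn.map f hfs
  have hsolQ : Group.IsSolvable (H ⧸ Cfsg.pPrimeCore 2 H) :=
    haveI := hsol
    Group.isSolvable_of_surjective (QuotientGroup.mk'_surjective _)
  have hMp : IsPGroup 2 M := by
    have hodd : ∀ w : H ⧸ Cfsg.pPrimeCore 2 H, w ∈ M → (orderOf w).Coprime 2 → w = 1 := by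
      intro w hw hco
      rw [hM] at hw
      obtain ⟨a, ha, rfl⟩ := hw
      obtain ⟨a', ha', hfa', hco'⟩ : ∃ a' ∈ Zs, f a' = f a ∧ (orderOf a').Coprime 2 := by
        obtain ⟨v, o, ho, hvo⟩ := Nat.exists_eq_two_pow_mul_odd (orderOf_pos a).ne'
        obtain ⟨r, hr⟩ : ∃ r, (f a) ^ (2 ^ v * r) = f a := by
          obtain ⟨r, hr⟩ := exists_pow_eq_self_of_coprime
            (show Nat.Coprime (2 ^ v) (orderOf (f a)) from (hco.pow_right v).symm)
          exact ⟨r, by rw [pow_mul]; exact hr⟩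
        refine ⟨a ^ (2 ^ v * r), pow_mem ha _, by rw [map_pow, hr], ?_⟩
        refine (Nat.coprime_two_right.2 ho).coprime_dvd_left (orderOf_dvd_of_pow_eq_one ?_)
        rw [← pow_mul, mul_right_comm, ← hvo, pow_mul, pow_orderOf_eq_one, one_pow]
      have hcen := hZcen a' ha' hco'
      have h1 : f a ∈ Subgroup.centralizer
          (Cfsg.pCore 2 (H ⧸ Cfsg.pPrimeCore 2 H) : Set (H ⧸ Cfsg.pPrimeCore 2 H)) := by
        rw [← hfa', Subgroup.mem_centralizer_iff]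
        intro b hb
        rw [SetLike.mem_coe, ← hTimage] at hb
        obtain ⟨c, hc, rfl⟩ := hb
        have hcN : c ∈ N := hN ▸ Subgroup.le_normalizer hc
        have h2 := Subgroup.mem_centralizer_iff.1 hcen ⟨c, hcN⟩ ((hUmem _).2 hc)
        rw [show QuotientGroup.mk' _ c = f ⟨c, hcN⟩ from (hfa ⟨c, hcN⟩).symm, ← map_mul, ← map_mul]
        exact congrArg f h2
      have h3 := Fusion.centralizer_pCore_le_of_solvable hsolQ Fusion.pPrimeCore_quotient_eq_bot h1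
      obtain ⟨i, hi⟩ := Cfsg.Agent.Solv.pCore_isPGroup 2 ⟨f a, h3⟩
      rw [← orderOf_eq_one_iff]
      exact Nat.eq_one_of_dvd_coprimes (hco.pow_right i) dvd_rfl
        (orderOf_dvd_of_pow_eq_one (congrArg Subtype.val hi))
    intro w
    obtain ⟨v, o, ho, hvo⟩ := Nat.exists_eq_two_pow_mul_odd (orderOf_pos (w : H ⧸ Cfsg.pPrimeCore 2 H)).ne'
    refine ⟨v, Subtype.ext ?_⟩
    rw [SubmonoidClass.coe_pow, OneMemClass.coe_one]
    refine hodd _ (pow_mem w.2 _) ((Nat.coprime_two_right.2 ho).coprime_dvd_left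
      (orderOf_dvd_of_pow_eq_one ?_))
    rw [← pow_mul, ← hvo, pow_orderOf_eq_one]
  refine Cfsg.Agent.Solv.normal_le_pCore hMp ?_
  rw [hM, ← hfy, ← map_pow]
  exact Subgroup.mem_map_of_mem f (hZsub (by rw [hZdef]; exact ⟨y0, hy0p, rfl⟩))

end Cfsg.Agent.Solv.Gross
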