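import Cfsg.Agent.Lib.Solv.Gross.Weights

/-!
Weight spaces permuted by an operator of order `2 ^ n` whose orbit sums vanish.
-/

set_option autoImplicit false
set_option linter.style.haveILetI false

namespace Cfsg.Agent.Solv.Gross

open Cfsg.Agent.Solv.CRep

universe u v

variable {K : Type*} [Field K] {G : Type u} [Group G] {W : Type v} [AddCommGroup W] [Module K W]

theorem sum_split {M : Type*} [AddCommMonoid M] (f : ℕ → M) (L : ℕ) : ∀ l : ℕ,
    ∑ j ∈ Finset.range (L * l), f j = ∑ i ∈ Finset.range L, ∑ t ∈ Finset.range l, f (L * t + i) := by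
  intro l
  induction l with
  | zero => simp
  | succ l ih =>
    rw [Nat.mul_succ, Finset.sum_range_add, ih, ← Finset.sum_add_distrib]
    exact Finset.sum_congr rfl fun i _ => (Finset.sum_range_succ (fun t => f (L * t + i)) l).symm

/-- An operator whose orbit sums vanish: the weight has a short period and the corresponding power
has no regular block on the weight space. -/
theorem period_sum [Finite G] (ρ : G →* Module.End K W) (A : Subgroup G) (x : G)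
    (hx : x ∈ Subgroup.normalizer (A : Set G)) (n : ℕ) (hxn : x ^ 2 ^ n = 1)
    (hdeg : ∑ j ∈ Finset.range (2 ^ n), ρ x ^ j = 0) (χ : G → K) (hχ : wt ρ A χ ≠ ⊥) :
    ∃ k, k < n ∧ (∀ a ∈ A, χ ((x ^ 2 ^ k)⁻¹ * a * x ^ 2 ^ k) = χ a) ∧
      ∀ w ∈ wt ρ A χ,
        (∑ t ∈ Finset.range (2 ^ (n - k)), ρ (x ^ 2 ^ k) ^ t : Module.End K W) w = 0 := by
  classical
  obtain ⟨w₀, hw₀, hw₀'⟩ := Submodule.exists_mem_ne_zero_of_ne_bot hχ
  haveI : Nontrivial W := ⟨⟨w₀, 0, hw₀'⟩⟩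
  have hin : ∀ i : ℕ, ∀ a ∈ A, (x ^ i)⁻¹ * a * x ^ i ∈ A := fun i a ha => by
    have := (Subgroup.mem_normalizer_iff.1 (inv_mem (pow_mem hx i)) a).1 ha
    simpa using this
  have hex : ∃ L, 0 < L ∧ ∀ a ∈ A, χ ((x ^ L)⁻¹ * a * x ^ L) = χ a :=
    ⟨2 ^ n, Nat.two_pow_pos n, fun a _ => by rw [hxn, inv_one, one_mul, mul_one]⟩
  obtain ⟨L, hL⟩ : ∃ L, L = Nat.find hex := ⟨_, rfl⟩
  obtain ⟨hL0, hLfix⟩ := hL ▸ Nat.find_spec hex
  have hmul : ∀ t, ∀ a ∈ A, χ ((x ^ (L * t))⁻¹ * a * x ^ (L * t)) = χ a := by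
    intro t
    induction t with
    | zero => intro a _; simp
    | succ t ih =>
      intro a ha
      rw [Nat.mul_succ, pow_add, show (x ^ (L * t) * x ^ L)⁻¹ * a * (x ^ (L * t) * x ^ L) =
        (x ^ L)⁻¹ * ((x ^ (L * t))⁻¹ * a * x ^ (L * t)) * x ^ L by group, hLfix _ (hin _ a ha), ih a ha]
  have hdist : ∀ i < L, ∀ j < L, i < j →
      ∃ a ∈ A, χ ((x ^ i)⁻¹ * a * x ^ i) ≠ χ ((x ^ j)⁻¹ * a * x ^ j) := by
    intro i _ j hj hij
    by_contra hcon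
    push Not at hcon
    refine Nat.find_min hex (m := j - i) (by omega) ⟨by omega, fun a ha => ?_⟩
    have hb : x ^ i * a * (x ^ i)⁻¹ ∈ A := (Subgroup.mem_normalizer_iff.1 (pow_mem hx i) a).1 ha
    have h1 := hcon _ hb
    rw [show x ^ j = x ^ i * x ^ (j - i) by rw [← pow_add, Nat.add_sub_cancel' hij.le]] at h1
    simpa [mul_assoc] using h1.symm
  have hdvd : L ∣ 2 ^ n := by
    rw [Nat.dvd_iff_mod_eq_zero]
    by_contra hne
    obtain ⟨a, ha, hne'⟩ := hdist 0 hL0 _ (Nat.mod_lt _ hL0) (Nat.pos_of_ne_zero hne)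
    refine hne' ?_
    rw [pow_zero, inv_one, one_mul, mul_one]
    conv_lhs => rw [show a = (x ^ 2 ^ n)⁻¹ * a * x ^ 2 ^ n by rw [hxn, inv_one, one_mul, mul_one]]
    rw [← Nat.mod_add_div (2 ^ n) L, pow_add,
      show (x ^ (2 ^ n % L) * x ^ (L * (2 ^ n / L)))⁻¹ * a * (x ^ (2 ^ n % L) * x ^ (L * (2 ^ n / L))) =
        (x ^ (L * (2 ^ n / L)))⁻¹ * ((x ^ (2 ^ n % L))⁻¹ * a * x ^ (2 ^ n % L)) * x ^ (L * (2 ^ n / L))
        by group, hmul _ _ (hin _ a ha), Nat.mod_add_div]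
  obtain ⟨k, hkn, hLk⟩ := (Nat.dvd_prime_pow Nat.prime_two).1 hdvd
  have hwt : ∀ (i : ℕ), ∀ w ∈ wt ρ A χ, ρ (x ^ i) w ∈ wt ρ A (fun a => χ ((x ^ i)⁻¹ * a * x ^ i)) :=
    fun i w hw => map_wt (pow_mem hx i) hw
  have hzero : ∀ w ∈ wt ρ A χ,
      (∑ t ∈ Finset.range (2 ^ (n - k)), ρ (x ^ 2 ^ k) ^ t : Module.End K W) w = 0 := by
    intro w hw
    have hsum : ∑ j ∈ Finset.range (2 ^ n), ρ (x ^ j) w = 0 := by
      rw [← LinearMap.sum_apply]
      simp_rw [map_pow]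
      rw [hdeg, LinearMap.zero_apply]
    rw [show 2 ^ n = L * 2 ^ (n - k) by rw [hLk, ← pow_add, Nat.add_sub_cancel' hkn],
      sum_split] at hsum
    obtain ⟨u, hu⟩ : ∃ u : ℕ → W, ∀ i, u i = ∑ t ∈ Finset.range (2 ^ (n - k)), ρ (x ^ (L * t + i)) w :=
      ⟨_, fun _ => rfl⟩
    have h0 : u 0 = 0 := ThmB.weights_indep (fun a => ρ a) (A : Set G)
      (fun i a => χ ((x ^ i)⁻¹ * a * x ^ i)) (Finset.range L) u
      (fun i _ a ha => by
        rw [hu, map_sum, Finset.smul_sum]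
        refine Finset.sum_congr rfl fun t _ => ?_
        rw [mem_wt.1 (hwt (L * t + i) w hw) a ha]
        congr 1
        rw [pow_add, show (x ^ (L * t) * x ^ i)⁻¹ * a * (x ^ (L * t) * x ^ i) =
          (x ^ i)⁻¹ * ((x ^ (L * t))⁻¹ * a * x ^ (L * t)) * x ^ i by group]
        have hcomm : (x ^ i)⁻¹ * ((x ^ (L * t))⁻¹ * a * x ^ (L * t)) * x ^ i =
            (x ^ (L * t))⁻¹ * ((x ^ i)⁻¹ * a * x ^ i) * x ^ (L * t) := by
          have e : x ^ (L * t) * x ^ i = x ^ i * x ^ (L * t) := by rw [← pow_add, ← pow_add, add_comm]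
          calc _ = (x ^ (L * t) * x ^ i)⁻¹ * a * (x ^ (L * t) * x ^ i) := by group
            _ = (x ^ i * x ^ (L * t))⁻¹ * a * (x ^ i * x ^ (L * t)) := by rw [e]
            _ = _ := by group
        rw [hcomm, hmul t _ (hin i a ha)])
      (fun i hi j hj hij => by
        rw [Finset.mem_range] at hi hj
        rcases Nat.lt_or_gt_of_ne hij with h | h
        · exact hdist i hi j hj h
        · obtain ⟨a, ha, h'⟩ := hdist j hj i hi h
          exact ⟨a, ha, Ne.symm h'⟩)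
      (by rw [← hsum]; exact Finset.sum_congr rfl fun i _ => hu i) 0 (Finset.mem_range.2 hL0)
    rw [hu] at h0
    rw [LinearMap.sum_apply, ← h0]
    refine Finset.sum_congr rfl fun t _ => ?_
    rw [← map_pow, ← pow_mul, hLk, add_zero]
  refine ⟨k, lt_of_le_of_ne hkn ?_, fun a ha => hLk ▸ hLfix a ha, hzero⟩
  rintro rfl
  have := hzero w₀ hw₀
  rw [Nat.sub_self, pow_zero, Finset.sum_range_one, pow_zero, Module.End.one_apply] at this
  exact hw₀' this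

/-- Half the order centralizes a subgroup with commutative image. -/
theorem half_central [IsAlgClosed K] [FiniteDimensional K W] [Finite G] (ρ : G →* Module.End K W)
    (A : Subgroup G) (hA : ∀ a ∈ A, ∀ b ∈ A, Commute (ρ a) (ρ b)) (x : G)
    (hx : x ∈ Subgroup.normalizer (A : Set G)) (n : ℕ) (hxn : x ^ 2 ^ n = 1)
    (hsum : ∑ j ∈ Finset.range (2 ^ n), ρ x ^ j = 0) (a : G) (ha : a ∈ A)
    (hord : ((orderOf (x ^ 2 ^ (n - 1) * a * (x ^ 2 ^ (n - 1))⁻¹ * a⁻¹) : ℕ) : K) ≠ 0) :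
    ρ (x ^ 2 ^ (n - 1) * a * (x ^ 2 ^ (n - 1))⁻¹ * a⁻¹) = 1 := by
  classical
  obtain ⟨z, hz⟩ : ∃ z, z = x ^ 2 ^ (n - 1) := ⟨_, rfl⟩
  rw [← hz] at hord ⊢
  have hin : ∀ i : ℕ, ∀ b ∈ A, (x ^ i)⁻¹ * b * x ^ i ∈ A := fun i b hb => by
    have := (Subgroup.mem_normalizer_iff.1 (inv_mem (pow_mem hx i)) b).1 hb
    simpa using this
  have hza : z * a * z⁻¹ ∈ A := hz ▸ (Subgroup.mem_normalizer_iff.1 (pow_mem hx _) a).1 ha
  refine eq_one_of_weights ρ A hA _ (mul_mem hza (inv_mem ha)) hord fun χ hχ => ?_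
  obtain ⟨k, hk, hfix, -⟩ := period_sum ρ A x hx n hxn hsum χ hχ
  obtain ⟨w, hw, hw0⟩ := Submodule.exists_mem_ne_zero_of_ne_bot hχ
  have hmul : ∀ t, ∀ b ∈ A, χ ((x ^ (2 ^ k * t))⁻¹ * b * x ^ (2 ^ k * t)) = χ b := by
    intro t
    induction t with
    | zero => intro b _; simp
    | succ t ih =>
      intro b hb
      rw [Nat.mul_succ, pow_add, show (x ^ (2 ^ k * t) * x ^ 2 ^ k)⁻¹ * b *
        (x ^ (2 ^ k * t) * x ^ 2 ^ k) =
        (x ^ 2 ^ k)⁻¹ * ((x ^ (2 ^ k * t))⁻¹ * b * x ^ (2 ^ k * t)) * x ^ 2 ^ k by group,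
        hfix _ (hin _ b hb), ih b hb]
  have h2 := hmul (2 ^ (n - 1 - k)) _ hza
  rw [← pow_add, Nat.add_sub_cancel' (by omega : k ≤ n - 1), ← hz,
    show z⁻¹ * (z * a * z⁻¹) * z = a by group] at h2
  have h3 : ρ (z * a * z⁻¹ * a⁻¹) w = w := by
    rw [map_mul, Module.End.mul_apply, mem_wt.1 hw _ (inv_mem ha), map_smul, mem_wt.1 hw _ hza, ← h2,
      smul_smul]
    have h4 : ρ (a⁻¹ * a) w = w := by rw [inv_mul_cancel, map_one, Module.End.one_apply]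
    rw [map_mul, Module.End.mul_apply, mem_wt.1 hw a ha, map_smul, mem_wt.1 hw _ (inv_mem ha),
      smul_smul, mul_comm] at h4
    exact h4
  rw [mem_wt.1 hw _ (mul_mem hza (inv_mem ha))] at h3
  exact smul_left_injective K hw0 (h3.trans (one_smul K w).symm)

end Cfsg.Agent.Solv.Gross
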