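import Cfsg.Agent.Lib.Solv.Gross.Exceptional
import Cfsg.Agent.Lib.Solv.Gross.CoreTwo
import Cfsg.Agent.Lib.Solv.Gross.SumWeights

/-!
An operator of order `2 ^ m` with vanishing orbit sums on a module of odd characteristic, on which a
`q`-group has scalar commutators: half its order centralizes the group modulo scalars or moves just a
plane.
-/

set_option autoImplicit false
set_option linter.style.haveILetI false

namespace Cfsg.Agent.Solv.Gross

open Cfsg.Agent.Solv.CRep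
open scoped commutatorElement

universe u v

variable {K : Type*} [Field K] [IsAlgClosed K] {r : ℕ} [Fact r.Prime] [CharP K r]
variable {G : Type u} [Group G] [Finite G]
variable {W : Type v} [AddCommGroup W] [Module K W] [FiniteDimensional K W]

/-- The alternative for an operator whose orbit sums vanish. -/
theorem exceptional_sum [Nontrivial W] {q : ℕ} [Fact q.Prime] (hq : q ≠ 2) (hr2 : r ≠ 2) (hqr : q ≠ r) (C : Subgroup G)
    (hC : IsPGroup q C) (ρ : G →* Module.End K W) (g : G)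
    (hgC : g ∈ Subgroup.normalizer (C : Set G))
    (hcomm : ∀ a ∈ C, ∀ b ∈ C, ∃ c : K, ρ ⁅a, b⁆ = c • 1) (hpow : ∀ a ∈ C, ∃ c : K, ρ (a ^ q) = c • 1)
    (m : ℕ) (hgm : g ^ 2 ^ m = 1) (hsumW : ∑ j ∈ Finset.range (2 ^ m), ρ g ^ j = 0)
    (R : Subgroup G) (hR : ∀ a, a ∈ R ↔ a ∈ C ∧ ∀ b ∈ C, ρ ⁅a, b⁆ = 1) :
    (∀ c ∈ C, g ^ 2 ^ (m - 1) * c * (g ^ 2 ^ (m - 1))⁻¹ * c⁻¹ ∈ R) ∨
    (2 ≤ m ∧ q + 1 = 2 ^ m ∧ ∃ Q : Subgroup G, Q ≤ C ∧ R.relIndex Q = q ^ 2 ∧
      (∀ c ∈ C, g * c * g⁻¹ * c⁻¹ ∈ Q ⊔ R) ∧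
      ∀ a ∈ Q, g ^ 2 ^ (m - 1) * a * (g ^ 2 ^ (m - 1))⁻¹ * a ∈ R) := by
  classical
  haveI : Fact (Nat.Prime 2) := ⟨Nat.prime_two⟩
  obtain ⟨z, hz⟩ : ∃ z, z = g ^ 2 ^ (m - 1) := ⟨_, rfl⟩
  rw [← hz]
  by_cases hall : ∀ c ∈ C, z * c * z⁻¹ * c⁻¹ ∈ R
  · exact Or.inl hall
  refine Or.inr ?_
  have hm1 : 1 ≤ m := by
    by_contra h
    obtain rfl : m = 0 := by omega
    rw [Nat.zero_sub, pow_zero, pow_one] at hz
    rw [pow_zero, pow_one] at hgm
    exact hall fun c _ => by rw [hz, hgm, one_mul, inv_one, mul_one, mul_inv_cancel]; exact one_mem _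
  have hz2 : z * z = 1 := by
    rw [hz, ← pow_add, ← two_mul, ← pow_succ', Nat.sub_add_cancel hm1, hgm]
  have hzinv : z⁻¹ = z := inv_eq_of_mul_eq_one_right hz2
  obtain ⟨S, -, hS, -⟩ := exists_scalar_central ρ C hcomm
  have hzC : z ∈ Subgroup.normalizer (C : Set G) := hz ▸ pow_mem hgC _
  have hnC : ∀ {y}, y ∈ Subgroup.normalizer (C : Set G) → ∀ a ∈ C, y * a * y⁻¹ ∈ C := fun hy a ha =>
    (Subgroup.mem_normalizer_iff.1 hy a).1 ha
  have hconjS : ∀ (y : G), y ∈ Subgroup.normalizer (C : Set G) → ∀ s ∈ S,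
      y * s * y⁻¹ ∈ S ∧ ρ (y * s * y⁻¹) = ρ s := by
    intro y hy s hs
    obtain ⟨hsC, c, hc⟩ := (hS s).1 hs
    have h1 : ρ (y * s * y⁻¹) = ρ s := by
      rw [map_mul, map_mul, hc, mul_smul_comm, mul_one, smul_mul_assoc, ← map_mul, mul_inv_cancel,
        map_one]
    exact ⟨(hS _).2 ⟨hnC hy s hsC, c, h1.trans hc⟩, h1⟩
  have hcS : ∀ a ∈ C, ∀ b ∈ C, ⁅a, b⁆ ∈ S := fun a ha b hb => (hS _).2 ⟨by
    rw [commutatorElement_def]; exact mul_mem (mul_mem (mul_mem ha hb) (inv_mem ha)) (inv_mem hb),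
    hcomm a ha b hb⟩
  have hCn : ∀ a ∈ C, a ∈ Subgroup.normalizer (C : Set G) := fun a ha => Subgroup.le_normalizer ha
  have hSR : S ≤ R := fun s hs => (hR s).2 ⟨((hS s).1 hs).1, fun b hb => by
    obtain ⟨-, c, hc⟩ := (hS s).1 hs
    rw [commutatorElement_def, show s * b * s⁻¹ * b⁻¹ = s * (b * s⁻¹ * b⁻¹) by group, map_mul,
      (hconjS b (hCn b hb) _ (inv_mem hs)).2, ← map_mul, mul_inv_cancel, map_one]⟩
  have hodd : Odd q := (Fact.out : q.Prime).odd_of_ne_two hq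
  have hordK : ∀ a ∈ C, ((orderOf a : ℕ) : K) ≠ 0 := fun a ha => by
    obtain ⟨i, hi⟩ := hC ⟨a, ha⟩
    obtain ⟨j, -, hj⟩ := (Nat.dvd_prime_pow (Fact.out : q.Prime)).1
      (orderOf_dvd_of_pow_eq_one (congrArg Subtype.val hi))
    rw [hj, Nat.cast_pow]
    refine pow_ne_zero _ fun h => ?_
    rw [CharP.cast_eq_zero_iff K r] at h
    exact hqr ((Nat.prime_dvd_prime_iff_eq Fact.out Fact.out).1 h).symm
  have h2K : (2 : K) ≠ 0 := fun h => by
    rw [← Nat.cast_two, CharP.cast_eq_zero_iff K r] at h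
    exact hr2 ((Nat.prime_dvd_prime_iff_eq Fact.out Nat.prime_two).1 h)
  -- an element whose square is scalar is scalar
  have hsq : ∀ a ∈ C, a * a ∈ S → a ∈ S := by
    intro a ha h
    obtain ⟨k, hk⟩ := hodd
    obtain ⟨c, hc⟩ := hpow a ha
    have h1 : a ^ q ∈ S := (hS _).2 ⟨pow_mem ha _, c, hc⟩
    have h2 : a = ((a * a) ^ k)⁻¹ * a ^ q := by
      rw [← pow_two, ← pow_mul, hk, pow_succ (a) (2 * k), inv_mul_cancel_left]
    rw [h2]; exact mul_mem (inv_mem (pow_mem h _)) h1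
  have hRC : R ≤ C := fun a ha => ((hR a).1 ha).1
  have hRcomm : ∀ a ∈ R, ∀ b ∈ C, Commute (ρ a) (ρ b) := fun a ha b hb => by
    have h1 := ((hR a).1 ha).2 b hb
    show ρ a * ρ b = ρ b * ρ a
    rw [← map_mul, ← map_mul, show a * b = ⁅a, b⁆ * (b * a) by rw [commutatorElement_def]; group,
      map_mul, h1, one_mul]
  have hgR : g ∈ Subgroup.normalizer (R : Set G) := by
    refine Subgroup.mem_normalizer_fintype fun a ha => ?_
    obtain ⟨haC, ha'⟩ := (hR a).1 ha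
    refine (hR _).2 ⟨hnC hgC a haC, fun b hb => ?_⟩
    have hb' : g⁻¹ * b * g ∈ C := by simpa using hnC (inv_mem hgC) b hb
    rw [show ⁅g * a * g⁻¹, b⁆ = g * ⁅a, g⁻¹ * b * g⁆ * g⁻¹ by simp only [commutatorElement_def]; group,
      map_mul, map_mul, ha' _ hb', mul_one, ← map_mul, mul_inv_cancel, map_one]
  -- half the order fixes central elements
  have hzR : ∀ a ∈ R, ρ (z * a * z⁻¹) = ρ a := by
    intro a ha
    have he : z * a * z⁻¹ * a⁻¹ ∈ R :=
      mul_mem ((Subgroup.mem_normalizer_iff.1 (hz ▸ pow_mem hgR _) a).1 ha) (inv_mem ha)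
    have h1 : ρ (z * a * z⁻¹ * a⁻¹) = 1 := by
      rw [hz] at he ⊢
      exact half_central ρ R (fun u hu v hv => hRcomm u hu v (hRC hv)) g hgR m hgm hsumW a ha
        (hordK _ (hRC he))
    calc ρ (z * a * z⁻¹) = ρ (z * a * z⁻¹ * a⁻¹) * ρ a := by rw [← map_mul, inv_mul_cancel_right]
      _ = ρ a := by rw [h1, one_mul]
  -- the inverted part
  obtain ⟨Q, hQ⟩ : ∃ Q : Subgroup G, ∀ a, a ∈ Q ↔ a ∈ C ∧ z * a * z⁻¹ * a ∈ S := by
    have hmul : ∀ {a b}, a ∈ C → z * a * z⁻¹ * a ∈ S → b ∈ C → z * b * z⁻¹ * b ∈ S →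
        z * (a * b) * z⁻¹ * (a * b) ∈ S := by
      intro a b ha ha' hb hb'
      have e : z * (a * b) * z⁻¹ * (a * b) = ((z * a * z⁻¹) * ⁅z * b * z⁻¹, a⁆ * (z * a * z⁻¹)⁻¹) *
          (z * a * z⁻¹ * a) * (z * b * z⁻¹ * b) := by
        simp only [commutatorElement_def]; group
      rw [e]
      exact mul_mem (mul_mem (hconjS _ (hCn _ (hnC hzC a ha)) _ (hcS _ (hnC hzC b hb) _ ha)).1 ha') hb'
    exact ⟨{ carrier := {a | a ∈ C ∧ z * a * z⁻¹ * a ∈ S}
             one_mem' := ⟨one_mem _, by simp⟩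
             mul_mem' := fun {a b} ha hb => ⟨mul_mem ha.1 hb.1, hmul ha.1 ha.2 hb.1 hb.2⟩
             inv_mem' := fun {a} ha => by
              refine ⟨inv_mem ha.1, ?_⟩
              have e2 : z * a⁻¹ * z⁻¹ * a⁻¹ = ⁅z * a⁻¹ * z⁻¹, a⁻¹⁆ * (z * a * z⁻¹ * a)⁻¹ := by
                simp only [commutatorElement_def]; group
              rw [e2]
              exact mul_mem (hcS _ (hnC hzC _ (inv_mem ha.1)) _ (inv_mem ha.1)) (inv_mem ha.2) },
      fun a => Iff.rfl⟩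
  have hQC : Q ≤ C := fun a ha => ((hQ a).1 ha).1
  have hQR : ∀ a ∈ Q, a ∈ R → a ∈ S := by
    intro a ha haR
    refine hsq a (hQC ha) ((hS _).2 ⟨mul_mem (hQC ha) (hQC ha), ?_⟩)
    obtain ⟨-, c, hc⟩ := (hS _).1 ((hQ a).1 ha).2
    exact ⟨c, by rw [map_mul, ← hzR a haR, hzR a haR, ← hc, map_mul, hzR a haR]⟩
  have hSQ : S ≤ Q := fun s hs => (hQ s).2 ⟨((hS s).1 hs).1, mul_mem (hconjS z hzC s hs).1 hs⟩
  have hdiff : ∀ c ∈ C, z * c * z⁻¹ * c⁻¹ ∈ Q := by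
    intro c hc
    refine (hQ _).2 ⟨mul_mem (hnC hzC c hc) (inv_mem hc), ?_⟩
    have e : z * (z * c * z⁻¹ * c⁻¹) * z⁻¹ * (z * c * z⁻¹ * c⁻¹) =
        (z * z) * c * (z * z)⁻¹ * c⁻¹ := by group
    rw [e, hz2, one_mul, inv_one, mul_one, mul_inv_cancel]
    exact one_mem _
  have hcinv : ∀ (a : G), a ∈ S → ∀ {c : K}, ρ a = c • 1 → c * c = 1 → c = 1 := fun a ha c hc h => by
    obtain ⟨j, hj⟩ := hC ⟨a, ((hS a).1 ha).1⟩
    have hj' : a ^ q ^ j = 1 := congrArg Subtype.val hj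
    have h1 : c ^ q ^ j = 1 := by
      have h3 := congrArg ρ hj'
      rw [map_pow, hc, smul_pow, one_pow, map_one] at h3
      exact smul_one_injective (W := W) (h3.trans (one_smul K _).symm)
    have h3 : c ^ Nat.gcd 2 (q ^ j) = 1 := pow_gcd_eq_one.2 ⟨by rw [pow_two]; exact h, h1⟩
    rwa [(Nat.coprime_two_left.2 hodd.pow : Nat.Coprime 2 (q ^ j)).gcd_eq_one, pow_one] at h3
  -- elements of `Q` which commute with `Q` are scalars
  have hQS : ∀ a ∈ Q, (∀ b ∈ Q, ρ ⁅a, b⁆ = 1) → a ∈ S := by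
    intro a ha h
    refine hQR a ha ((hR a).2 ⟨hQC ha, fun d hd => ?_⟩)
    obtain ⟨c, hc⟩ := hcomm a (hQC ha) d hd
    have hzd : ρ ⁅a, z * d * z⁻¹⁆ = c • 1 := by
      rw [show ⁅a, z * d * z⁻¹⁆ = ⁅a, z * d * z⁻¹ * d⁻¹⁆ *
        ((z * d * z⁻¹ * d⁻¹) * ⁅a, d⁆ * (z * d * z⁻¹ * d⁻¹)⁻¹) by
          simp only [commutatorElement_def]; group, map_mul, h _ (hdiff d hd), one_mul, ← hc]
      exact (hconjS _ (hCn _ (hQC (hdiff d hd))) _ (hcS a (hQC ha) d hd)).2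
    obtain ⟨-, c₁, hc₁⟩ := (hS _).1 ((hQ a).1 ha).2
    have hzz : ρ ⁅z * a * z⁻¹, z * d * z⁻¹⁆ = c • 1 := by
      rw [show ⁅z * a * z⁻¹, z * d * z⁻¹⁆ = z * ⁅a, d⁆ * z⁻¹ by
        simp only [commutatorElement_def]; group, ← hc]
      exact (hconjS _ hzC _ (hcS a (hQC ha) d hd)).2
    have hsR := ((hR _).1 (hSR ((hQ a).1 ha).2)).2 (z * d * z⁻¹) (hnC hzC d hd)
    rw [show ⁅z * a * z⁻¹ * a, z * d * z⁻¹⁆ = (z * a * z⁻¹) * ⁅a, z * d * z⁻¹⁆ * (z * a * z⁻¹)⁻¹ *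
      ⁅z * a * z⁻¹, z * d * z⁻¹⁆ by simp only [commutatorElement_def]; group, map_mul,
      (hconjS _ (hCn _ (hnC hzC a (hQC ha))) _ (hcS a (hQC ha) _ (hnC hzC d hd))).2, hzd, hzz,
      smul_mul_assoc, one_mul, smul_smul] at hsR
    rw [hc, hcinv _ (hcS a (hQC ha) d hd) hc (smul_one_injective (W := W) (hsR.trans (one_smul K _).symm)), one_smul]
  obtain ⟨c₀, hc₀, hc₀R⟩ : ∃ c ∈ C, z * c * z⁻¹ * c⁻¹ ∉ R := by
    by_contra h
    push Not at h
    exact hall h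
  have hgS : ∀ a ∈ S, g * a * g⁻¹ ∈ S := fun a ha => (hconjS g hgC a ha).1
  have hgQ : g ∈ Subgroup.normalizer (Q : Set G) := by
    refine Subgroup.mem_normalizer_fintype fun a ha => ?_
    obtain ⟨haC, haS⟩ := (hQ a).1 ha
    refine (hQ _).2 ⟨hnC hgC a haC, ?_⟩
    have hzg : z * g = g * z := by rw [hz]; exact (Commute.self_pow g _).symm.eq
    have e : z * (g * a * g⁻¹) * z⁻¹ * (g * a * g⁻¹) = g * (z * a * z⁻¹ * a) * g⁻¹ := by
      calc _ = (z * g) * a * (z * g)⁻¹ * (g * a * g⁻¹) := by group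
        _ = (g * z) * a * (g * z)⁻¹ * (g * a * g⁻¹) := by rw [hzg]
        _ = _ := by group
    rw [e]; exact hgS _ haS
  -- a simple submodule for `Q` and `g`
  obtain ⟨G0, hG0⟩ : ∃ G0, G0 = Q ⊔ Subgroup.zpowers g := ⟨_, rfl⟩
  have hQG0 : Q ≤ G0 := hG0 ▸ le_sup_left
  have hgG0 : g ∈ G0 := hG0 ▸ Subgroup.mem_sup_right (Subgroup.mem_zpowers g)
  obtain ⟨U, hU, hUs⟩ := exists_simple (ρ.comp G0.subtype)
  haveI := hUs.1
  obtain ⟨σ, hσ⟩ : ∃ σ : G0 →* Module.End K U, σ = subRep (ρ.comp G0.subtype) U hU := ⟨_, rfl⟩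
  rw [← hσ] at hUs
  have hσa : ∀ (a : G0) (u : U), ((σ a u : U) : W) = ρ (a : G) u := fun a u => by rw [hσ]; rfl
  obtain ⟨g0, hg0⟩ : ∃ g0 : G0, (g0 : G) = g := ⟨⟨g, hgG0⟩, rfl⟩
  have hσsc : ∀ (a : G0) (c : K), ρ (a : G) = c • 1 → σ a = c • 1 := fun a c h =>
    LinearMap.ext fun u => Subtype.ext (by rw [hσa, h]; rfl)
  have hscalar : ∀ a ∈ Q.subgroupOf G0,
      (∀ b ∈ Q.subgroupOf G0, Commute (σ a) (σ b)) → (a : G) ∈ S := by
    intro a ha h
    refine hQS _ ha fun b hb => ?_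
    obtain ⟨c, hc⟩ := hcomm (a : G) (hQC ha) b (hQC hb)
    obtain ⟨b0, hb0⟩ : ∃ b0 : G0, (b0 : G) = b := ⟨⟨b, hQG0 hb⟩, rfl⟩
    have h1 : σ ⁅a, b0⁆ = c • 1 := hσsc _ c (by
      rw [show ((⁅a, b0⁆ : G0) : G) = ⁅(a : G), b⁆ from hb0 ▸ map_commutatorElement G0.subtype a b0, hc])
    have h2 : σ ⁅a, b0⁆ = 1 := by
      rw [show ⁅a, b0⁆ = a * b0 * (b0 * a)⁻¹ by rw [commutatorElement_def]; group, map_mul, map_mul,
        (h b0 (Subgroup.mem_subgroupOf.2 (hb0 ▸ hb))).eq, ← map_mul, ← map_mul, mul_inv_cancel, map_one]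
    rw [h1] at h2
    rw [hc, smul_one_injective (h2.trans (one_smul K _).symm), one_smul]
  have hirr : ∀ X : Submodule K U, (∀ a ∈ Q.subgroupOf G0, ∀ u ∈ X, σ a u ∈ X) →
      (∀ u ∈ X, σ g0 u ∈ X) → X = ⊥ ∨ X = ⊤ := by
    intro X hXQ hXg
    obtain ⟨St, hSt⟩ := ThmB.exists_stab σ X
    refine hUs.2 X fun a => (hSt a).1 ?_
    have hle : G0 ≤ St.map G0.subtype := by
      conv_lhs => rw [hG0]
      refine sup_le (fun b hb => ⟨⟨b, hQG0 hb⟩, (hSt _).2 (hXQ _ hb), rfl⟩) ?_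
      rw [Subgroup.zpowers_le]
      exact ⟨g0, (hSt _).2 hXg, hg0⟩
    obtain ⟨a', ha', he⟩ := hle a.2
    rwa [← Subtype.ext he]
  have hcl : ∀ a ∈ Q.subgroupOf G0, ∀ b ∈ Q.subgroupOf G0, ∀ c ∈ Q.subgroupOf G0,
      Commute (σ ⁅a, b⁆) (σ c) := by
    intro a ha b hb c _
    obtain ⟨d, hd⟩ := hcomm _ (hQC ha) _ (hQC hb)
    rw [hσsc ⁅a, b⁆ d hd]
    exact (Commute.one_left _).smul_left d
  have hg0n : g0 ∈ Subgroup.normalizer ((Q.subgroupOf G0 : Subgroup G0) : Set G0) := by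
    refine Subgroup.mem_normalizer_iff.2 fun a => ?_
    simp only [Subgroup.mem_subgroupOf, Subgroup.coe_mul, InvMemClass.coe_inv, hg0]
    exact Subgroup.mem_normalizer_iff.1 hgQ a
  have hσgm : σ g0 ^ 2 ^ m = 1 := by
    rw [← map_pow, show g0 ^ 2 ^ m = 1 from Subtype.ext (by
      rw [SubmonoidClass.coe_pow, hg0, hgm, OneMemClass.coe_one]), map_one]
  obtain ⟨τ, hτ⟩ : ∃ τ : G0 →* (Module.End K U)ˣ, τ = σ.toHomUnits := ⟨_, rfl⟩
  obtain ⟨G1, hG1⟩ : ∃ G1 : Subgroup (Module.End K U)ˣ, G1 = τ.range := ⟨_, rfl⟩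
  haveI : Finite G1 := hG1 ▸ Finite.of_surjective _ τ.rangeRestrict_surjective
  obtain ⟨θ, hθ, hθs⟩ : ∃ θ : G0 →* G1, (∀ a, ((θ a : (Module.End K U)ˣ) : Module.End K U) = σ a) ∧
      Function.Surjective θ := by
    subst hG1 hτ
    exact ⟨σ.toHomUnits.rangeRestrict, fun _ => rfl, MonoidHom.rangeRestrict_surjective _⟩
  obtain ⟨π, hπ⟩ : ∃ π : G1 →* Module.End K U, π = (Units.coeHom _).comp G1.subtype := ⟨_, rfl⟩
  have hπθ : ∀ a, π (θ a) = σ a := fun a => by rw [hπ]; exact hθ a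
  have hπinj : Function.Injective π := by
    rw [hπ]; exact Units.val_injective.comp Subtype.val_injective
  obtain ⟨Q1, hQ1⟩ : ∃ Q1, Q1 = (Q.subgroupOf G0).map θ := ⟨_, rfl⟩
  have hQ1p : IsPGroup q Q1 := hQ1 ▸ ((hC.to_le hQC).comap_subtype).map θ
  have hgQ1 : θ g0 ∈ Subgroup.normalizer (Q1 : Set G1) := by
    refine Subgroup.mem_normalizer_fintype fun w hw => ?_
    rw [hQ1] at hw ⊢
    obtain ⟨a, ha, rfl⟩ := hw
    exact ⟨g0 * a * g0⁻¹, (Subgroup.mem_normalizer_iff.1 hg0n a).1 ha, by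
      rw [map_mul, map_mul, map_inv]⟩
  have hsimple : IsSimpleRep (π.comp Q1.subtype) := by
    refine ThmB.simple_of_homogeneous (p := r) hqr Q1 hQ1p ?_ (θ g0) hgQ1 π ?_ (Nat.two_pow_pos m)
      (by rw [hπθ]; exact hσgm) ?_
    · rw [hQ1]
      rintro _ ⟨a, ha, rfl⟩ _ ⟨b, hb, rfl⟩ _ ⟨c, hc, rfl⟩
      refine hπinj ?_
      rw [map_mul, map_mul, ← map_commutatorElement θ, hπθ, hπθ]
      exact (hcl a ha b hb c hc).eq
    · intro X hXQ hXg
      refine hirr X (fun a ha u hu => ?_) (fun u hu => ?_)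
      · rw [← hπθ]; exact hXQ _ (hQ1 ▸ Subgroup.mem_map_of_mem θ ha) u hu
      · rw [← hπθ]; exact hXg u hu
    · rintro w hw h
      rw [hQ1] at hw
      obtain ⟨a, ha, rfl⟩ := hw
      obtain ⟨-, c, hc⟩ := (hS _).1 (hscalar a ha fun b hb => by
        rw [← hπθ, ← hπθ]; exact h _ (hQ1 ▸ Subgroup.mem_map_of_mem θ hb))
      exact ⟨c, by rw [hπθ]; exact hσsc a c hc⟩
  have hQsimple : IsSimpleRep (σ.comp (Q.subgroupOf G0).subtype) := ⟨hUs.1, fun X hX => by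
    refine hsimple.2 X fun w u hu => ?_
    obtain ⟨a, ha, he⟩ := hQ1.le w.2
    show π (w : G1) u ∈ X
    rw [← he, hπθ]
    exact hX ⟨a, ha⟩ u hu⟩
  -- the critical case
  haveI hQ0n : (Q.subgroupOf G0).Normal := Subgroup.normal_subgroupOf_of_le_normalizer (by
    rw [hG0]; exact sup_le Subgroup.le_normalizer (Subgroup.zpowers_le.2 hgQ))
  obtain ⟨α, hα⟩ : ∃ α : MulAut (Q.subgroupOf G0), ∀ a, ((α a : Q.subgroupOf G0) : G0) = g0 * a * g0⁻¹ :=
    ⟨MulAut.conjNormal g0, fun a => MulAut.conjNormal_apply g0 a⟩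
  have hαi : ∀ (i : ℕ) (a : Q.subgroupOf G0),
      (((α ^ i) a : Q.subgroupOf G0) : G0) = g0 ^ i * a * (g0 ^ i)⁻¹ := by
    intro i
    induction i with
    | zero => simp
    | succ i ih => intro a; rw [pow_succ', MulAut.mul_apply, hα, ih, pow_succ']; group
  obtain ⟨R0, hR0⟩ : ∃ R0, R0 = (S.subgroupOf G0).subgroupOf (Q.subgroupOf G0) := ⟨_, rfl⟩
  have hR0mem : ∀ a : Q.subgroupOf G0, a ∈ R0 ↔ ((a : G0) : G) ∈ S := fun a => by
    rw [hR0, Subgroup.mem_subgroupOf, Subgroup.mem_subgroupOf]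
  have hR0sc : ∀ a : Q.subgroupOf G0,
      a ∈ R0 ↔ ∃ c : K, (σ.comp (Q.subgroupOf G0).subtype) a = c • 1 := by
    intro a
    rw [hR0mem]
    refine ⟨fun h => ?_, fun ⟨c, hc⟩ => hscalar a a.2 fun b _ => ?_⟩
    · obtain ⟨-, c, hc⟩ := (hS _).1 h
      exact ⟨c, hσsc _ c hc⟩
    · rw [show σ (a : G0) = c • 1 from hc]
      exact (Commute.one_left _).smul_left c
  obtain ⟨e₀, he₀, he₀S⟩ : ∃ a : G0, (a : G) = z * c₀ * z⁻¹ * c₀⁻¹ ∧ (a : G) ∉ S :=
    ⟨⟨_, hQG0 (hdiff c₀ hc₀)⟩, rfl, fun h => hc₀R (hSR h)⟩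
  have hR0ne : R0 ≠ ⊤ := fun h => he₀S
    ((hR0mem ⟨e₀, Subgroup.mem_subgroupOf.2 (he₀ ▸ hdiff c₀ hc₀)⟩).1 (h ▸ Subgroup.mem_top _))
  have hfree : ∀ (a : Q.subgroupOf G0) (i : ℕ), 0 < i → i < 2 ^ m → a⁻¹ * (α ^ i) a ∈ R0 → a ∈ R0 := by
    intro a i hi hi' hfix
    rw [hR0mem] at hfix ⊢
    rw [Subgroup.coe_mul, Subgroup.coe_mul, InvMemClass.coe_inv, InvMemClass.coe_inv, hαi,
      Subgroup.coe_mul, Subgroup.coe_mul, InvMemClass.coe_inv, SubmonoidClass.coe_pow, hg0] at hfix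
    obtain ⟨x, hx⟩ : ∃ x, x = ((a : G0) : G) := ⟨_, rfl⟩
    rw [← hx] at hfix ⊢
    have hpw : ∀ t : ℕ, x⁻¹ * ((g ^ i) ^ t * x * ((g ^ i) ^ t)⁻¹) ∈ S := by
      intro t
      induction t with
      | zero => simp
      | succ t ih =>
        have e : x⁻¹ * ((g ^ i) ^ (t + 1) * x * ((g ^ i) ^ (t + 1))⁻¹) =
            (x⁻¹ * (g ^ i * x * (g ^ i)⁻¹)) *
              (g ^ i * (x⁻¹ * ((g ^ i) ^ t * x * ((g ^ i) ^ t)⁻¹)) * (g ^ i)⁻¹) := by
          rw [pow_succ']; group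
        rw [e]
        exact mul_mem hfix (hconjS _ (pow_mem hgC i) _ ih).1
    obtain ⟨v, hv, hgcd⟩ := (Nat.dvd_prime_pow Nat.prime_two).1 (Nat.gcd_dvd_right i (2 ^ m))
    have hvm : v ≤ m - 1 := by
      by_contra hlt
      have : v = m := by omega
      rw [this] at hgcd
      have := Nat.le_of_dvd hi (hgcd ▸ Nat.gcd_dvd_left i (2 ^ m))
      omega
    obtain ⟨t, ht⟩ : ∃ t, (g ^ i) ^ t = g ^ 2 ^ v := by
      obtain ⟨t, -, ht⟩ := Nat.exists_mul_mod_eq_gcd (n := i) (k := 2 ^ m)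
        (lt_of_le_of_lt (Nat.gcd_le_left _ hi) hi')
      refine ⟨t, ?_⟩
      rw [← pow_mul, ← hgcd, ← ht]
      conv_lhs => rw [← Nat.mod_add_div (i * t) (2 ^ m), pow_add, pow_mul, hgm, one_pow, mul_one]
    have hzfix := hpw (t * 2 ^ (m - 1 - v))
    rw [pow_mul, ht, ← pow_mul, ← pow_add, Nat.add_sub_cancel' hvm, ← hz] at hzfix
    obtain ⟨hxC, hxS⟩ := (hQ x).1 (hx ▸ Subgroup.mem_subgroupOf.1 a.2)
    refine hsq x hxC ?_
    have e : x * x = (z * x * z⁻¹ * x) * (x⁻¹ * (x⁻¹ * (z * x * z⁻¹))⁻¹ * x⁻¹⁻¹) := by group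
    rw [e]
    exact mul_mem hxS (hconjS _ (hCn _ (inv_mem hxC)) _ (inv_mem hzfix)).1
  have hsumU : ∑ i ∈ Finset.range (2 ^ m), σ g0 ^ i = 0 := LinearMap.ext fun u => Subtype.ext (by
    rw [LinearMap.sum_apply, LinearMap.zero_apply, ZeroMemClass.coe_zero, AddSubmonoidClass.coe_finsetSum]
    have h1 := LinearMap.congr_fun hsumW (u : W)
    rw [LinearMap.sum_apply, LinearMap.zero_apply] at h1
    rw [← h1]
    refine Finset.sum_congr rfl fun i _ => ?_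
    rw [← map_pow, ← map_pow, hσa, SubmonoidClass.coe_pow, hg0])
  obtain ⟨b, hb1, hb, hidx, hev⟩ := core_two (show IsPGroup q (Q.subgroupOf G0) from (hC.to_le hQC).comap_subtype)
    (fun h => by
      rw [CharP.cast_eq_zero_iff K r] at h
      exact hqr ((Nat.prime_dvd_prime_iff_eq Fact.out Fact.out).1 h).symm)
    h2K (σ.comp (Q.subgroupOf G0).subtype) hQsimple α m (σ g0) hσgm
    (fun a => by
      show σ g0 * σ (a : G0) = σ ((α a : Q.subgroupOf G0) : G0) * σ g0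
      rw [hα, ← map_mul, ← map_mul, inv_mul_cancel_right])
    hsumU R0 hR0sc
    (fun a b => (hR0mem _).2 (by
      rw [show (((⁅a, b⁆ : Q.subgroupOf G0) : G0) : G) = ⁅((a : G0) : G), ((b : G0) : G)⁆ from
        map_commutatorElement (G0.subtype.comp (Q.subgroupOf G0).subtype) a b]
      exact hcS _ (hQC (Subgroup.mem_subgroupOf.1 a.2)) _ (hQC (Subgroup.mem_subgroupOf.1 b.2))))
    hR0ne hfree
  have hqb : q ≤ q ^ b := Nat.le_self_pow (by omega) q
  have hq3 : 3 ≤ q := by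
    have := (Fact.out : q.Prime).two_le
    omega
  have hm2 : 2 ≤ m := by
    by_contra h
    have : 2 ^ m ≤ 2 := le_trans (Nat.pow_le_pow_right two_pos (show m ≤ 1 by omega)) (by norm_num)
    omega
  obtain rfl : b = 1 := mersenne_pow_eq_one hodd hm2 hb.symm
  rw [pow_one] at hb hidx
  refine ⟨hm2, by omega, Q, hQC, ?_, ?_, fun a ha => hSR ((hQ a).1 ha).2⟩
  · -- the plane
    have hSRQ : R.relIndex Q = S.relIndex Q := by
      rw [← Subgroup.inf_relIndex_right R Q, ← Subgroup.inf_relIndex_right S Q]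
      congr 1
      exact le_antisymm (fun a ha => ⟨hQR a ha.2 ha.1, ha.2⟩) (inf_le_inf_right _ hSR)
    rw [hSRQ, ← hidx, hR0]
    show (S.subgroupOf Q).index = _
    rw [← Subgroup.index_comap_of_surjective (S.subgroupOf Q)
      (f := (Subgroup.subgroupOfEquivOfLe hQG0).toMonoidHom) (Subgroup.subgroupOfEquivOfLe hQG0).surjective]
    congr 1
  · -- the fixed part is fixed by `g` as well
    have hC0 : ∀ d ∈ C, z * d * z⁻¹ * d⁻¹ ∈ S → ∀ b ∈ Q, ρ ⁅d, b⁆ = 1 := by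
      intro d hd hdS b hb
      obtain ⟨c, hc⟩ := hcomm d hd b (hQC hb)
      obtain ⟨hbC, hbS⟩ := (hQ b).1 hb
      have hzb : z * b * z⁻¹ ∈ C := hnC hzC b hbC
      have e1 : ρ ⁅d, z * b * z⁻¹⁆ = c • 1 := by
        have e2 : ρ ⁅z * d * z⁻¹, z * b * z⁻¹⁆ = c • 1 := by
          rw [show ⁅z * d * z⁻¹, z * b * z⁻¹⁆ = z * ⁅d, b⁆ * z⁻¹ by
            simp only [commutatorElement_def]; group, ← hc]
          exact (hconjS z hzC _ (hcS d hd b hbC)).2
        rw [show ⁅z * d * z⁻¹, z * b * z⁻¹⁆ = (z * d * z⁻¹ * d⁻¹) * ⁅d, z * b * z⁻¹⁆ *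
          (z * d * z⁻¹ * d⁻¹)⁻¹ * ⁅z * d * z⁻¹ * d⁻¹, z * b * z⁻¹⁆ by
            simp only [commutatorElement_def]; group, map_mul,
          ((hR _).1 (hSR hdS)).2 _ hzb, mul_one,
          (hconjS _ (hCn _ ((hS _).1 hdS).1) _ (hcS d hd _ hzb)).2] at e2
        exact e2
      have e3 : ρ ⁅d, z * b * z⁻¹ * b⁆ = 1 := by
        obtain ⟨-, c', hc'⟩ := (hS _).1 hbS
        rw [commutatorElement_def, map_mul, map_mul, map_mul, hc',
          mul_smul_comm, mul_one, smul_mul_assoc, ← map_mul, mul_inv_cancel, map_one,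
          ← hc', ← map_mul, mul_inv_cancel, map_one]
      rw [show ⁅d, z * b * z⁻¹ * b⁆ = ⁅d, z * b * z⁻¹⁆ * ((z * b * z⁻¹) * ⁅d, b⁆ * (z * b * z⁻¹)⁻¹) by
        simp only [commutatorElement_def]; group, map_mul, e1,
        (hconjS _ (hCn _ hzb) _ (hcS d hd b hbC)).2, hc, smul_mul_assoc, one_mul, smul_smul] at e3
      rw [hc, hcinv _ (hcS d hd b hbC) hc (smul_one_injective (W := W) (e3.trans (one_smul K _).symm)), one_smul]
    have hfixU : ∀ d ∈ C, z * d * z⁻¹ * d⁻¹ ∈ S → ∀ u : U, ρ (g * d * g⁻¹) (u : W) = ρ d u := by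
      intro d hd hdS
      obtain ⟨L, hL⟩ : ∃ L : Module.End K (U →ₗ[K] W),
          ∀ f u, L f u = ρ g (f (σ g0⁻¹ u)) :=
        ⟨{ toFun := fun f => (ρ g).comp (f.comp (σ g0⁻¹))
           map_add' := fun f f' => by ext u; simp
           map_smul' := fun r f => by ext u; simp }, fun f u => rfl⟩
      obtain ⟨f, hf⟩ : ∃ f : U →ₗ[K] W, f = (ρ d).comp U.subtype := ⟨_, rfl⟩
      suffices hfix : L f = f by
        intro u
        have h1 := LinearMap.congr_fun hfix u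
        rw [hL, hf, LinearMap.comp_apply, LinearMap.comp_apply, Submodule.subtype_apply,
          Submodule.subtype_apply, hσa, InvMemClass.coe_inv, hg0, ← Module.End.mul_apply,
          ← Module.End.mul_apply, ← map_mul, ← map_mul] at h1
        exact h1
      have hLi : ∀ (j : ℕ) (f : U →ₗ[K] W) (u : U), (L ^ j) f u = ρ (g ^ j) (f (σ ((g0 ^ j)⁻¹) u)) := by
        intro j
        induction j with
        | zero => intro f u; simp
        | succ j ih =>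
          intro f u
          rw [pow_succ', Module.End.mul_apply, hL, ih, ← Module.End.mul_apply, ← map_mul, ← pow_succ',
            ← Module.End.mul_apply (σ _), ← map_mul, ← mul_inv_rev, ← pow_succ']
      have hLN : L ^ 2 ^ m = 1 := LinearMap.ext fun f => LinearMap.ext fun u => by
        rw [hLi, hgm, map_one, show g0 ^ 2 ^ m = 1 from Subtype.ext (by
          rw [SubmonoidClass.coe_pow, hg0, hgm, OneMemClass.coe_one]), inv_one, map_one]
        rfl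
      by_contra hne'
      -- an eigenvector among the intertwiners
      obtain ⟨X, hX⟩ : ∃ X : Submodule K (U →ₗ[K] W), ∀ f, f ∈ X ↔
          (∀ (a : Q.subgroupOf G0) (u : U), f (σ (a : G0) u) = ρ ((a : G0) : G) (f u)) ∧
            (∑ i ∈ Finset.range (2 ^ m), L ^ i : Module.End K (U →ₗ[K] W)) f = 0 :=
        ⟨{ carrier := {f | (∀ (a : Q.subgroupOf G0) (u : U), f (σ (a : G0) u) = ρ ((a : G0) : G) (f u)) ∧
              (∑ i ∈ Finset.range (2 ^ m), L ^ i : Module.End K (U →ₗ[K] W)) f = 0}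
           add_mem' := fun {f f'} hf hf' => ⟨fun a u => by
              rw [LinearMap.add_apply, LinearMap.add_apply, hf.1, hf'.1, map_add],
              by rw [map_add, hf.2, hf'.2, add_zero]⟩
           zero_mem' := ⟨fun a u => by simp, map_zero _⟩
           smul_mem' := fun c {f} hf => ⟨fun a u => by
              rw [LinearMap.smul_apply, LinearMap.smul_apply, hf.1, map_smul],
              by rw [map_smul, hf.2, smul_zero]⟩ }, fun _ => Iff.rfl⟩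
      have hint : ∀ f : U →ₗ[K] W,
          (∀ (a : Q.subgroupOf G0) (u : U), f (σ (a : G0) u) = ρ ((a : G0) : G) (f u)) →
          ∀ (a : Q.subgroupOf G0) (u : U), L f (σ (a : G0) u) = ρ ((a : G0) : G) (L f u) := by
        intro f hf a u
        rw [hL, hL, ← Module.End.mul_apply (σ g0⁻¹), ← map_mul,
          show g0⁻¹ * (a : G0) = (g0⁻¹ * (a : G0) * g0) * g0⁻¹ by group, map_mul, Module.End.mul_apply]
        have hmem : g0⁻¹ * (a : G0) * g0 ∈ Q.subgroupOf G0 := by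
          have := hQ0n.conj_mem _ a.2 g0⁻¹
          simpa using this
        rw [hf ⟨_, hmem⟩]
        simp only [Subgroup.coe_mul, InvMemClass.coe_inv, hg0, ← Module.End.mul_apply, ← map_mul]
        congr 2
        group
      have hSL : (∑ i ∈ Finset.range (2 ^ m), L ^ i) * L = ∑ i ∈ Finset.range (2 ^ m), L ^ i := by
        have h1 := geom_sum_mul L (2 ^ m)
        rw [hLN, sub_self, mul_sub, mul_one, sub_eq_zero] at h1
        exact h1
      have hXL : ∀ f ∈ X, L f ∈ X := fun f hf => by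
        rw [hX] at hf ⊢
        exact ⟨hint f hf.1, by rw [← Module.End.mul_apply, hSL, hf.2]⟩
      have hfint : ∀ (a : Q.subgroupOf G0) (u : U), f (σ (a : G0) u) = ρ ((a : G0) : G) (f u) := by
        intro a u
        rw [hf, LinearMap.comp_apply, LinearMap.comp_apply,
          Submodule.subtype_apply, Submodule.subtype_apply, hσa, ← Module.End.mul_apply,
          ← Module.End.mul_apply, ← map_mul, ← map_mul,
          show d * ((a : G0) : G) = ⁅d, ((a : G0) : G)⁆ * (((a : G0) : G) * d) by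
            rw [commutatorElement_def]; group,
          map_mul ρ ⁅d, _⁆, hC0 d hd hdS _ (Subgroup.mem_subgroupOf.1 a.2), one_mul]
      have hfX : L f - f ∈ X := (hX _).2 ⟨fun a u => by
        rw [LinearMap.sub_apply, LinearMap.sub_apply, hint f hfint, hfint, map_sub],
        by rw [map_sub, ← Module.End.mul_apply, hSL, sub_self]⟩
      haveI : Nontrivial X := Submodule.nontrivial_iff_ne_bot.2 fun h => hne' (by
        rw [h, Submodule.mem_bot, sub_eq_zero] at hfX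
        exact hfX)
      obtain ⟨ζ, hζ⟩ := Module.End.exists_eigenvalue (L.restrict hXL)
      obtain ⟨f0, hf0e, hf0ne⟩ := hζ.exists_hasEigenvector
      rw [Module.End.mem_eigenspace_iff] at hf0e
      have hLf0 : L (f0 : U →ₗ[K] W) = ζ • (f0 : U →ₗ[K] W) := congrArg Subtype.val hf0e
      have hf0' : (f0 : U →ₗ[K] W) ≠ 0 := fun h => hf0ne (Subtype.ext h)
      obtain ⟨hf0i, hf0s⟩ := (hX _).1 f0.2
      have hPK : ((2 ^ m : ℕ) : K) ≠ 0 := by rw [Nat.cast_pow, Nat.cast_two]; exact pow_ne_zero _ h2K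
      have hpowL : ∀ i : ℕ, (L ^ i) (f0 : U →ₗ[K] W) = ζ ^ i • (f0 : U →ₗ[K] W) := fun i => by
        induction i with
        | zero => simp
        | succ i ih => rw [pow_succ', Module.End.mul_apply, ih, map_smul, hLf0, smul_smul, ← pow_succ]
      have hζN : ζ ^ 2 ^ m = 1 := by
        have h1 := hpowL (2 ^ m)
        rw [hLN, Module.End.one_apply] at h1
        exact smul_left_injective K hf0' (h1.symm.trans (one_smul K (f0 : U →ₗ[K] W)).symm)
      have hζ1 : ζ ≠ 1 := fun h => by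
        rw [LinearMap.sum_apply, Finset.sum_congr rfl fun i _ => hpowL i] at hf0s
        simp only [h, one_pow, one_smul, Finset.sum_const, Finset.card_range] at hf0s
        rw [← Nat.cast_smul_eq_nsmul K, smul_eq_zero] at hf0s
        exact hf0' (hf0s.resolve_left hPK)
      obtain ⟨u, hu0, hu⟩ := hev ζ⁻¹ (by rw [inv_pow, hζN, inv_one]) (fun h => hζ1 (inv_eq_one.1 h))
      have hfixw : ρ g ((f0 : U →ₗ[K] W) u) = (f0 : U →ₗ[K] W) u := by
        have h1 := LinearMap.congr_fun hLf0 (σ g0 u)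
        rw [hL, rep_inv_apply, LinearMap.smul_apply, hu, map_smul, smul_smul,
          mul_inv_cancel₀ (fun h => by rw [h, zero_pow (by positivity)] at hζN; exact zero_ne_one hζN),
          one_smul] at h1
        exact h1
      have hit : ∀ i : ℕ, (ρ g ^ i) ((f0 : U →ₗ[K] W) u) = (f0 : U →ₗ[K] W) u := fun i => by
        induction i with
        | zero => simp
        | succ i ih => rw [pow_succ', Module.End.mul_apply, ih, hfixw]
      have h1 := LinearMap.congr_fun hsumW ((f0 : U →ₗ[K] W) u)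
      rw [LinearMap.sum_apply, Finset.sum_congr rfl fun i _ => hit i, Finset.sum_const, Finset.card_range,
        ← Nat.cast_smul_eq_nsmul K, LinearMap.zero_apply, smul_eq_zero] at h1
      refine hu0 ?_
      exact intertwiner_injective hQsimple _ hf0' (fun a => ρ ((a : G0) : G)) hf0i
        ((h1.resolve_left hPK).trans (map_zero _).symm)
    -- hence its differences are central
    have hdC : ∀ d ∈ C, z * d * z⁻¹ * d⁻¹ ∈ S → ∀ b ∈ C, z * b * z⁻¹ * b⁻¹ ∈ S →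
        z * (d * b) * z⁻¹ * (d * b)⁻¹ ∈ S := by
      intro d hd hdS b hb hbS
      rw [show z * (d * b) * z⁻¹ * (d * b)⁻¹ = (z * d * z⁻¹) * (z * b * z⁻¹ * b⁻¹) *
        (z * d * z⁻¹)⁻¹ * (z * d * z⁻¹ * d⁻¹) by group]
      exact mul_mem (hconjS _ (hCn _ (hnC hzC d hd)) _ hbS).1 hdS
    have hC0R : ∀ d ∈ C, z * d * z⁻¹ * d⁻¹ ∈ S → g * d * g⁻¹ * d⁻¹ ∈ R := by
      intro d hd hdS
      obtain ⟨e, he⟩ : ∃ e : G → G, ∀ c, e c = c⁻¹ * (g * c * g⁻¹) := ⟨_, fun _ => rfl⟩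
      have heU : ∀ c ∈ C, z * c * z⁻¹ * c⁻¹ ∈ S → ∀ u : U, ρ (e c) (u : W) = u := by
        intro c hc hcS' u
        rw [he, map_mul, Module.End.mul_apply, hfixU c hc hcS', rep_inv_apply]
      have heC : e d ∈ C := he d ▸ mul_mem (inv_mem hd) (hnC hgC d hd)
      have hgd : z * (g * d * g⁻¹) * z⁻¹ * (g * d * g⁻¹)⁻¹ ∈ S := by
        have hzg : z * g = g * z := by rw [hz]; exact (Commute.self_pow g _).symm.eq
        rw [show z * (g * d * g⁻¹) * z⁻¹ * (g * d * g⁻¹)⁻¹ =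
          (z * g) * d * (z * g)⁻¹ * (g * d * g⁻¹)⁻¹ by group, hzg,
          show g * z * d * (g * z)⁻¹ * (g * d * g⁻¹)⁻¹ = g * (z * d * z⁻¹ * d⁻¹) * g⁻¹ by group]
        exact hgS _ hdS
      have hdinv : z * d⁻¹ * z⁻¹ * d⁻¹⁻¹ ∈ S := by
        rw [show z * d⁻¹ * z⁻¹ * d⁻¹⁻¹ = (z * d * z⁻¹)⁻¹ * (z * d * z⁻¹ * d⁻¹)⁻¹ * (z * d * z⁻¹)⁻¹⁻¹ by
          group]
        exact (hconjS _ (inv_mem (hCn _ (hnC hzC d hd))) _ (inv_mem hdS)).1
      have heS : z * e d * z⁻¹ * (e d)⁻¹ ∈ S :=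
        he d ▸ hdC _ (inv_mem hd) hdinv _ (hnC hgC d hd) hgd
      have hkey : ∀ b ∈ C, z * b * z⁻¹ * b⁻¹ ∈ S → ρ ⁅e d, b⁆ = 1 := by
        intro b hb hbS
        obtain ⟨c, hc⟩ := hcomm _ heC b hb
        obtain ⟨u, hu⟩ := exists_ne (0 : U)
        have h1 := heU _ (mul_mem hd hb) (hdC d hd hdS b hb hbS) u
        rw [he, show (d * b)⁻¹ * (g * (d * b) * g⁻¹) = b⁻¹ * e d * b * e b by rw [he, he]; group,
          map_mul, Module.End.mul_apply, heU b hb hbS] at h1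
        have h2 : ρ (e d) (ρ b u) = ρ b u := by
          have h3 := congrArg (ρ b) h1
          rw [map_mul, map_mul, Module.End.mul_apply, Module.End.mul_apply, rep_apply_inv] at h3
          exact h3
        have h4 : ρ ⁅e d, b⁆ (ρ b (ρ (e d) (u : W))) = ρ (e d) (ρ b u) := by
          rw [← Module.End.mul_apply, ← Module.End.mul_apply, ← Module.End.mul_apply, ← map_mul,
            ← map_mul, ← map_mul, commutatorElement_def]
          congr 2
          group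
        rw [hc, heU d hd hdS, h2, LinearMap.smul_apply, Module.End.one_apply] at h4
        have hbu : ρ b (u : W) ≠ 0 := fun h0 =>
          hu (Subtype.ext (rep_injective ρ b (h0.trans (map_zero _).symm)))
        rw [hc, smul_left_injective K hbu (h4.trans (one_smul K _).symm), one_smul]
      have heR : e d ∈ R := by
        refine (hR _).2 ⟨heC, fun b hb => ?_⟩
        -- write the square of `b` as a product of a fixed and an inverted element
        have hb0 : z * (b * (z * b * z⁻¹)) * z⁻¹ * (b * (z * b * z⁻¹))⁻¹ ∈ S := by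
          rw [show z * (b * (z * b * z⁻¹)) * z⁻¹ * (b * (z * b * z⁻¹))⁻¹ =
            (z * b * z⁻¹) * ((z * z) * b * (z * z)⁻¹) * (z * b * z⁻¹)⁻¹ * b⁻¹ by group, hz2]
          rw [inv_one, one_mul, mul_one]
          exact hcS _ (hnC hzC b hb) _ hb
        have h1 := hkey _ (mul_mem hb (hnC hzC b hb)) hb0
        have hq' : (z * b * z⁻¹)⁻¹ * b ∈ Q := by
          have h5 := hdiff b⁻¹ (inv_mem hb)
          rwa [inv_inv, show z * b⁻¹ * z⁻¹ = (z * b * z⁻¹)⁻¹ by group] at h5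
        have h2 := hC0 _ heC heS _ hq'
        obtain ⟨c, hc⟩ := hcomm _ heC b hb
        have hbb : ρ ⁅e d, b * b⁆ = 1 := by
          rw [show b * b = (b * (z * b * z⁻¹)) * ((z * b * z⁻¹)⁻¹ * b) by group,
            show ⁅e d, (b * (z * b * z⁻¹)) * ((z * b * z⁻¹)⁻¹ * b)⁆ = ⁅e d, b * (z * b * z⁻¹)⁆ *
              ((b * (z * b * z⁻¹)) * ⁅e d, (z * b * z⁻¹)⁻¹ * b⁆ * (b * (z * b * z⁻¹))⁻¹) by
              simp only [commutatorElement_def]; group, map_mul, h1, one_mul, map_mul, map_mul, h2,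
            mul_one, ← map_mul, mul_inv_cancel, map_one]
        rw [show ⁅e d, b * b⁆ = ⁅e d, b⁆ * (b * ⁅e d, b⁆ * b⁻¹) by
          simp only [commutatorElement_def]; group, map_mul,
          (hconjS b (hCn b hb) _ (hcS _ heC _ hb)).2, hc, smul_mul_assoc, one_mul, smul_smul] at hbb
        rw [hc, hcinv _ (hcS _ heC _ hb) hc (smul_one_injective (W := W) (hbb.trans (one_smul K _).symm)), one_smul]
      have hcon : d * e d * d⁻¹ ∈ R := by
        have h5 := ((hR _).1 heR).2 d hd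
        refine (hR _).2 ⟨mul_mem (mul_mem hd heC) (inv_mem hd), fun b hb => ?_⟩
        have hb' : d⁻¹ * b * d ∈ C := mul_mem (mul_mem (inv_mem hd) hb) hd
        rw [show ⁅d * e d * d⁻¹, b⁆ = d * ⁅e d, d⁻¹ * b * d⁆ * d⁻¹ by
          simp only [commutatorElement_def]; group, map_mul, map_mul, ((hR _).1 heR).2 _ hb', mul_one,
          ← map_mul, mul_inv_cancel, map_one]
      rw [he] at hcon
      simpa [mul_assoc] using hcon
    intro c hc
    have hRn : ∀ b ∈ C, ∀ r ∈ Q ⊔ R, b * r * b⁻¹ ∈ Q ⊔ R := by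
      intro b hb r hr
      have hrC : r ∈ C := sup_le hQC hRC hr
      have h1 : b * r * b⁻¹ = ⁅b, r⁆ * r := by rw [commutatorElement_def]; group
      rw [h1]
      exact mul_mem (Subgroup.mem_sup_right (hSR (hcS b hb r hrC))) hr
    have hmul : ∀ a ∈ C, ∀ b ∈ C, g * a * g⁻¹ * a⁻¹ ∈ Q ⊔ R → g * b * g⁻¹ * b⁻¹ ∈ Q ⊔ R →
        g * (a * b) * g⁻¹ * (a * b)⁻¹ ∈ Q ⊔ R := by
      intro a ha b hb h1 h2
      rw [show g * (a * b) * g⁻¹ * (a * b)⁻¹ =
        (g * a * g⁻¹) * (g * b * g⁻¹ * b⁻¹) * (g * a * g⁻¹)⁻¹ * (g * a * g⁻¹ * a⁻¹) by group]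
      exact mul_mem (hRn _ (hnC hgC a ha) _ h2) h1
    have hsquare : ∀ b ∈ C, g * (b * b) * g⁻¹ * (b * b)⁻¹ ∈ Q ⊔ R := by
      intro b hb
      have hq' : (z * b * z⁻¹)⁻¹ * b ∈ Q := by
        have h5 := hdiff b⁻¹ (inv_mem hb)
        rwa [inv_inv, show z * b⁻¹ * z⁻¹ = (z * b * z⁻¹)⁻¹ by group] at h5
      rw [show b * b = (b * (z * b * z⁻¹)) * ((z * b * z⁻¹)⁻¹ * b) by group]
      refine hmul _ (mul_mem hb (hnC hzC b hb)) _ (hQC hq') (Subgroup.mem_sup_right ?_)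
        (Subgroup.mem_sup_left (mul_mem ((Subgroup.mem_normalizer_iff.1 hgQ _).1 hq') (inv_mem hq')))
      refine hC0R _ (mul_mem hb (hnC hzC b hb)) ?_
      rw [show z * (b * (z * b * z⁻¹)) * z⁻¹ * (b * (z * b * z⁻¹))⁻¹ =
        (z * b * z⁻¹) * ((z * z) * b * (z * z)⁻¹) * (z * b * z⁻¹)⁻¹ * b⁻¹ by group, hz2]
      rw [inv_one, one_mul, mul_one]
      exact hcS _ (hnC hzC b hb) _ hb
    obtain ⟨j, hj⟩ := hC ⟨c, hc⟩
    have hco : Odd (q ^ j) := hodd.pow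
    obtain ⟨k, hk⟩ := hco
    have h1 : c = c ^ (k + 1) * c ^ (k + 1) := by
      rw [← pow_add, show k + 1 + (k + 1) = 2 * k + 1 + 1 by ring, ← hk, pow_succ,
        show c ^ q ^ j = 1 from congrArg Subtype.val hj, one_mul]
    rw [h1]
    exact hsquare _ (pow_mem hc _)

end Cfsg.Agent.Solv.Gross
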