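import Cfsg.Agent.Lib.Solv.HallHigman
import Cfsg.Agent.Lib.Solv.ConjRep
import Cfsg.Agent.Lib.Solv.PGroupPhi
import Cfsg.Agent.Lib.Solv.Subnormal
import Cfsg.Agent.Lib.Lead.FpfFour
import Cfsg.Agent.Lib.Fusion.Cores

/-!
The representation of the automorphism group on the Frattini quotient of a core, and a criterion for
membership in the Fitting subgroup.
-/

set_option autoImplicit false
set_option linter.style.haveILetI false

namespace Cfsg.Agent.Solv.Gross

open Cfsg
open scoped commutatorElement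

universe u v

variable {G : Type u} [Group G] [Finite G]

/-- An element which is a `q`-element modulo the Fitting subgroup, in the `q`-core there, and
centralizes the other cores, lies in the Fitting subgroup. -/
theorem mem_fitting_of_centralizes (q : ℕ) [Fact q.Prime] [(fittingSubgroup G).Normal] (g : G)
    (hg : (g : G ⧸ fittingSubgroup G) ∈ pCore q (G ⧸ fittingSubgroup G))
    (h : ∀ r : Nat.Primes, (r : ℕ) ≠ q → g ∈ Subgroup.centralizer (pCore (r : ℕ) G : Set G)) :
    g ∈ fittingSubgroup G := by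
  classical
  obtain ⟨F, hF⟩ : ∃ F, F = fittingSubgroup G := ⟨_, rfl⟩
  obtain ⟨L, hL⟩ : ∃ L, L = (pCore q (G ⧸ fittingSubgroup G)).comap (QuotientGroup.mk' _) := ⟨_, rfl⟩
  haveI : L.Normal := hL ▸ Subgroup.Normal.comap (pCore_normal q) _
  have hLq : ∀ l ∈ L, ∃ i : ℕ, l ^ q ^ i ∈ F := fun l hl => by
    rw [hL] at hl
    obtain ⟨i, hi⟩ := pCore_isPGroup (G := G ⧸ fittingSubgroup G) q ⟨_, hl⟩
    exact ⟨i, hF ▸ (QuotientGroup.eq_one_iff _).1 (congrArg Subtype.val hi)⟩
  obtain ⟨F', hF'⟩ : ∃ F', F' = ⨆ r : {r : Nat.Primes // (r : ℕ) ≠ q}, pCore (r.1 : ℕ) G := ⟨_, rfl⟩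
  haveI hF'n : F'.Normal := by
    haveI : ∀ r : {r : Nat.Primes // (r : ℕ) ≠ q}, (pCore (r.1 : ℕ) G).Normal := fun r => pCore_normal _
    rw [hF']
    exact Subgroup.iSup_normal (fun r : {r : Nat.Primes // (r : ℕ) ≠ q} => pCore (r.1 : ℕ) G)
  have hgC : g ∈ Subgroup.centralizer (F' : Set G) := by
    rw [Subgroup.mem_centralizer_iff]
    intro z hz
    have hle : F' ≤ Subgroup.centralizer {g} := by
      rw [hF']
      exact iSup_le fun r x hx => Subgroup.mem_centralizer_singleton_iff.2
        (Subgroup.mem_centralizer_iff.1 (h r.1 r.2) x hx)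
    exact Subgroup.mem_centralizer_singleton_iff.1 (hle hz)
  have hFle : F ≤ pCore q G ⊔ F' := by
    rw [hF, fitting_eq_iSup_pCore, hF']
    refine iSup_le fun r => ?_
    by_cases hr : (r : ℕ) = q
    · rw [hr]; exact le_sup_left
    · exact le_sup_of_le_right
        (le_iSup (fun r : {r : Nat.Primes // (r : ℕ) ≠ q} => pCore (r.1 : ℕ) G) ⟨r, hr⟩)
  obtain ⟨M, hM⟩ : ∃ M, M = L ⊓ Subgroup.centralizer (F' : Set G) := ⟨_, rfl⟩
  haveI : M.Normal := by rw [hM]; infer_instance
  refine normal_le_fitting (N := M) ?_ (hM ▸ Subgroup.mem_inf.2 ⟨hL ▸ hg, hgC⟩)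
  let fM := ((QuotientGroup.mk' F').comp M.subtype).rangeRestrict
  have hker : fM.ker ≤ Subgroup.center M := fun z hz => by
    rw [MonoidHom.ker_rangeRestrict, MonoidHom.mem_ker] at hz
    refine Subgroup.mem_center_iff.2 fun m => Subtype.ext ?_
    have hm : (m : G) ∈ Subgroup.centralizer (F' : Set G) :=
      (hM ▸ m.2 : (m : G) ∈ L ⊓ Subgroup.centralizer (F' : Set G)).2
    exact (Subgroup.mem_centralizer_iff.1 hm (z : G) ((QuotientGroup.eq_one_iff _).1 hz)).symm
  have hq' : IsPGroup q ((QuotientGroup.mk' F').comp M.subtype).range := by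
    rintro ⟨_, m, rfl⟩
    obtain ⟨i, hi⟩ := hLq (m : G) (hM ▸ m.2 : (m : G) ∈ L ⊓ Subgroup.centralizer (F' : Set G)).1
    haveI := pCore_normal (G := G) q
    obtain ⟨s, hs, f, hf, hsf⟩ := Subgroup.mem_sup_of_normal_left.1 (hFle hi)
    obtain ⟨j, hj⟩ := pCore_isPGroup (G := G) q ⟨s, hs⟩
    refine ⟨i + j, Subtype.ext ?_⟩
    show (QuotientGroup.mk' F' (m : G)) ^ q ^ (i + j) = 1
    rw [pow_add, pow_mul, ← map_pow, ← hsf, map_mul,
      show QuotientGroup.mk' F' f = 1 from (QuotientGroup.eq_one_iff f).2 hf, mul_one, ← map_pow,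
      show s ^ q ^ j = 1 from congrArg Subtype.val hj, map_one]
  haveI := hq'.isNilpotent
  exact Subgroup.isNilpotent_of_ker_le_center fM hker

/-- The representation on the Frattini quotient of the `r`-core. -/
theorem exists_sectionRep (r : ℕ) [Fact r.Prime] (K : Type v) [Field K] [CharP K r] :
    ∃ (k : ℕ) (ρ : MulAut G →* Module.End K (Fin k → K)),
      (∀ f ∈ fittingSubgroup G, ρ (MulAut.conj f) = 1) ∧
      (∀ g : G, ρ (MulAut.conj g) = 1 → (orderOf g).Coprime r →
        g ∈ Subgroup.centralizer (pCore r G : Set G)) ∧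
      ∀ (σ : MulAut G) (N : ℕ), σ ^ N = 1 → (∀ g, σ g = g → g = 1) →
        ∑ j ∈ Finset.range N, ρ σ ^ j = 0 := by
  classical
  obtain ⟨P, hP⟩ : ∃ P, P = pCore r G := ⟨_, rfl⟩
  haveI hPn : P.Normal := hP ▸ pCore_normal (G := G) r
  have hPp : IsPGroup r P := hP ▸ pCore_isPGroup r
  have hinv : ∀ (a : MulAut G), ∀ x ∈ P, a x ∈ P := fun a x hx => by
    rw [hP] at hx ⊢
    rw [← Cfsg.Agent.Fusion.map_pCore_equiv (p := r) a]
    exact ⟨x, hx, rfl⟩
  have hinv2 : ∀ (a : MulAut P), ∀ x ∈ frattini P, a x ∈ frattini P :=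
    fun a => Lead.FpfFour.invariant_of_characteristic a _
  haveI : (frattini P).Normal := inferInstance
  obtain ⟨φ, hφ⟩ : ∃ φ : MulAut G →* MulAut (P ⧸ frattini P), ∀ (a : MulAut G) (x : P),
      φ a (x : P ⧸ frattini P) = ((⟨a x, hinv a x x.2⟩ : P) : P ⧸ frattini P) :=
    ⟨MonoidHom.mk' (fun a => Lead.FpfFour.quot (Lead.FpfFour.restrict a P (hinv a)) (frattini P) (hinv2 _))
      (fun a b => MulEquiv.ext fun w => by
        induction w using QuotientGroup.induction_on with
        | H x => rfl), fun a x => rfl⟩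
  letI : CommGroup (P ⧸ frattini P) :=
    { (inferInstance : Group (P ⧸ frattini P)) with
      mul_comm := Solv.quotient_mul_comm _ fun a b => commutatorElement_mem_frattini hPp a b }
  obtain ⟨α, hα⟩ : ∃ α : MulAut (P ⧸ frattini P) →* AddMonoid.End (Additive (P ⧸ frattini P)),
      ∀ (a : MulAut (P ⧸ frattini P)) (w : Additive (P ⧸ frattini P)),
        Additive.toMul (α a w) = a (Additive.toMul w) :=
    ⟨{ toFun := fun a => MonoidHom.toAdditive a.toMonoidHom
       map_one' := rfl
       map_mul' := fun a b => rfl }, fun a w => rfl⟩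
  obtain ⟨k, Θ, hΘ, -⟩ := CRep.exists_baseChange (M := Additive (P ⧸ frattini P)) (p := r) (fun w => by
    apply Additive.toMul.injective
    rw [toMul_nsmul, toMul_zero]
    generalize Additive.toMul w = x
    induction x using QuotientGroup.induction_on with
    | H x =>
      rw [← QuotientGroup.mk_pow, QuotientGroup.eq_one_iff]
      exact pow_mem_frattini hPp x) K
  refine ⟨k, Θ.toMonoidHom.comp (α.comp φ), fun f hf => ?_, fun g hg hco => ?_, fun σ N hσ hfpf => ?_⟩
  · show Θ (α (φ (MulAut.conj f))) = 1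
    have hker : fittingSubgroup G ≤ (φ.comp MulAut.conj).ker := by
      rw [fitting_eq_iSup_pCore]
      refine iSup_le fun t f hf => MulEquiv.ext fun w => ?_
      induction w using QuotientGroup.induction_on with
      | H x =>
        show φ (MulAut.conj f) _ = _
        rw [hφ, MulAut.one_apply, QuotientGroup.eq]
        by_cases ht : (t : ℕ) = r
        · have hfP : f ∈ P := by rw [hP, ← ht]; exact hf
          have h1 : (⟨MulAut.conj f x, hinv _ x x.2⟩ : P)⁻¹ * x = ⁅(⟨f, hfP⟩ : P), x⁻¹⁆ := Subtype.ext (by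
            refine Eq.trans ?_ (map_commutatorElement P.subtype (⟨f, hfP⟩ : P) x⁻¹).symm
            show (f * (x : G) * f⁻¹)⁻¹ * (x : G) = ⁅f, (x : G)⁻¹⁆
            rw [commutatorElement_def]
            group)
          rw [h1]
          exact commutatorElement_mem_frattini hPp _ _
        · haveI := Fact.mk t.2
          haveI := pCore_normal (G := G) (t : ℕ)
          have hdis : Disjoint (pCore (t : ℕ) G) P := IsPGroup.disjoint_of_ne t r ht _ _ (pCore_isPGroup _) hPp
          have hcomm : Commute f (x : G) := Subgroup.commute_of_normal_of_disjoint _ _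
            (inferInstance) hPn hdis f x hf x.2
          rw [show (⟨MulAut.conj f x, hinv _ x x.2⟩ : P) = x from Subtype.ext (by
            show f * x * f⁻¹ = x
            rw [hcomm.eq, mul_inv_cancel_right]), inv_mul_cancel]
          exact one_mem _
    rw [show φ (MulAut.conj f) = 1 from hker hf, map_one, map_one]
  · have hg' : φ (MulAut.conj g) = 1 := by
      have h1 : α (φ (MulAut.conj g)) = 1 := hΘ (hg.trans (map_one Θ).symm)
      exact MulEquiv.ext fun w => (hα _ (Additive.ofMul w)).symm.trans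
        (congrArg Additive.toMul (DFunLike.congr_fun h1 (Additive.ofMul w)))
    rw [← hP]
    refine centralizes_of_frattini P hPp g (by rw [Subgroup.normalizer_eq_top]; exact Subgroup.mem_top g)
      hco fun x hx => ?_
    have h1 := hφ (MulAut.conj g) ⟨x, hx⟩
    rw [hg', MulAut.one_apply, QuotientGroup.eq] at h1
    have h2 := (inferInstance : (frattini P).Normal).conj_mem _ h1 ⟨x, hx⟩
    rw [← mul_assoc, mul_inv_cancel, one_mul] at h2
    refine ⟨_, inv_mem h2, ?_⟩
    simp [commutatorElement_def, mul_assoc]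
  · have hpow : ∀ j : ℕ, ((Θ.toMonoidHom.comp (α.comp φ)) σ) ^ j = Θ (α (φ σ) ^ j) := fun j => by
      rw [map_pow]; rfl
    rw [Finset.sum_congr rfl fun j _ => hpow j, ← map_sum]
    refine (congrArg Θ (DFunLike.ext _ _ fun w => ?_)).trans (map_zero Θ)
    obtain ⟨S, hS⟩ : ∃ S : AddMonoid.End (Additive (P ⧸ frattini P)),
        S = ∑ j ∈ Finset.range N, α (φ σ) ^ j := ⟨_, rfl⟩
    rw [← hS]
    have hTS : α (φ σ) * S = S := by
      have e1 := Finset.sum_range_succ' (fun i => α (φ σ) ^ i) N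
      have e2 := Finset.sum_range_succ (fun i => α (φ σ) ^ i) N
      rw [e1, pow_zero, ← map_pow, ← map_pow, hσ, map_one, map_one] at e2
      rw [hS, Finset.mul_sum]
      refine Eq.trans (Finset.sum_congr rfl fun i _ => ?_) (add_right_cancel e2)
      rw [← pow_succ']
    have hφσ : φ σ = Lead.FpfFour.quot (Lead.FpfFour.restrict σ P (hinv σ)) (frattini P) (hinv2 _) :=
      MulEquiv.ext fun w => by
        induction w using QuotientGroup.induction_on with
        | H x => exact hφ σ x
    have hfpf' : Lead.FpfFour.Fpf (φ σ) := hφσ.symm ▸ Lead.FpfFour.quot_fpf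
      (Lead.FpfFour.restrict_fpf (fun g hg => hfpf g hg) P (hinv σ)) (frattini P) (hinv2 _)
    have h1 := congrArg Additive.toMul (DFunLike.congr_fun hTS w)
    have h2 : φ σ (Additive.toMul (S w)) = Additive.toMul (S w) := (hα _ _).symm.trans h1
    exact Additive.toMul.injective ((hfpf' _ h2).trans toMul_zero.symm)

end Cfsg.Agent.Solv.Gross
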