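import Cfsg.Agent.Lib.Solv.Gross.SumComponent
import Cfsg.Agent.Lib.Solv.Gross.SectionRep
import Cfsg.Agent.Lib.Solv.ShultGross
import Cfsg.Agent.Lib.Solv.PLengthExponent
import Cfsg.Agent.Lib.Fusion.Critical
import Cfsg.Agent.Lib.Lead.FpfFour

/-!
Gross: a solvable group with a fixed-point-free automorphism of order dividing `2 ^ n`, `n > 1`, has
Fitting height at most `2n - 2`.
-/

set_option autoImplicit false
set_option linter.style.haveILetI false

namespace Cfsg.Agent.Solv.Gross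

open Cfsg
open scoped commutatorElement

universe u

variable {G : Type u} [Group G] [Finite G]

theorem pow_aut_invariant {A : Type u} [Group A] (σ : MulAut A) (L : Subgroup A) (h : ∀ l ∈ L, σ l ∈ L)
    (i : ℕ) : ∀ l ∈ L, (σ ^ i) l ∈ L := by
  induction i with
  | zero => exact fun l hl => hl
  | succ i ih => intro l hl; rw [pow_succ', MulAut.mul_apply]; exact h _ (ih l hl)

/-- Half the order of the automorphism centralizes `(G / F) / F(G / F)`. -/
theorem inv_mul_mem_two_fitting [(fittingSubgroup G).Normal] (hG : Group.IsSolvable G) {n : ℕ}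
    (hn : 1 ≤ n) (σ : MulAut G) (hσ : σ ^ 2 ^ n = 1) (hfpf : ∀ g, σ g = g → g = 1)
    (σb : MulAut (G ⧸ fittingSubgroup G))
    (hσb : ∀ g : G, σb (g : G ⧸ fittingSubgroup G) = ((σ g : G) : G ⧸ fittingSubgroup G))
    (hσbP : σb ^ 2 ^ n = 1) (hσbf : ∀ x, σb x = x → x = 1) (x : G ⧸ fittingSubgroup G) :
    x⁻¹ * (σb ^ 2 ^ (n - 1)) x ∈ fittingSubgroup (G ⧸ fittingSubgroup G) := by
  classical
  haveI : Fact (Nat.Prime 2) := ⟨Nat.prime_two⟩
  obtain ⟨τ, hτ⟩ : ∃ τ, τ = σb ^ 2 ^ (n - 1) := ⟨_, rfl⟩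
  rw [← hτ]
  have hcard := FPFOp.not_dvd_card σ hσ hfpf
  have hcardH : ¬ 2 ∣ Nat.card (G ⧸ fittingSubgroup G) := fun h =>
    hcard (h.trans (Subgroup.card_quotient_dvd_card _))
  have hsolH : Group.IsSolvable (G ⧸ fittingSubgroup G) :=
    haveI := hG
    Group.isSolvable_of_surjective (QuotientGroup.mk'_surjective _)
  haveI := fittingSubgroup_normal (G := G ⧸ fittingSubgroup G)
  -- the big group
  obtain ⟨NF, hNF⟩ : ∃ NF, NF = (fittingSubgroup G).map (MulAut.conj : G →* MulAut G) := ⟨_, rfl⟩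
  haveI : NF.Normal := ⟨fun m hm a => by
    rw [hNF] at hm ⊢
    obtain ⟨f, hf, rfl⟩ := hm
    refine ⟨a f, ?_, MulEquiv.ext fun w => ?_⟩
    · rw [← Subgroup.characteristic_iff_map_eq.1 fitting_characteristic a]
      exact ⟨f, hf, rfl⟩
    · simp [MulAut.conj_apply]⟩
  obtain ⟨ι, hι⟩ : ∃ ι : G ⧸ fittingSubgroup G →* MulAut G ⧸ NF,
      ∀ g : G, ι (g : G ⧸ fittingSubgroup G) = QuotientGroup.mk' NF (MulAut.conj g) :=
    ⟨QuotientGroup.lift _ ((QuotientGroup.mk' NF).comp MulAut.conj) (fun f hf => by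
      rw [MonoidHom.mem_ker, MonoidHom.comp_apply]
      exact (QuotientGroup.eq_one_iff _).2 (hNF ▸ Subgroup.mem_map_of_mem _ hf)), fun g => rfl⟩
  have hιinj : Function.Injective ι := by
    refine (injective_iff_map_eq_one _).2 fun h hh => ?_
    obtain ⟨g, rfl⟩ := QuotientGroup.mk_surjective h
    rw [hι, QuotientGroup.mk'_apply, QuotientGroup.eq_one_iff, hNF] at hh
    obtain ⟨f, hf, hfg⟩ := hh
    rw [QuotientGroup.eq_one_iff]
    have hz : f⁻¹ * g ∈ Subgroup.center G := by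
      rw [Subgroup.mem_center_iff]
      intro w
      have h1 := DFunLike.congr_fun hfg w
      simp only [MulAut.conj_apply] at h1
      calc w * (f⁻¹ * g) = f⁻¹ * (f * w * f⁻¹) * g := by group
        _ = f⁻¹ * (g * w * g⁻¹) * g := by rw [h1]
        _ = f⁻¹ * g * w := by group
    have hzF : Subgroup.center G ≤ fittingSubgroup G := normal_le_fitting (@CommGroup.isNilpotent _ { (inferInstance : Group (Subgroup.center G)) with mul_comm := fun a b => Subtype.ext (Subgroup.mem_center_iff.1 b.2 (a : G)) })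
    have h2 := mul_mem hf (hzF hz)
    rwa [mul_inv_cancel_left] at h2
  have hconj : ∀ (a : MulAut G) (g : G),
      QuotientGroup.mk' NF a * ι (g : G ⧸ fittingSubgroup G) * (QuotientGroup.mk' NF a)⁻¹ =
        ι ((a g : G) : G ⧸ fittingSubgroup G) := by
    intro a g
    rw [hι, hι, ← map_inv, ← map_mul, ← map_mul]
    congr 1
    exact MulEquiv.ext fun w => by simp [MulAut.conj_apply]
  obtain ⟨y, hy⟩ : ∃ y, y = QuotientGroup.mk' NF σ := ⟨_, rfl⟩
  have hyn : y ^ 2 ^ n = 1 := by rw [hy, ← map_pow, hσ, map_one]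
  have hyι : ∀ (i : ℕ) (h : G ⧸ fittingSubgroup G), y ^ i * ι h * (y ^ i)⁻¹ = ι ((σb ^ i) h) := by
    intro i
    induction i with
    | zero => intro h; simp
    | succ i ih =>
      intro h
      calc y ^ (i + 1) * ι h * (y ^ (i + 1))⁻¹ = y * (y ^ i * ι h * (y ^ i)⁻¹) * y⁻¹ := by
            rw [pow_succ']; group
        _ = _ := by
            rw [ih, pow_succ', MulAut.mul_apply]
            obtain ⟨g, hg⟩ := QuotientGroup.mk_surjective ((σb ^ i) h)
            rw [← hg, hy, hconj, hσb]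
  obtain ⟨z, hz⟩ : ∃ z, z = y ^ 2 ^ (n - 1) := ⟨_, rfl⟩
  have hzι : ∀ h, z * ι h * z⁻¹ = ι (τ h) := fun h => by rw [hz, hτ, hyι]
  -- the representations
  haveI hFacts : ∀ r : Nat.Primes, Fact (r : ℕ).Prime := fun r => ⟨r.2⟩
  haveI hcharr : ∀ r : Nat.Primes, CharP (AlgebraicClosure (ZMod (r : ℕ))) (r : ℕ) := fun r => by
    haveI := Fact.mk r.2
    exact charP_of_injective_algebraMap (algebraMap (ZMod (r : ℕ)) _).injective _
  have hrep : ∀ r : Nat.Primes, haveI := Fact.mk r.2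
      ∃ (k : ℕ) (ρ : MulAut G ⧸ NF →* Module.End (AlgebraicClosure (ZMod (r : ℕ)))
          (Fin k → AlgebraicClosure (ZMod (r : ℕ)))),
        (∀ g : G, ρ (ι (g : G ⧸ fittingSubgroup G)) = 1 → (orderOf g).Coprime r →
          g ∈ Subgroup.centralizer (pCore (r : ℕ) G : Set G)) ∧
        ∑ j ∈ Finset.range (2 ^ n), ρ y ^ j = 0 := by
    intro r
    haveI := Fact.mk r.2
    obtain ⟨k, ρ, h1, h2, h3⟩ := exists_sectionRep (G := G) (r : ℕ) (AlgebraicClosure (ZMod (r : ℕ)))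
    refine ⟨k, QuotientGroup.lift NF ρ (fun m hm => ?_), fun g hg hco => h2 g ?_ hco, ?_⟩
    · rw [hNF] at hm
      obtain ⟨f, hf, rfl⟩ := hm
      exact MonoidHom.mem_ker.2 (h1 f hf)
    · rw [hι] at hg
      exact hg
    · rw [hy]
      exact h3 σ _ hσ hfpf
  choose kr ρ hρker hρsum using hrep
  have hG2 : ∀ r : Nat.Primes, (r : ℕ) = 2 → pCore (r : ℕ) G = ⊥ := fun r hr => by
    haveI := Fact.mk r.2
    obtain ⟨i, hi⟩ := (pCore_isPGroup (G := G) (r : ℕ)).exists_card_eq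
    rcases Nat.eq_zero_or_pos i with rfl | h
    · exact Subgroup.card_eq_one.1 (by rw [hi, pow_zero])
    · exact absurd ((hr ▸ dvd_pow_self _ h.ne' : 2 ∣ (r : ℕ) ^ i).trans
        (hi ▸ Subgroup.card_subgroup_dvd_card _)) hcard
  -- the cores inside the big group
  obtain ⟨P, hP⟩ : ∃ P : Nat.Primes → Subgroup (MulAut G ⧸ NF),
      ∀ q : Nat.Primes, P q = (pCore (q : ℕ) (G ⧸ fittingSubgroup G)).map ι := ⟨_, fun _ => rfl⟩
  have hPn : ∀ q : Nat.Primes, (P q).Normal := fun q => ⟨fun e he a => by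
    obtain ⟨a, rfl⟩ := QuotientGroup.mk'_surjective NF a
    rw [hP] at he ⊢
    obtain ⟨h, hh, rfl⟩ := he
    obtain ⟨g, rfl⟩ := QuotientGroup.mk_surjective h
    rw [hconj]
    refine Subgroup.mem_map_of_mem ι ?_
    have h1 : (fittingSubgroup G).map a.toMonoidHom = fittingSubgroup G :=
      Subgroup.characteristic_iff_map_eq.1 fitting_characteristic a
    rw [← Cfsg.Agent.Fusion.map_pCore_equiv (p := (q : ℕ)) (QuotientGroup.congr _ _ a h1)]
    exact ⟨_, hh, QuotientGroup.congr_mk _ _ a h1 g⟩⟩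
  have hPp : ∀ q : Nat.Primes, IsPGroup (q : ℕ) (P q) := fun q => by
    haveI := Fact.mk q.2
    rw [hP]
    exact (pCore_isPGroup _).map ι
  have hP2 : ∀ q : Nat.Primes, (q : ℕ) = 2 → P q = ⊥ := fun q hq => by
    haveI := Fact.mk q.2
    obtain ⟨i, hi⟩ := (pCore_isPGroup (G := G ⧸ fittingSubgroup G) (q : ℕ)).exists_card_eq
    rcases Nat.eq_zero_or_pos i with rfl | h
    · rw [hP, Subgroup.card_eq_one.1 (show Nat.card (pCore (q : ℕ) (G ⧸ fittingSubgroup G)) = 1 by
        rw [hi, pow_zero]), Subgroup.map_bot]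
    · exact absurd ((hq ▸ dvd_pow_self _ h.ne' : 2 ∣ (q : ℕ) ^ i).trans
        (hi ▸ Subgroup.card_subgroup_dvd_card _)) hcardH
  have hfaith : ∀ q : Nat.Primes, ∀ e ∈ P q,
      (∀ r : Nat.Primes, (r : ℕ) ≠ 2 → (r : ℕ) ≠ q → ρ r e = 1) → e = 1 := by
    intro q e he hall
    haveI := Fact.mk q.2
    rw [hP] at he
    obtain ⟨h, hh, rfl⟩ := he
    obtain ⟨i, hi⟩ := pCore_isPGroup (G := G ⧸ fittingSubgroup G) (q : ℕ) ⟨h, hh⟩
    obtain ⟨g, hg, j, hj⟩ := PLE.exists_lift (p := (q : ℕ)) (fittingSubgroup G) h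
      ⟨i, congrArg Subtype.val hi⟩
    rw [QuotientGroup.mk'_apply] at hg
    subst hg
    have hgF : g ∈ fittingSubgroup G := by
      refine mem_fitting_of_centralizes (q : ℕ) g hh fun r hr => ?_
      by_cases h2 : (r : ℕ) = 2
      · rw [hG2 r h2, Subgroup.mem_centralizer_iff]
        intro w hw
        rw [SetLike.mem_coe, Subgroup.mem_bot] at hw
        rw [hw, one_mul, mul_one]
      · exact hρker r g (hall r h2 hr)
          ((((Nat.coprime_primes q.2 r.2).2 (Ne.symm hr)).pow_left j).coprime_dvd_left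
            (orderOf_dvd_of_pow_eq_one hj))
    rw [(QuotientGroup.eq_one_iff g).2 hgF, map_one]
  -- critical subgroups
  have hcrit : ∀ q : Nat.Primes, ∃ C Zc : Subgroup (MulAut G ⧸ NF), C.Normal ∧ Zc.Normal ∧ C ≤ P q ∧
      (∀ a, a ∈ Zc ↔ a ∈ C ∧ ∀ b ∈ C, Commute a b) ∧ (∀ a ∈ C, ∀ b ∈ C, ⁅a, b⁆ ∈ Zc) ∧
      (∀ a ∈ C, a ^ (q : ℕ) ∈ Zc) ∧ ∀ a : MulAut G ⧸ NF, (orderOf a).Coprime q →
        (∀ c ∈ C, a * c * a⁻¹ = c) → ∀ w ∈ P q, a * w * a⁻¹ = w := by
    intro q
    haveI := Fact.mk q.2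
    haveI := hPn q
    obtain ⟨C0, hC0c, hC0p, hC0cl, hC0cen⟩ := Fusion.exists_critical (hPp q)
    haveI := hC0c
    obtain ⟨C, hC⟩ : ∃ C, C = C0.map (P q).subtype := ⟨_, rfl⟩
    haveI hCn : C.Normal := hC ▸ inferInstance
    obtain ⟨Zc, hZc⟩ : ∃ Zc, Zc = C ⊓ Subgroup.centralizer (C : Set (MulAut G ⧸ NF)) := ⟨_, rfl⟩
    have hmemZ : ∀ a, a ∈ Zc ↔ a ∈ C ∧ ∀ b ∈ C, Commute a b := by
      intro a
      rw [hZc, Subgroup.mem_inf, Subgroup.mem_centralizer_iff]
      exact and_congr_right fun _ => ⟨fun h b hb => (h b hb).symm, fun h b hb => (h b hb).symm⟩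
    have hz : ∀ a : P q, a ∈ Fusion.zOf C0 → (a : MulAut G ⧸ NF) ∈ Zc := by
      intro a ha
      refine (hmemZ _).2 ⟨hC ▸ Subgroup.mem_map_of_mem _ ha.1, ?_⟩
      rw [hC]
      rintro _ ⟨b, hb, rfl⟩
      exact congrArg Subtype.val (Subgroup.mem_centralizer_iff.1 ha.2 b hb).symm
    refine ⟨C, Zc, hCn, hZc ▸ inferInstance, hC ▸ Subgroup.map_subtype_le _, hmemZ, ?_, ?_, ?_⟩
    · rw [hC]
      rintro _ ⟨a, ha, rfl⟩ _ ⟨b, hb, rfl⟩
      rw [← map_commutatorElement]
      exact hz _ (hC0cl (Subgroup.commutator_mem_commutator ha (Subgroup.mem_top _)))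
    · rw [hC]
      rintro _ ⟨a, ha, rfl⟩
      rw [← map_pow]
      exact hz _ (hC0p a ha)
    · intro a hco hfix w hw
      obtain ⟨α, hα⟩ : ∃ α : MulAut (P q), ∀ b : P q, ((α b : P q) : MulAut G ⧸ NF) = a * b * a⁻¹ :=
        ⟨MulAut.conjNormal a, fun b => MulAut.conjNormal_apply a b⟩
      have hαo : (orderOf α).Coprime q := by
        refine hco.coprime_dvd_left (orderOf_dvd_of_pow_eq_one ?_)
        have hpw : ∀ (j : ℕ) (b : P q), (((α ^ j) b : P q) : MulAut G ⧸ NF) = a ^ j * b * (a ^ j)⁻¹ := by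
          intro j
          induction j with
          | zero => simp
          | succ j ih => intro b; rw [pow_succ', MulAut.mul_apply, hα, ih, pow_succ']; group
        refine MulEquiv.ext fun b => Subtype.ext ?_
        rw [hpw, pow_orderOf_eq_one, one_mul, inv_one, mul_one]; rfl
      have h1 := Fusion.aut_eq_one_of_fix (hPp q) hC0cen α hαo fun b hb => Subtype.ext
        ((hα b).trans (hfix _ (hC ▸ Subgroup.mem_map_of_mem _ hb)))
      have h2 := hα ⟨w, hw⟩
      rw [h1, MulAut.one_apply] at h2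
      exact h2.symm
  choose C Zc hCn hZn hCle hmemZ hcl hqpow hext using hcrit
  have hCp : ∀ q : Nat.Primes, IsPGroup (q : ℕ) (C q) := fun q => (hPp q).to_le (hCle q)
  have hord : ∀ q : Nat.Primes, ∀ r : Nat.Primes, (r : ℕ) ≠ q → ∀ e ∈ C q,
      ((orderOf e : ℕ) : AlgebraicClosure (ZMod (r : ℕ))) ≠ 0 := fun q r hr e he => by
    obtain ⟨i, hi⟩ := hCp q ⟨e, he⟩
    obtain ⟨j, -, hj⟩ := (Nat.dvd_prime_pow q.2).1 (orderOf_dvd_of_pow_eq_one (congrArg Subtype.val hi))
    rw [hj, Nat.cast_pow]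
    refine pow_ne_zero _ fun h => hr ?_
    rw [CharP.cast_eq_zero_iff (AlgebraicClosure (ZMod (r : ℕ))) (r : ℕ)] at h
    exact (Nat.prime_dvd_prime_iff_eq r.2 q.2).1 h
  -- half the order fixes the centres
  have hzfix : ∀ q : Nat.Primes, ∀ a ∈ Zc q, z * a * z⁻¹ = a := by
    intro q a ha
    haveI := hZn q
    have he : z * a * z⁻¹ * a⁻¹ ∈ Zc q := mul_mem ((hZn q).conj_mem a ha z) (inv_mem ha)
    refine mul_inv_eq_one.1 (hfaith q _ (hCle q ((hmemZ q _).1 he).1) fun r _ hrq => ?_)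
    rw [hz] at he ⊢
    exact half_central (ρ r) (Zc q)
      (fun u hu v hv => (((hmemZ q u).1 hu).2 v ((hmemZ q v).1 hv).1).map (ρ r)) y
      (by rw [Subgroup.normalizer_eq_top]; exact Subgroup.mem_top _) n hyn (hρsum r) a ha
      (hord q r hrq _ ((hmemZ q _).1 he).1)
  -- one prime at a time
  have hstep : ∀ s : Nat.Primes, ∀ w ∈ pCore (s : ℕ) ((G ⧸ fittingSubgroup G) ⧸
      fittingSubgroup (G ⧸ fittingSubgroup G)), ∀ h : G ⧸ fittingSubgroup G,
      (h : (G ⧸ fittingSubgroup G) ⧸ fittingSubgroup (G ⧸ fittingSubgroup G)) = w →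
      h⁻¹ * τ h ∈ fittingSubgroup (G ⧸ fittingSubgroup G) := by
    intro s
    haveI := Fact.mk s.2
    obtain ⟨FH, hFH⟩ : ∃ FH, FH = fittingSubgroup (G ⧸ fittingSubgroup G) := ⟨_, rfl⟩
    obtain ⟨L, hL⟩ : ∃ L, L = (pCore (s : ℕ) ((G ⧸ fittingSubgroup G) ⧸
        fittingSubgroup (G ⧸ fittingSubgroup G))).comap (QuotientGroup.mk' _) := ⟨_, rfl⟩
    intro w hw h hh
    have hhL : h ∈ L := by rw [hL, Subgroup.mem_comap, QuotientGroup.mk'_apply, hh]; exact hw
    have hFHσ : (fittingSubgroup (G ⧸ fittingSubgroup G)).map σb.toMonoidHom =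
        fittingSubgroup (G ⧸ fittingSubgroup G) :=
      Subgroup.characteristic_iff_map_eq.1 fitting_characteristic σb
    have hFinv : ∀ v ∈ fittingSubgroup (G ⧸ fittingSubgroup G),
        τ v ∈ fittingSubgroup (G ⧸ fittingSubgroup G) := hτ ▸ pow_aut_invariant σb _
          (fun v hv => hFHσ ▸ ⟨v, hv, rfl⟩) _
    have hQcard : ¬ 2 ∣ Nat.card ((G ⧸ fittingSubgroup G) ⧸ fittingSubgroup (G ⧸ fittingSubgroup G)) :=
      fun h => hcardH (h.trans (Subgroup.card_quotient_dvd_card _))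
    by_cases hs2 : (s : ℕ) = 2
    · obtain ⟨i, hi⟩ := (pCore_isPGroup (G := (G ⧸ fittingSubgroup G) ⧸
        fittingSubgroup (G ⧸ fittingSubgroup G)) (s : ℕ)).exists_card_eq
      rcases Nat.eq_zero_or_pos i with rfl | hi0
      · rw [Subgroup.card_eq_one.1 (show Nat.card (pCore (s : ℕ) ((G ⧸ fittingSubgroup G) ⧸
          fittingSubgroup (G ⧸ fittingSubgroup G))) = 1 by rw [hi, pow_zero]), Subgroup.mem_bot] at hw
        rw [hw] at hh
        have := (QuotientGroup.eq_one_iff h).1 hh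
        exact mul_mem (inv_mem this) (hFinv h this)
      · exact absurd ((hs2 ▸ dvd_pow_self _ hi0.ne' : 2 ∣ (s : ℕ) ^ i).trans
          (hi ▸ Subgroup.card_subgroup_dvd_card _)) hQcard
    have hFL : fittingSubgroup (G ⧸ fittingSubgroup G) ≤ L := fun f hf => by
      rw [hL, Subgroup.mem_comap, QuotientGroup.mk'_apply, (QuotientGroup.eq_one_iff f).2 hf]
      exact one_mem _
    have hLσ : ∀ l ∈ L, σb l ∈ L := fun l hl => by
      rw [hL] at hl ⊢
      show QuotientGroup.mk' _ (σb l) ∈ pCore (s : ℕ) _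
      rw [← Cfsg.Agent.Fusion.map_pCore_equiv (p := (s : ℕ)) (QuotientGroup.congr _ _ σb hFHσ)]
      exact ⟨_, hl, QuotientGroup.congr_mk _ _ σb hFHσ l⟩
    haveI : L.Normal := hL ▸ Subgroup.Normal.comap (pCore_normal (s : ℕ)) _
    obtain ⟨T, hT⟩ := FPFOp.exists_invariant_sylow σb hσbP hσbf (s : ℕ) L hLσ
    obtain ⟨U, hU⟩ : ∃ U, U = (T : Subgroup L).map L.subtype := ⟨_, rfl⟩
    rw [← hU] at hT
    have hUs : IsPGroup (s : ℕ) U := hU ▸ T.2.map _
    have hUL : U ≤ L := hU ▸ Subgroup.map_subtype_le _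
    have hUτ : ∀ u ∈ U, τ u ∈ U := hτ ▸ pow_aut_invariant σb U hT _
    obtain ⟨f, hf, u, hu, hfu⟩ : ∃ f ∈ fittingSubgroup (G ⧸ fittingSubgroup G), ∃ u ∈ U, f * u = h := by
      haveI : ((fittingSubgroup (G ⧸ fittingSubgroup G)).subgroupOf L).Normal :=
        Subgroup.Normal.subgroupOf inferInstance L
      have hq' : IsPGroup (s : ℕ) (L ⧸ (fittingSubgroup (G ⧸ fittingSubgroup G)).subgroupOf L) := fun v => by
        obtain ⟨l, rfl⟩ := QuotientGroup.mk_surjective v
        have hl : QuotientGroup.mk' _ (l : G ⧸ fittingSubgroup G) ∈ pCore (s : ℕ) _ :=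
          (hL.le l.2 :)
        obtain ⟨i, hi⟩ := pCore_isPGroup (G := (G ⧸ fittingSubgroup G) ⧸
          fittingSubgroup (G ⧸ fittingSubgroup G)) (s : ℕ) ⟨_, hl⟩
        refine ⟨i, ?_⟩
        rw [← QuotientGroup.mk_pow, QuotientGroup.eq_one_iff, Subgroup.mem_subgroupOf,
          SubmonoidClass.coe_pow, ← QuotientGroup.eq_one_iff]
        exact congrArg Subtype.val hi
      have hsup : (fittingSubgroup (G ⧸ fittingSubgroup G)).subgroupOf L ⊔ (T : Subgroup L) = ⊤ := by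
        rw [← Subgroup.index_eq_one]
        obtain ⟨i, hi⟩ := hq'.exists_card_eq
        refine Nat.eq_one_of_dvd_coprimes ?_ (Subgroup.index_dvd_of_le le_sup_left)
          (Subgroup.index_dvd_of_le le_sup_right)
        rw [Subgroup.index_eq_card, hi]
        exact ((s.2.coprime_iff_not_dvd.2 T.not_dvd_index).pow_left i)
      obtain ⟨f, hf, a, ha, hfa⟩ := Subgroup.mem_sup_of_normal_left.1
        (hsup ▸ Subgroup.mem_top (⟨h, hhL⟩ : L) :
          (⟨h, hhL⟩ : L) ∈ (fittingSubgroup (G ⧸ fittingSubgroup G)).subgroupOf L ⊔ (T : Subgroup L))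
      exact ⟨f, hf, a, hU ▸ ⟨a, ha, rfl⟩, congrArg Subtype.val hfa⟩
    -- the subgroup centralizing the centres
    obtain ⟨Fc, hFc⟩ : ∃ Fc : Subgroup (MulAut G ⧸ NF),
        Fc = ⨅ q, Subgroup.centralizer (Zc q : Set (MulAut G ⧸ NF)) := ⟨_, rfl⟩
    haveI : Fc.Normal := hFc ▸ Subgroup.normal_iInf_normal fun q => by
      haveI := hZn q
      infer_instance
    have hzFc : z ∈ Fc := by
      rw [hFc, Subgroup.mem_iInf]
      exact fun q => Subgroup.mem_centralizer_iff.2 fun a ha =>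
        (mul_inv_eq_iff_eq_mul.1 (hzfix q a ha)).symm
    obtain ⟨U0, hU0⟩ : ∃ U0, U0 = U.map ι ⊓ Fc := ⟨_, rfl⟩
    have hyU : y ∈ Subgroup.normalizer (U0 : Set (MulAut G ⧸ NF)) := by
      refine Subgroup.mem_normalizer_fintype fun e he => ?_
      rw [hU0] at he ⊢
      obtain ⟨⟨a, ha, rfl⟩, heF⟩ := Subgroup.mem_inf.1 he
      refine Subgroup.mem_inf.2 ⟨?_, (inferInstance : Fc.Normal).conj_mem _ heF y⟩
      have h1 := hyι 1 a
      rw [pow_one, pow_one] at h1
      rw [h1]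
      exact Subgroup.mem_map_of_mem ι (hT a ha)
    have hU0s : IsPGroup (s : ℕ) U0 := hU0 ▸ (hUs.map ι).to_le inf_le_left
    -- differences of elements centralizing the centres lie in the Fitting subgroup
    have hdiff : ∀ v ∈ U, ι v ∈ Fc → v * (τ v)⁻¹ ∈ fittingSubgroup (G ⧸ fittingSubgroup G) := by
      intro v hv hvF
      have hvU0 : ι v ∈ U0 := hU0 ▸ Subgroup.mem_inf.2 ⟨Subgroup.mem_map_of_mem ι hv, hvF⟩
      obtain ⟨e, he⟩ : ∃ e, e = ι (v * (τ v)⁻¹) := ⟨_, rfl⟩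
      have heq : ⁅ι v, z⁆ = e := by
        rw [he, map_mul, map_inv, ← hzι, commutatorElement_def]; group
      have hd : v * (τ v)⁻¹ ∈ U := mul_mem hv (inv_mem (hUτ v hv))
      have heF : e ∈ Fc := by
        rw [← heq, show ⁅ι v, z⁆ = (ι v * z * (ι v)⁻¹) * z⁻¹ from commutatorElement_def _ _]
        exact mul_mem ((inferInstance : Fc.Normal).conj_mem _ hzFc _) (inv_mem hzFc)
      refine mem_fitting_of_centralizes (s : ℕ) _ ?_ fun q hqs => ?_
      · have := hUL hd
        rw [hL] at this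
        exact this
      haveI := Fact.mk q.2
      haveI := hCn q
      haveI := hZn q
      rw [Subgroup.mem_centralizer_iff]
      intro a ha
      have haP : ι a ∈ P q := hP q ▸ Subgroup.mem_map_of_mem ι ha
      by_cases hq2 : (q : ℕ) = 2
      · rw [hP2 q hq2, Subgroup.mem_bot] at haP
        rw [hιinj (haP.trans (map_one ι).symm), one_mul, mul_one]
      have hco : (orderOf e).Coprime q := by
        obtain ⟨i, hi⟩ := hUs ⟨_, hd⟩
        refine ((((Nat.coprime_primes s.2 q.2).2 (Ne.symm hqs)).pow_left i)).coprime_dvd_left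
          (orderOf_dvd_of_pow_eq_one ?_)
        rw [he, ← map_pow, show (v * (τ v)⁻¹) ^ (s : ℕ) ^ i = 1 from congrArg Subtype.val hi, map_one]
      have hcC : ∀ c ∈ C q, e * c * e⁻¹ = c := by
        intro c hc
        have hc1 : e * c * e⁻¹ * c⁻¹ ∈ C q := mul_mem ((hCn q).conj_mem c hc _) (inv_mem hc)
        have hc1Z : e * c * e⁻¹ * c⁻¹ ∈ Zc q := by
          refine (hmemZ q _).2 ⟨hc1, fun d hd => commutatorElement_eq_one_iff_commute.1 ?_⟩
          have hm : ⁅e * c * e⁻¹ * c⁻¹, d⁆ ∈ Zc q := hcl q _ hc1 _ hd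
          refine hfaith q _ (hCle q ((hmemZ q _).1 hm).1) fun r hr2 hrq => ?_
          haveI := Fact.mk r.2
          refine eq_one_of_weights (ρ r) (Zc q)
            (fun u hu w hw => (((hmemZ q u).1 hu).2 w ((hmemZ q w).1 hw).1).map (ρ r)) _ hm
            (hord q r hrq _ ((hmemZ q _).1 hm).1) fun χ hχ => ?_
          obtain ⟨w, hw, hw0⟩ := Submodule.exists_mem_ne_zero_of_ne_bot hχ
          have h1 := component_sum hr2 (ρ r) hq2 (Ne.symm hrq) (C q) (hCp q) (Zc q) (hmemZ q) (hcl q)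
            (hqpow q) n hn hs2 (Ne.symm hqs) y hyn (hρsum r) U0 hU0s hyU
            (fun u hu b hb => by
              rw [hU0, Subgroup.mem_inf, hFc, Subgroup.mem_iInf] at hu
              exact mul_inv_eq_iff_eq_mul.2 (Subgroup.mem_centralizer_iff.1 (hu.2 q) b hb).symm)
            χ hχ (ι v) hvU0 c hc d hd w hw
          rw [← hz, heq, mem_wt.1 hw _ hm] at h1
          exact smul_left_injective _ hw0 (h1.trans (one_smul _ w).symm)
        refine fix_of_coprime (e := e * c * e⁻¹ * c⁻¹) (by group) ?_ ?_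
        · rw [hFc, Subgroup.mem_iInf] at heF
          exact mul_inv_eq_iff_eq_mul.2 (Subgroup.mem_centralizer_iff.1 (heF q) _ hc1Z).symm
        · obtain ⟨i, hi⟩ := hCp q ⟨_, hc1⟩
          exact (hco.pow_right i).coprime_dvd_right
            (orderOf_dvd_of_pow_eq_one (congrArg Subtype.val hi))
      have h1 := hext q e hco hcC _ haP
      refine hιinj ?_
      rw [map_mul ι a, map_mul ι (v * (τ v)⁻¹) a, ← he]
      exact (mul_inv_eq_iff_eq_mul.1 h1).symm
    -- conclusion for this prime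
    have hUFc : ∀ v ∈ U, ι (v * (τ v)⁻¹) ∈ Fc := fun v _ => by
      rw [map_mul, map_inv, ← hzι, show ι v * (z * ι v * z⁻¹)⁻¹ = (ι v * z * (ι v)⁻¹) * z⁻¹ by group]
      exact mul_mem ((inferInstance : Fc.Normal).conj_mem _ hzFc _) (inv_mem hzFc)
    obtain ⟨d, hd⟩ : ∃ d, d = u * (τ u)⁻¹ := ⟨_, rfl⟩
    have hdU : d ∈ U := hd ▸ mul_mem hu (inv_mem (hUτ u hu))
    have hdd := hdiff d hdU (hd ▸ hUFc u hu)
    let π := QuotientGroup.mk' (fittingSubgroup (G ⧸ fittingSubgroup G))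
    have e1 : π (τ d) = π d := by
      have h1 : π (d * (τ d)⁻¹) = 1 := (QuotientGroup.eq_one_iff _).2 hdd
      rw [map_mul, map_inv, mul_inv_eq_one] at h1
      exact h1.symm
    have e2 : τ u = d⁻¹ * u := by rw [hd]; group
    have hττ : τ (τ u) = u := by
      rw [← MulAut.mul_apply, hτ, ← pow_add, ← two_mul, ← pow_succ', Nat.sub_add_cancel hn, hσbP,
        MulAut.one_apply]
    have e3 : π d ^ 2 = 1 := by
      have h1 := congrArg π hττ
      rw [e2, map_mul, map_inv, e2, map_mul, map_mul, map_inv, map_inv, e1, ← mul_assoc] at h1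
      rw [mul_eq_right, ← mul_inv_rev, inv_eq_one, ← pow_two] at h1
      exact h1
    have e4 : π d = 1 := by
      rw [← orderOf_eq_one_iff]
      rcases (Nat.dvd_prime Nat.prime_two).1 (orderOf_dvd_of_pow_eq_one e3) with h' | h'
      · exact h'
      · exact absurd (h' ▸ orderOf_dvd_natCard (π d)) hQcard
    rw [← QuotientGroup.eq_one_iff]
    show π (h⁻¹ * τ h) = 1
    have e5 : π f = 1 := (QuotientGroup.eq_one_iff f).2 hf
    have e6 : π (τ f) = 1 := (QuotientGroup.eq_one_iff _).2 (hFinv f hf)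
    rw [← hfu, map_mul, map_inv, map_mul, map_mul, map_mul, e5, e6, one_mul, one_mul, e2, map_mul,
      map_inv, e4, inv_one, one_mul, inv_mul_cancel]
  -- the Fitting subgroup of the second quotient, hence all of it, is centralized
  have hFHσ : (fittingSubgroup (G ⧸ fittingSubgroup G)).map τ.toMonoidHom =
      fittingSubgroup (G ⧸ fittingSubgroup G) :=
    Subgroup.characteristic_iff_map_eq.1 fitting_characteristic τ
  obtain ⟨t, ht⟩ : ∃ t : MulAut ((G ⧸ fittingSubgroup G) ⧸ fittingSubgroup (G ⧸ fittingSubgroup G)),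
      ∀ h : G ⧸ fittingSubgroup G, t (h : _ ⧸ fittingSubgroup (G ⧸ fittingSubgroup G)) =
        ((τ h : G ⧸ fittingSubgroup G) : _ ⧸ fittingSubgroup (G ⧸ fittingSubgroup G)) :=
    ⟨QuotientGroup.congr _ _ τ hFHσ, fun h => QuotientGroup.congr_mk _ _ τ hFHσ h⟩
  have hfit : ∀ w ∈ fittingSubgroup ((G ⧸ fittingSubgroup G) ⧸ fittingSubgroup (G ⧸ fittingSubgroup G)),
      t w = w := by
    intro w hw
    have hle : fittingSubgroup ((G ⧸ fittingSubgroup G) ⧸ fittingSubgroup (G ⧸ fittingSubgroup G)) ≤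
        t.toMonoidHom.eqLocus (MonoidHom.id _) := by
      refine fitting_eq_iSup_pCore.trans_le ?_
      refine iSup_le fun q w hw => ?_
      obtain ⟨h, rfl⟩ := QuotientGroup.mk_surjective w
      show t _ = (h : (G ⧸ fittingSubgroup G) ⧸ fittingSubgroup (G ⧸ fittingSubgroup G))
      rw [ht, eq_comm, QuotientGroup.eq]
      exact hstep q _ hw h rfl
    exact hle hw
  obtain ⟨h0, hh0⟩ : ∃ h0 : (G ⧸ fittingSubgroup G) ⧸ fittingSubgroup (G ⧸ fittingSubgroup G), h0 = x :=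
    ⟨_, rfl⟩
  obtain ⟨c, hc⟩ : ∃ c, c = h0⁻¹ * t h0 := ⟨_, rfl⟩
  haveI := fittingSubgroup_normal
    (G := (G ⧸ fittingSubgroup G) ⧸ fittingSubgroup (G ⧸ fittingSubgroup G))
  have hcC : c ∈ Subgroup.centralizer
      (fittingSubgroup ((G ⧸ fittingSubgroup G) ⧸ fittingSubgroup (G ⧸ fittingSubgroup G)) : Set _) := by
    rw [Subgroup.mem_centralizer_iff]
    intro w hw
    have h2 := hfit _ ((inferInstance : (fittingSubgroup ((G ⧸ fittingSubgroup G) ⧸
      fittingSubgroup (G ⧸ fittingSubgroup G))).Normal).conj_mem w hw h0)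
    rw [map_mul, map_mul, map_inv, hfit w hw] at h2
    calc w * c = h0⁻¹ * (h0 * w * h0⁻¹) * t h0 := by rw [hc]; group
      _ = h0⁻¹ * (t h0 * w * (t h0)⁻¹) * t h0 := by rw [h2]
      _ = c * w := by rw [hc]; group
  have hsolQ : Group.IsSolvable ((G ⧸ fittingSubgroup G) ⧸ fittingSubgroup (G ⧸ fittingSubgroup G)) := by
    haveI := hsolH
    exact Group.isSolvable_of_surjective (QuotientGroup.mk'_surjective _)
  have hcF := hfit c (centralizer_fitting_le hsolQ hcC)
  have e1 : t h0 = h0 * c := by rw [hc]; group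
  have htt : t (t h0) = h0 := by
    rw [hh0, ht, ht, hτ, ← MulAut.mul_apply, ← pow_add, ← two_mul, ← pow_succ', Nat.sub_add_cancel hn,
      hσbP, MulAut.one_apply]
  rw [e1, map_mul, hcF, e1, mul_assoc, mul_eq_left, ← pow_two] at htt
  have hc1 : c = 1 := by
    rw [← orderOf_eq_one_iff]
    rcases (Nat.dvd_prime Nat.prime_two).1 (orderOf_dvd_of_pow_eq_one htt) with h' | h'
    · exact h'
    · exact absurd ((h' ▸ orderOf_dvd_natCard c).trans (Subgroup.card_quotient_dvd_card _)) hcardH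
  rw [hc, hh0, ht, ← QuotientGroup.mk_inv, ← QuotientGroup.mk_mul, QuotientGroup.eq_one_iff] at hc1
  exact hc1

/-- The bound on the residual series. -/
theorem height : ∀ (j : ℕ) {G : Type u} [Group G] [Finite G], Group.IsSolvable G →
    ∀ σ : MulAut G, σ ^ 2 ^ (j + 2) = 1 → (∀ g, σ g = g → g = 1) →
      FitTower.R (2 * j + 2) (⊤ : Subgroup G) = ⊥ := by
  haveI : Fact (Nat.Prime 2) := ⟨Nat.prime_two⟩
  intro j
  induction j with
  | zero =>
    intro G _ _ hG σ hσ hfpf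
    have hnil : Group.IsNilpotent (commutator G) :=
      Lead.FpfFour.derived_nilpotent _ rfl hG σ (by simpa using hσ) hfpf
    rw [Nat.mul_zero, Nat.zero_add, show (2 : ℕ) = 1 + 1 from rfl, FitTower.R_add, eq_bot_iff]
    have h1 : FitTower.R 1 (⊤ : Subgroup G) ≤ commutator G := by
      rw [FitTower.R_succ, FitTower.R_zero]
      exact (FitTower.res_le_lcs _ 1).trans (le_of_eq (by simp [commutator_def]))
    rw [FitTower.R_succ 0, FitTower.R_zero]
    exact (FitTower.res_mono h1).trans (FitTower.res_eq_bot hnil).le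
  | succ j ih =>
    intro G _ _ hG σ hσ hfpf
    haveI := fittingSubgroup_normal (G := G)
    haveI := hG
    have hFσ : (fittingSubgroup G).map σ.toMonoidHom = fittingSubgroup G :=
      Subgroup.characteristic_iff_map_eq.1 fitting_characteristic σ
    obtain ⟨σb, hσb, hσbP, hσbf⟩ := FPFOp.exists_quotient σ hσ hfpf _ hFσ
    have hσb1 : ∀ g : G, σb (g : G ⧸ fittingSubgroup G) = ((σ g : G) : G ⧸ fittingSubgroup G) := fun g => by
      have := hσb 1 g
      rwa [pow_one, pow_one] at this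
    haveI := fittingSubgroup_normal (G := G ⧸ fittingSubgroup G)
    have hsolH : Group.IsSolvable (G ⧸ fittingSubgroup G) :=
      Group.isSolvable_of_surjective (QuotientGroup.mk'_surjective _)
    have hFσb : (fittingSubgroup (G ⧸ fittingSubgroup G)).map σb.toMonoidHom =
        fittingSubgroup (G ⧸ fittingSubgroup G) :=
      Subgroup.characteristic_iff_map_eq.1 fitting_characteristic σb
    obtain ⟨σ2, hσ2, -, hσ2f⟩ := FPFOp.exists_quotient σb hσbP hσbf _ hFσb
    have hσ2P : σ2 ^ 2 ^ (j + 2) = 1 := MulEquiv.ext fun w => by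
      obtain ⟨h, rfl⟩ := QuotientGroup.mk_surjective w
      rw [hσ2, MulAut.one_apply, eq_comm, QuotientGroup.eq]
      have h1 := inv_mul_mem_two_fitting hG (n := j + 1 + 2) (by omega) σ hσ hfpf σb hσb1 hσbP hσbf h
      rwa [show j + 1 + 2 - 1 = j + 2 from rfl] at h1
    haveI := hsolH
    have h1 := ih (Group.isSolvable_of_surjective
      (QuotientGroup.mk'_surjective (fittingSubgroup (G ⧸ fittingSubgroup G)))) σ2 hσ2P hσ2f
    rw [← Subgroup.map_top_of_surjective (QuotientGroup.mk' (fittingSubgroup (G ⧸ fittingSubgroup G)))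
      (QuotientGroup.mk'_surjective _), ← FitTower.map_R, Subgroup.map_eq_bot_iff,
      QuotientGroup.ker_mk'] at h1
    have h2 : FitTower.R (2 * j + 3) (⊤ : Subgroup (G ⧸ fittingSubgroup G)) = ⊥ := by
      rw [FitTower.R_succ, eq_bot_iff]
      exact (FitTower.res_mono h1).trans (FitTower.res_eq_bot fittingSubgroup_nilpotent).le
    rw [← Subgroup.map_top_of_surjective (QuotientGroup.mk' (fittingSubgroup G))
      (QuotientGroup.mk'_surjective _), ← FitTower.map_R, Subgroup.map_eq_bot_iff,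
      QuotientGroup.ker_mk'] at h2
    rw [show 2 * (j + 1) + 2 = 2 * j + 3 + 1 by ring, FitTower.R_succ, eq_bot_iff]
    exact (FitTower.res_mono h2).trans (FitTower.res_eq_bot fittingSubgroup_nilpotent).le

end Cfsg.Agent.Solv.Gross
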