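import Cfsg.Agent.Lib.Solv.TheoremB

/-!
Weight spaces of a subgroup with commutative image, permuted by an operator without a regular block.
-/

set_option autoImplicit false
set_option linter.style.haveILetI false

namespace Cfsg.Agent.Solv.Gross

open Cfsg.Agent.Solv.CRep

universe u v

variable {K : Type*} [Field K] {G : Type u} [Group G] {W : Type v} [AddCommGroup W] [Module K W]

/-- The weight space of `χ` with respect to the elements of `A`. -/
def wt (ρ : G →* Module.End K W) (A : Subgroup G) (χ : G → K) : Submodule K W :=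
  ⨅ a ∈ A, (ρ a).eigenspace (χ a)

theorem mem_wt {ρ : G →* Module.End K W} {A : Subgroup G} {χ : G → K} {w : W} :
    w ∈ wt ρ A χ ↔ ∀ a ∈ A, ρ a w = χ a • w := by
  simp [wt, Submodule.mem_iInf]

theorem map_wt {ρ : G →* Module.End K W} {A : Subgroup G} {χ : G → K} {x : G}
    (hx : x ∈ Subgroup.normalizer (A : Set G)) {w : W} (hw : w ∈ wt ρ A χ) :
    ρ x w ∈ wt ρ A (fun a => χ (x⁻¹ * a * x)) := by
  rw [mem_wt] at hw ⊢
  intro a ha
  have h1 : x⁻¹ * a * x ∈ A := by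
    have := (Subgroup.mem_normalizer_iff.1 (inv_mem hx) a).1 ha
    simpa using this
  rw [← Module.End.mul_apply, ← map_mul, show a * x = x * (x⁻¹ * a * x) by group, map_mul,
    Module.End.mul_apply, hw _ h1, map_smul]

/-- Every eigenvector of an element yields a common eigenvector of the whole commutative image. -/
theorem eq_one_of_weights [IsAlgClosed K] [FiniteDimensional K W] [Finite G]
    (ρ : G →* Module.End K W) (A : Subgroup G) (hA : ∀ a ∈ A, ∀ b ∈ A, Commute (ρ a) (ρ b)) (e : G)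
    (he : e ∈ A) (hord : ((orderOf e : ℕ) : K) ≠ 0)
    (h : ∀ χ : G → K, wt ρ A χ ≠ ⊥ → χ e = 1) : ρ e = 1 := by
  classical
  by_contra hne
  obtain ⟨T, hT⟩ : ∃ T, T = ρ e := ⟨_, rfl⟩
  have hTN : T ^ orderOf e = 1 := by rw [hT, ← map_pow, pow_orderOf_eq_one, map_one]
  obtain ⟨S, hS⟩ : ∃ S : Module.End K W, S = ∑ i ∈ Finset.range (orderOf e), T ^ i := ⟨_, rfl⟩
  have hST : S * T = S := by
    have h1 := geom_sum_mul T (orderOf e)
    rw [hTN, sub_self, ← hS, mul_sub, mul_one, sub_eq_zero] at h1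
    exact h1
  obtain ⟨U, hU⟩ : ∃ U : Submodule K W, U = LinearMap.ker S := ⟨_, rfl⟩
  have hUne : U ≠ ⊥ := by
    intro h0
    refine hne (LinearMap.ext fun w => ?_)
    have h1 : ρ e w - w ∈ U := by
      rw [hU, LinearMap.mem_ker, map_sub, ← hT, ← Module.End.mul_apply, hST, sub_self]
    rw [h0, Submodule.mem_bot, sub_eq_zero] at h1
    exact h1
  have hUA : ∀ a : A, ∀ w ∈ U, (ρ.comp A.subtype) a w ∈ U := by
    intro a w hw
    rw [hU, LinearMap.mem_ker] at hw ⊢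
    have hc : Commute S (ρ (a : G)) := by
      rw [hS]
      exact Commute.sum_left _ _ _ fun i _ => (hT ▸ hA e he a a.2).pow_left i
    show S (ρ (a : G) w) = 0
    rw [← Module.End.mul_apply, hc.eq, Module.End.mul_apply, hw, map_zero]
  haveI : Nontrivial U := Submodule.nontrivial_iff_ne_bot.2 hUne
  obtain ⟨U', hU', hs⟩ := exists_simple (subRep (ρ.comp A.subtype) U hUA)
  haveI := hs.1
  have hsc : ∀ a : A, ∃ c : K, subRep (subRep (ρ.comp A.subtype) U hUA) U' hU' a = c • 1 := fun a =>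
    schur hs _ fun b => LinearMap.ext fun w => Subtype.ext (Subtype.ext (by
      simp only [Module.End.mul_apply, subRep_apply]
      exact LinearMap.congr_fun (hA a a.2 b b.2).eq _))
  choose c hc using hsc
  obtain ⟨χ, hχ⟩ : ∃ χ : G → K, ∀ a : A, χ a = c a :=
    ⟨fun g => if hg : g ∈ A then c ⟨g, hg⟩ else 0, fun a => dif_pos a.2⟩
  obtain ⟨u, hu⟩ := exists_ne (0 : U')
  have huW : ((u : U) : W) ∈ wt ρ A χ := by
    rw [mem_wt]
    intro a ha
    have h1 := congrArg (fun y : U' => ((y : U) : W)) (LinearMap.congr_fun (hc ⟨a, ha⟩) u)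
    simp only [subRep_apply, LinearMap.smul_apply, Module.End.one_apply, SetLike.val_smul] at h1
    rw [hχ ⟨a, ha⟩]
    exact h1
  have hu0 : ((u : U) : W) ≠ 0 := fun h0 => hu (Subtype.ext (Subtype.ext h0))
  have h1 : χ e = 1 := h χ fun h0 => hu0 ((Submodule.mem_bot K).1 (h0 ▸ huW))
  have h2 : T ((u : U) : W) = ((u : U) : W) := by rw [hT, mem_wt.1 huW e he, h1, one_smul]
  have h3 : ∀ i, (T ^ i) ((u : U) : W) = ((u : U) : W) := fun i => by
    induction i with
    | zero => simp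
    | succ i ih => rw [pow_succ, Module.End.mul_apply, h2, ih]
  have h4 : S ((u : U) : W) = 0 := LinearMap.mem_ker.1 (hU ▸ (u : U).2)
  rw [hS, LinearMap.sum_apply, Finset.sum_congr rfl (fun i _ => h3 i), Finset.sum_const,
    Finset.card_range, ← Nat.cast_smul_eq_nsmul K, smul_eq_zero] at h4
  exact h4.elim hord hu0

variable [CharP K 2]

theorem sum_pow_two [Nontrivial W] (T : Module.End K W) : ∀ m : ℕ,
    ∑ i ∈ Finset.range (2 ^ m), T ^ i = (T - 1) ^ (2 ^ m - 1) := by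
  haveI : CharP (Module.End K W) 2 :=
    charP_of_injective_algebraMap (FaithfulSMul.algebraMap_injective K (Module.End K W)) 2
  haveI : Fact (Nat.Prime 2) := ⟨Nat.prime_two⟩
  intro m
  induction m with
  | zero => simp
  | succ m ih =>
    rw [pow_succ, mul_two, Finset.sum_range_add]
    have h1 : ∑ i ∈ Finset.range (2 ^ m), T ^ (2 ^ m + i) =
        T ^ 2 ^ m * ∑ i ∈ Finset.range (2 ^ m), T ^ i := by
      rw [Finset.mul_sum]; simp_rw [pow_add]
    have h2 : (T - 1) ^ 2 ^ m = T ^ 2 ^ m + 1 := by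
      rw [sub_pow_char_pow_of_commute 2 m (Commute.one_right T), one_pow, sub_eq_add_neg,
        CharTwo.neg_eq]
    have hpos := Nat.one_le_two_pow (n := m)
    rw [h1, ih, show 2 ^ m + 2 ^ m - 1 = 2 ^ m + (2 ^ m - 1) by omega, pow_add (T - 1), h2, add_mul,
      one_mul, add_comm]

theorem sum_range_mul_aux {M : Type*} [AddCommMonoid M] (f : ℕ → M) (L : ℕ) : ∀ l : ℕ,
    ∑ j ∈ Finset.range (L * l), f j = ∑ i ∈ Finset.range L, ∑ t ∈ Finset.range l, f (L * t + i) := by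
  intro l
  induction l with
  | zero => simp
  | succ l ih =>
    rw [Nat.mul_succ, Finset.sum_range_add, ih, ← Finset.sum_add_distrib]
    exact Finset.sum_congr rfl fun i _ => (Finset.sum_range_succ (fun t => f (L * t + i)) l).symm

/-- An operator without a regular block: the weight has a short period and the corresponding power
has no regular block on the weight space. -/
theorem period [Finite G] (ρ : G →* Module.End K W) (A : Subgroup G) (x : G)
    (hx : x ∈ Subgroup.normalizer (A : Set G)) (n : ℕ) (hxn : x ^ 2 ^ n = 1)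
    (hdeg : (ρ x - 1) ^ (2 ^ n - 1) = 0) (χ : G → K) (hχ : wt ρ A χ ≠ ⊥) :
    ∃ k, k < n ∧ (∀ a ∈ A, χ ((x ^ 2 ^ k)⁻¹ * a * x ^ 2 ^ k) = χ a) ∧
      ∀ w ∈ wt ρ A χ, ((ρ (x ^ 2 ^ k) - 1) ^ (2 ^ (n - k) - 1) : Module.End K W) w = 0 := by
  classical
  obtain ⟨w₀, hw₀, hw₀'⟩ := Submodule.exists_mem_ne_zero_of_ne_bot hχ
  haveI : Nontrivial W := ⟨⟨w₀, 0, hw₀'⟩⟩
  have hin : ∀ i : ℕ, ∀ a ∈ A, (x ^ i)⁻¹ * a * x ^ i ∈ A := fun i a ha => by
    have := (Subgroup.mem_normalizer_iff.1 (inv_mem (pow_mem hx i)) a).1 ha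
    simpa using this
  have hex : ∃ L, 0 < L ∧ ∀ a ∈ A, χ ((x ^ L)⁻¹ * a * x ^ L) = χ a :=
    ⟨2 ^ n, Nat.two_pow_pos n, fun a _ => by rw [hxn, inv_one, one_mul, mul_one]⟩
  obtain ⟨L, hL⟩ : ∃ L, L = Nat.find hex := ⟨_, rfl⟩
  obtain ⟨hL0, hLfix⟩ := hL ▸ Nat.find_spec hex
  have hmul : ∀ t, ∀ a ∈ A, χ ((x ^ (L * t))⁻¹ * a * x ^ (L * t)) = χ a := by
    intro t
    induction t with
    | zero => intro a _; simp
    | succ t ih =>
      intro a ha
      rw [Nat.mul_succ, pow_add, show (x ^ (L * t) * x ^ L)⁻¹ * a * (x ^ (L * t) * x ^ L) =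
        (x ^ L)⁻¹ * ((x ^ (L * t))⁻¹ * a * x ^ (L * t)) * x ^ L by group, hLfix _ (hin _ a ha), ih a ha]
  have hdist : ∀ i < L, ∀ j < L, i < j →
      ∃ a ∈ A, χ ((x ^ i)⁻¹ * a * x ^ i) ≠ χ ((x ^ j)⁻¹ * a * x ^ j) := by
    intro i _ j hj hij
    by_contra hcon
    push Not at hcon
    refine Nat.find_min hex (m := j - i) (by omega) ⟨by omega, fun a ha => ?_⟩
    have hb : x ^ i * a * (x ^ i)⁻¹ ∈ A := (Subgroup.mem_normalizer_iff.1 (pow_mem hx i) a).1 ha
    have h1 := hcon _ hb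
    rw [show x ^ j = x ^ i * x ^ (j - i) by rw [← pow_add, Nat.add_sub_cancel' hij.le]] at h1
    simpa [mul_assoc] using h1.symm
  have hdvd : L ∣ 2 ^ n := by
    rw [Nat.dvd_iff_mod_eq_zero]
    by_contra hne
    obtain ⟨a, ha, hne'⟩ := hdist 0 hL0 _ (Nat.mod_lt _ hL0) (Nat.pos_of_ne_zero hne)
    refine hne' ?_
    rw [pow_zero, inv_one, one_mul, mul_one]
    conv_lhs => rw [show a = (x ^ 2 ^ n)⁻¹ * a * x ^ 2 ^ n by rw [hxn, inv_one, one_mul, mul_one]]
    rw [← Nat.mod_add_div (2 ^ n) L, pow_add,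
      show (x ^ (2 ^ n % L) * x ^ (L * (2 ^ n / L)))⁻¹ * a * (x ^ (2 ^ n % L) * x ^ (L * (2 ^ n / L))) =
        (x ^ (L * (2 ^ n / L)))⁻¹ * ((x ^ (2 ^ n % L))⁻¹ * a * x ^ (2 ^ n % L)) * x ^ (L * (2 ^ n / L))
        by group, hmul _ _ (hin _ a ha), Nat.mod_add_div]
  obtain ⟨k, hkn, hLk⟩ := (Nat.dvd_prime_pow Nat.prime_two).1 hdvd
  have hwt : ∀ (i : ℕ), ∀ w ∈ wt ρ A χ, ρ (x ^ i) w ∈ wt ρ A (fun a => χ ((x ^ i)⁻¹ * a * x ^ i)) :=
    fun i w hw => map_wt (pow_mem hx i) hw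
  have hzero : ∀ w ∈ wt ρ A χ, ((ρ (x ^ 2 ^ k) - 1) ^ (2 ^ (n - k) - 1) : Module.End K W) w = 0 := by
    intro w hw
    rw [← sum_pow_two]
    have hsum : ∑ j ∈ Finset.range (2 ^ n), ρ (x ^ j) w = 0 := by
      rw [← LinearMap.sum_apply]
      simp_rw [map_pow]
      rw [sum_pow_two, hdeg, LinearMap.zero_apply]
    rw [show 2 ^ n = L * 2 ^ (n - k) by rw [hLk, ← pow_add, Nat.add_sub_cancel' hkn],
      sum_range_mul_aux] at hsum
    obtain ⟨u, hu⟩ : ∃ u : ℕ → W, ∀ i, u i = ∑ t ∈ Finset.range (2 ^ (n - k)), ρ (x ^ (L * t + i)) w :=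
      ⟨_, fun _ => rfl⟩
    have h0 : u 0 = 0 := ThmB.weights_indep (fun a => ρ a) (A : Set G)
      (fun i a => χ ((x ^ i)⁻¹ * a * x ^ i)) (Finset.range L) u
      (fun i _ a ha => by
        rw [hu, map_sum, Finset.smul_sum]
        refine Finset.sum_congr rfl fun t _ => ?_
        rw [mem_wt.1 (hwt (L * t + i) w hw) a ha]
        congr 1
        rw [pow_add, show (x ^ (L * t) * x ^ i)⁻¹ * a * (x ^ (L * t) * x ^ i) =
          (x ^ i)⁻¹ * ((x ^ (L * t))⁻¹ * a * x ^ (L * t)) * x ^ i by group]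
        have hcomm : (x ^ i)⁻¹ * ((x ^ (L * t))⁻¹ * a * x ^ (L * t)) * x ^ i =
            (x ^ (L * t))⁻¹ * ((x ^ i)⁻¹ * a * x ^ i) * x ^ (L * t) := by
          have e : x ^ (L * t) * x ^ i = x ^ i * x ^ (L * t) := by rw [← pow_add, ← pow_add, add_comm]
          calc _ = (x ^ (L * t) * x ^ i)⁻¹ * a * (x ^ (L * t) * x ^ i) := by group
            _ = (x ^ i * x ^ (L * t))⁻¹ * a * (x ^ i * x ^ (L * t)) := by rw [e]
            _ = _ := by group
        rw [hcomm, hmul t _ (hin i a ha)])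
      (fun i hi j hj hij => by
        rw [Finset.mem_range] at hi hj
        rcases Nat.lt_or_gt_of_ne hij with h | h
        · exact hdist i hi j hj h
        · obtain ⟨a, ha, h'⟩ := hdist j hj i hi h
          exact ⟨a, ha, Ne.symm h'⟩)
      (by rw [← hsum]; exact Finset.sum_congr rfl fun i _ => hu i) 0 (Finset.mem_range.2 hL0)
    rw [hu] at h0
    rw [LinearMap.sum_apply, ← h0]
    refine Finset.sum_congr rfl fun t _ => ?_
    rw [← map_pow, ← pow_mul, hLk, add_zero]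
  refine ⟨k, lt_of_le_of_ne hkn ?_, fun a ha => hLk ▸ hLfix a ha, hzero⟩
  rintro rfl
  have := hzero w₀ hw₀
  rw [Nat.sub_self, pow_zero, Nat.sub_self, pow_zero, Module.End.one_apply] at this
  exact hw₀' this

end Cfsg.Agent.Solv.Gross
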