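import Cfsg.Agent.Lib.Solv.Gross.CoreTwo
import Cfsg.Agent.Lib.Solv.Gross.Pseudo
import Cfsg.Agent.Lib.Solv.Gross.Series
import Cfsg.Agent.Lib.Solv.Gross.Weights
import Cfsg.Agent.Lib.Solv.ConjRep
import Cfsg.Agent.S3736

/-!
An automorphism moving only a plane, normalising an `s`-group of automorphisms for an odd prime `s`:
half its order centralizes the `s`-group.
-/

set_option autoImplicit false
set_option linter.style.haveILetI false

namespace Cfsg.Agent.Solv.Gross

open Cfsg.Agent.Solv.CRep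
open scoped commutatorElement

universe u v

/-- A representation of the automorphism group in which plane automorphisms move at most a plane. -/
theorem exists_planeRep {M : Type u} [CommGroup M] [Finite M] {q : ℕ} [Fact q.Prime]
    (hexp : ∀ v : M, v ^ q = 1) (K : Type v) [Field K] [CharP K q] :
    ∃ (k : ℕ) (ρ : MulAut M →* Module.End K (Fin k → K)), Function.Injective ρ ∧
      ∀ (γ : MulAut M) (B : Subgroup M), Nat.card B = q ^ 2 → (∀ v, γ v * v⁻¹ ∈ B) →
        Module.finrank K (LinearMap.range (ρ γ - 1)) ≤ 2 := by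
  classical
  have hA : ∀ a : Additive M, q • a = 0 := fun a => by
    apply Additive.toMul.injective
    rw [toMul_nsmul, toMul_zero]
    exact hexp _
  obtain ⟨k, Θ, hΘ, hspan⟩ := exists_baseChange (M := Additive M) (p := q) hA K
  obtain ⟨α, hα⟩ : ∃ α : MulAut M →* AddMonoid.End (Additive M),
      ∀ (g : MulAut M) (m : Additive M), Additive.toMul (α g m) = g (Additive.toMul m) :=
    ⟨{ toFun := fun g => MonoidHom.toAdditive g.toMonoidHom
       map_one' := rfl
       map_mul' := fun a b => rfl }, fun g m => rfl⟩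
  refine ⟨k, Θ.toMonoidHom.comp α, fun g h e => ?_, fun γ B hB hmove => ?_⟩
  · have h1 : α g = α h := hΘ e
    refine MulEquiv.ext fun x => ?_
    have h2 := congrArg (fun f => Additive.toMul (f (Additive.ofMul x))) h1
    simpa [hα] using h2
  letI : Module (ZMod q) (Additive M) := AddCommGroup.zmodModule (n := q) hA
  obtain ⟨f, hf⟩ : ∃ f : AddMonoid.End (Additive M), f = α γ - 1 := ⟨_, rfl⟩
  obtain ⟨R, hR⟩ : ∃ R : Submodule (ZMod q) (Additive M),
      R = LinearMap.range (AddMonoidHom.toZModLinearMap q (f : Additive M →+ Additive M)) := ⟨_, rfl⟩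
  haveI : Module.Finite (ZMod q) R := Module.Finite.of_finite
  have hd : Module.finrank (ZMod q) R ≤ 2 := by
    have hRB : ∀ m : R, Additive.toMul (m : Additive M) ∈ B := by
      rintro ⟨m, hm⟩
      rw [hR] at hm
      obtain ⟨a, rfl⟩ := hm
      have h2 := hmove (Additive.toMul a)
      rw [← hα, ← div_eq_mul_inv, ← toMul_sub] at h2
      show Additive.toMul (f a) ∈ B
      rw [hf]
      exact h2
    have h1 : Nat.card R ≤ q ^ 2 :=
      hB ▸ Nat.card_le_card_of_injective (fun m => (⟨_, hRB m⟩ : B))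
        (fun a b e => Subtype.ext (Additive.toMul.injective (congrArg (fun w : B => (w : M)) e)))
    rw [Module.natCard_eq_pow_finrank (K := ZMod q) (V := R), Nat.card_zmod] at h1
    exact (Nat.pow_le_pow_iff_right (Fact.out : q.Prime).one_lt).1 h1
  obtain ⟨b, -⟩ : ∃ b : Module.Basis (Fin (Module.finrank (ZMod q) R)) (ZMod q) R, True :=
    ⟨Module.finBasis (ZMod q) R, trivial⟩
  have hmem : ∀ m, f m ∈ R := fun m => by rw [hR]; exact ⟨m, rfl⟩
  obtain ⟨fi, hfi⟩ : ∃ fi : Fin (Module.finrank (ZMod q) R) → AddMonoid.End (Additive M),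
      ∀ i m, fi i m = b.repr ⟨f m, hmem m⟩ i • ((b i : R) : Additive M) :=
    ⟨fun i => AddMonoidHom.mk' (fun m => b.repr ⟨f m, hmem m⟩ i • ((b i : R) : Additive M))
      (fun x y => by
        rw [← add_smul, ← Finsupp.add_apply, ← map_add,
          show (⟨f (x + y), hmem _⟩ : R) = ⟨f x, hmem x⟩ + ⟨f y, hmem y⟩ from Subtype.ext (map_add f x y)]),
      fun _ _ => rfl⟩
  have hsum : f = ∑ i, fi i := DFunLike.ext _ _ fun m => by
    rw [show (∑ i, fi i : AddMonoid.End (Additive M)) m = ∑ i, fi i m from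
      map_sum ({ toFun := fun g => g m, map_zero' := rfl, map_add' := fun _ _ => rfl } :
        AddMonoid.End (Additive M) →+ Additive M) _ _]
    have h1 := congrArg Subtype.val (b.sum_repr ⟨f m, hmem m⟩)
    simp only [AddSubmonoidClass.coe_finsetSum, SetLike.val_smul] at h1
    exact h1.symm.trans (Finset.sum_congr rfl fun i _ => (hfi i m).symm)
  have hv : ∀ i, ∃ v : Fin k → K, ∀ x, Θ (fi i) x ∈ Submodule.span K {v} := fun i =>
    hspan (fi i) ((b i : R) : Additive M) fun m => by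
      obtain ⟨z, hz⟩ := ZMod.intCast_surjective (b.repr ⟨f m, hmem m⟩ i)
      exact ⟨z, by rw [hfi, ← hz, Int.cast_smul_eq_zsmul]⟩
  choose v hv using hv
  have hle : LinearMap.range (Θ f) ≤ Submodule.span K (Set.range v) := by
    rintro _ ⟨x, rfl⟩
    rw [hsum, map_sum, LinearMap.sum_apply]
    exact Submodule.sum_mem _ fun i _ =>
      Submodule.span_mono (Set.singleton_subset_iff.2 (Set.mem_range_self i)) (hv i x)
  have he : (Θ.toMonoidHom.comp α) γ - 1 = Θ f := by rw [hf, map_sub, map_one]; rfl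
  rw [he]
  refine (Submodule.finrank_mono hle).trans ((finrank_range_le_card v).trans ?_)
  rwa [Fintype.card_fin]

variable {K : Type*} [Field K] [IsAlgClosed K] {G : Type u} [Group G] [Finite G]
variable {W : Type v} [AddCommGroup W] [Module K W] [FiniteDimensional K W]

/-- Weights moved by an operator which moves only a plane. -/
theorem plane_weights (ρ : G →* Module.End K W) (A : Subgroup G) (y : G)
    (hy : y ∈ Subgroup.normalizer (A : Set G)) {m : ℕ} (hm : 2 ≤ m) (hym : y ^ 2 ^ m = 1)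
    (hrank : Module.finrank K (LinearMap.range (ρ y - 1)) ≤ 2) (χ : G → K) (hχ : wt ρ A χ ≠ ⊥) :
    (∀ a ∈ A, χ ((y ^ 2 ^ (m - 1))⁻¹ * a * y ^ 2 ^ (m - 1)) = χ a) ∧
      (3 ≤ Module.finrank K (wt ρ A χ) → ∀ a ∈ A, χ (y⁻¹ * a * y) = χ a) := by
  classical
  obtain ⟨w₀, hw₀, hw₀'⟩ := Submodule.exists_mem_ne_zero_of_ne_bot hχ
  have hin : ∀ g ∈ Subgroup.normalizer (A : Set G), ∀ a ∈ A, g⁻¹ * a * g ∈ A := fun g hg a ha => by
    have := (Subgroup.mem_normalizer_iff.1 (inv_mem hg) a).1 ha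
    simpa using this
  obtain ⟨F, hF⟩ : ∃ F : Subgroup G, ∀ g, g ∈ F ↔ g ∈ Subgroup.normalizer (A : Set G) ∧
      ∀ a ∈ A, χ (g⁻¹ * a * g) = χ a := by
    refine ⟨{ carrier := {g | g ∈ Subgroup.normalizer (A : Set G) ∧ ∀ a ∈ A, χ (g⁻¹ * a * g) = χ a}
              one_mem' := ⟨one_mem _, fun a _ => by simp⟩
              mul_mem' := fun {g g'} hg hg' => ⟨mul_mem hg.1 hg'.1, fun a ha => by
                rw [show (g * g')⁻¹ * a * (g * g') = g'⁻¹ * (g⁻¹ * a * g) * g' by group,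
                  hg'.2 _ (hin g hg.1 a ha), hg.2 a ha]⟩
              inv_mem' := fun {g} hg => ⟨inv_mem hg.1, fun a ha => by
                have hb : g * a * g⁻¹ ∈ A := (Subgroup.mem_normalizer_iff.1 hg.1 a).1 ha
                have h2 := hg.2 _ hb
                rw [show g⁻¹ * (g * a * g⁻¹) * g = a by group] at h2
                rw [inv_inv]; exact h2.symm⟩ }, fun g => Iff.rfl⟩
  have hsep : ∀ i j : ℕ, i < j → y ^ (j - i) ∉ F →
      ∃ a ∈ A, χ ((y ^ i)⁻¹ * a * y ^ i) ≠ χ ((y ^ j)⁻¹ * a * y ^ j) := by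
    intro i j hij hnot
    by_contra hcon
    push Not at hcon
    refine hnot ((hF _).2 ⟨pow_mem hy _, fun a ha => ?_⟩)
    have hb : y ^ i * a * (y ^ i)⁻¹ ∈ A := (Subgroup.mem_normalizer_iff.1 (pow_mem hy i) a).1 ha
    have h1 := hcon _ hb
    rw [show (y ^ i)⁻¹ * (y ^ i * a * (y ^ i)⁻¹) * y ^ i = a by group,
      show y ^ j = y ^ i * y ^ (j - i) by rw [← pow_add, Nat.add_sub_cancel' hij.le],
      show (y ^ i * y ^ (j - i))⁻¹ * (y ^ i * a * (y ^ i)⁻¹) * (y ^ i * y ^ (j - i)) =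
        (y ^ (j - i))⁻¹ * a * y ^ (j - i) by group] at h1
    exact h1.symm
  have hwt : ∀ (i : ℕ), ∀ w ∈ wt ρ A χ, ∀ a ∈ A,
      ρ a (ρ (y ^ i) w) = χ ((y ^ i)⁻¹ * a * y ^ i) • ρ (y ^ i) w := fun i w hw a ha =>
    mem_wt.1 (map_wt (pow_mem hy i) hw) a ha
  refine ⟨?_, fun h3 => ?_⟩
  · by_contra hcon
    have hz : y ^ 2 ^ (m - 1) ∉ F := fun h => hcon ((hF _).1 h).2
    have hnot : ∀ d : ℕ, 0 < d → d < 4 → y ^ d ∉ F := by
      intro d hd hd4 h
      refine hz ?_
      interval_cases d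
      · rw [pow_one] at h; exact pow_mem h _
      · rw [show 2 ^ (m - 1) = 2 * 2 ^ (m - 2) by rw [← pow_succ']; congr 1; omega, pow_mul]
        exact pow_mem h _
      · have hco : Nat.Coprime 3 (orderOf y) :=
          ((show Nat.Coprime 3 2 by norm_num).pow_right m).coprime_dvd_right (orderOf_dvd_of_pow_eq_one hym)
        obtain ⟨t, ht⟩ := exists_pow_eq_self_of_coprime hco
        rw [← ht]
        exact pow_mem (pow_mem h t) _
    have hli : LinearIndependent K (fun i : Fin 3 => (⟨(ρ y - 1) (ρ (y ^ (i : ℕ)) w₀),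
        LinearMap.mem_range_self _ _⟩ : LinearMap.range (ρ y - 1))) := by
      rw [Fintype.linearIndependent_iff]
      intro c hc
      have h1 := congrArg Subtype.val hc
      simp only [Fin.sum_univ_three, Submodule.coe_add, SetLike.val_smul, ZeroMemClass.coe_zero,
        Fin.val_zero, Fin.val_one, Fin.val_two, LinearMap.sub_apply, Module.End.one_apply] at h1
      simp only [← Module.End.mul_apply, ← map_mul, ← pow_succ'] at h1
      obtain ⟨d, hd⟩ : ∃ d : ℕ → K, d = fun j => match j with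
          | 0 => -c 0 | 1 => c 0 - c 1 | 2 => c 1 - c 2 | _ => c 2 := ⟨_, rfl⟩
      have h0 := ThmB.weights_indep (fun a => ρ a) (A : Set G) (fun j a => χ ((y ^ j)⁻¹ * a * y ^ j))
        (Finset.range 4) (fun j => d j • ρ (y ^ j) w₀)
        (fun j _ a ha => by rw [map_smul, hwt j w₀ hw₀ a ha, smul_comm])
        (fun i hi j hj hij => by
          rw [Finset.mem_range] at hi hj
          rcases Nat.lt_or_gt_of_ne hij with h | h
          · exact hsep i j h (hnot _ (by omega) (by omega))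
          · obtain ⟨a, ha, h'⟩ := hsep j i h (hnot _ (by omega) (by omega))
            exact ⟨a, ha, Ne.symm h'⟩)
        (by
          simp only [Finset.sum_range_succ, Finset.sum_range_zero, zero_add, hd]
          rw [← h1]
          module)
      have hne : ∀ j, ρ (y ^ j) w₀ ≠ 0 := fun j h =>
        hw₀' (rep_injective ρ _ (h.trans (map_zero _).symm))
      have hd0 : ∀ j < 4, d j = 0 := fun j hj =>
        (smul_eq_zero.1 (h0 j (Finset.mem_range.2 hj))).resolve_right (hne j)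
      have e0 := hd0 0 (by norm_num)
      have e1 := hd0 1 (by norm_num)
      have e3 := hd0 3 (by norm_num)
      simp only [hd] at e0 e1 e3
      intro i
      fin_cases i
      · exact neg_eq_zero.1 e0
      · rw [neg_eq_zero] at e0
        rw [e0, zero_sub, neg_eq_zero] at e1
        exact e1
      · exact e3
    have h3 := hli.fintype_card_le_finrank
    rw [Fintype.card_fin] at h3
    omega
  · by_contra hcon
    have hy1 : y ^ (1 - 0) ∉ F := fun h => hcon ((hF _).1 (by simpa using h)).2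
    obtain ⟨φ, hφ⟩ : ∃ φ : wt ρ A χ →ₗ[K] LinearMap.range (ρ y - 1),
        ∀ w, ((φ w : LinearMap.range (ρ y - 1)) : W) = (ρ y - 1) (w : W) :=
      ⟨((ρ y - 1).rangeRestrict).comp (Submodule.subtype _), fun _ => rfl⟩
    have hinj : Function.Injective φ := by
      refine (injective_iff_map_eq_zero _).2 fun w hw => ?_
      have h1 := congrArg Subtype.val hw
      rw [hφ, LinearMap.sub_apply, Module.End.one_apply, ZeroMemClass.coe_zero] at h1
      have h0 := ThmB.weights_indep (fun a => ρ a) (A : Set G) (fun j a => χ ((y ^ j)⁻¹ * a * y ^ j))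
        (Finset.range 2) (fun j => (if j = 0 then -1 else 1 : K) • ρ (y ^ j) (w : W))
        (fun j _ a ha => by rw [map_smul, hwt j _ w.2 a ha, smul_comm])
        (fun i hi j hj hij => by
          rw [Finset.mem_range] at hi hj
          rcases Nat.lt_or_gt_of_ne hij with h | h
          · obtain rfl : i = 0 := by omega
            obtain rfl : j = 1 := by omega
            exact hsep 0 1 h hy1
          · obtain rfl : i = 1 := by omega
            obtain rfl : j = 0 := by omega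
            obtain ⟨a, ha, h'⟩ := hsep 0 1 h hy1
            exact ⟨a, ha, Ne.symm h'⟩)
        (by
          simp only [Finset.sum_range_succ, Finset.sum_range_zero, zero_add, if_true, pow_zero, map_one,
            Module.End.one_apply, neg_smul, one_smul, pow_one, one_ne_zero, if_false]
          rw [← h1]
          abel) 0 (by simp)
      simp only [if_true, pow_zero, map_one, Module.End.one_apply, neg_smul, one_smul, neg_eq_zero] at h0
      exact Subtype.ext h0
    have := LinearMap.finrank_le_finrank_of_injective hinj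
    omega

variable {q : ℕ} [Fact q.Prime] [CharP K q]

/-- Half the order of a plane operator centralizes an `s`-group which it normalises. -/
theorem odd_plane_rep {s : ℕ} [Fact s.Prime] (hs2 : s ≠ 2) (hsq : s ≠ q) {m : ℕ} (hm : 2 ≤ m)
    (hqm : q + 1 = 2 ^ m) (ρ : G →* Module.End K W) (hρ : Function.Injective ρ) (y : G)
    (hym : y ^ 2 ^ m = 1) (hrank : Module.finrank K (LinearMap.range (ρ y - 1)) ≤ 2) :
    ∀ P : Subgroup G, IsPGroup s P → y ∈ Subgroup.normalizer (P : Set G) →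
      ∀ x ∈ P, Commute (y ^ 2 ^ (m - 1)) x := by
  classical
  obtain ⟨z, hz⟩ : ∃ z, z = y ^ 2 ^ (m - 1) := ⟨_, rfl⟩
  rw [← hz]
  have hz2 : z ^ 2 = 1 := by
    rw [hz, ← pow_mul, ← pow_succ, Nat.sub_add_cancel (by omega : 1 ≤ m), hym]
  have hsK : (s : K) ≠ 0 := fun h => by
    rw [CharP.cast_eq_zero_iff K q] at h
    exact hsq ((Nat.prime_dvd_prime_iff_eq Fact.out Fact.out).1 h).symm
  have hords : ∀ {e : G} {P : Subgroup G}, IsPGroup s P → e ∈ P → ((orderOf e : ℕ) : K) ≠ 0 := by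
    intro e P hP he
    obtain ⟨i, hi⟩ := hP ⟨e, he⟩
    obtain ⟨j, -, hj⟩ := (Nat.dvd_prime_pow (Fact.out : s.Prime)).1
      (orderOf_dvd_of_pow_eq_one (congrArg Subtype.val hi))
    rw [hj, Nat.cast_pow]
    exact pow_ne_zero _ hsK
  have habel : ∀ A : Subgroup G, IsPGroup s A → y ∈ Subgroup.normalizer (A : Set G) →
      (∀ a ∈ A, ∀ b ∈ A, Commute a b) → ∀ a ∈ A, Commute z a := by
    intro A hA hyA hcomm a ha
    have hza : z * a * z⁻¹ ∈ A := hz ▸ (Subgroup.mem_normalizer_iff.1 (pow_mem hyA _) a).1 ha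
    have he : z * a * z⁻¹ * a⁻¹ ∈ A := mul_mem hza (inv_mem ha)
    have h1 : ρ (z * a * z⁻¹ * a⁻¹) = 1 := by
      refine eq_one_of_weights ρ A (fun u hu v hv => (hcomm u hu v hv).map ρ) _ he (hords hA he)
        fun χ hχ => ?_
      obtain ⟨w, hw, hw0⟩ := Submodule.exists_mem_ne_zero_of_ne_bot hχ
      have h2 := (plane_weights ρ A y hyA hm hym hrank χ hχ).1 _ hza
      rw [← hz, show z⁻¹ * (z * a * z⁻¹) * z = a by group] at h2
      have h3 : ρ (z * a * z⁻¹ * a⁻¹) w = w := by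
        rw [map_mul, Module.End.mul_apply, mem_wt.1 hw _ (inv_mem ha), map_smul, mem_wt.1 hw _ hza,
          ← h2, smul_smul]
        have h4 : ρ (a⁻¹ * a) w = w := by rw [inv_mul_cancel, map_one, Module.End.one_apply]
        rw [map_mul, Module.End.mul_apply, mem_wt.1 hw a ha, map_smul, mem_wt.1 hw _ (inv_mem ha),
          smul_smul, mul_comm] at h4
        exact h4
      rw [mem_wt.1 hw _ he] at h3
      exact smul_left_injective K hw0 (h3.trans (one_smul K w).symm)
    exact mul_inv_eq_iff_eq_mul.1 (mul_inv_eq_one.1 (hρ (h1.trans (map_one ρ).symm)))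
  intro P
  induction P using WellFoundedLT.induction with
  | _ P ih =>
  intro hP hyP
  by_contra hall
  have hAB : Subgroup.zpowers z ≤ Subgroup.zpowers y :=
    Subgroup.zpowers_le.2 (hz ▸ pow_mem (Subgroup.mem_zpowers y) _)
  have hAn : Subgroup.zpowers y ≤ Subgroup.normalizer (Subgroup.zpowers z : Set G) := by
    refine le_trans ?_ (Subgroup.centralizer_le_normalizer _)
    rw [Subgroup.zpowers_le, Subgroup.mem_centralizer_iff]
    intro h hh
    obtain ⟨t, rfl⟩ := hh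
    exact (((hz ▸ Commute.pow_self y _ : Commute z y)).zpow_left t).eq
  have hAp : (Nat.card (Subgroup.zpowers z)).Coprime s := by
    rw [Nat.card_zpowers]
    exact ((Nat.coprime_primes Nat.prime_two Fact.out).2 (Ne.symm hs2)).coprime_dvd_left
      (orderOf_dvd_of_pow_eq_one hz2)
  have hnt : ⁅P, Subgroup.zpowers z⁆ ≠ ⊥ := fun h => hall fun x hx =>
    (commutatorElement_eq_one_iff_commute.1 (Subgroup.mem_bot.1
      (h ▸ Subgroup.commutator_mem_commutator hx (Subgroup.mem_zpowers z)))).symm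
  have hmin : ∀ U : Subgroup G, U < P → Subgroup.zpowers y ≤ Subgroup.normalizer (U : Set G) →
      ⁅U, Subgroup.zpowers z⁆ = ⊥ := by
    intro U hU hyU
    rw [Subgroup.commutator_eq_bot_iff_le_centralizer]
    intro x hx
    rw [Subgroup.mem_centralizer_iff]
    intro h hh
    obtain ⟨t, rfl⟩ := hh
    exact ((ih U hU (hP.to_le hU.le) (Subgroup.zpowers_le.1 hyU) x hx).zpow_left t).eq
  obtain ⟨-, hspec, hirrP, -⟩ := Cfsg.Agent.S3736.result (Subgroup.zpowers y) (Subgroup.zpowers z) P hP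
    (Subgroup.zpowers_le.2 hyP) hAB hAn hAp hnt hmin
  rcases hspec with hel | ⟨-, hfr, hder⟩
  · exact hall (habel P hP hyP fun a ha b hb => congrArg Subtype.val (hel.1.is_comm.comm ⟨a, ha⟩ ⟨b, hb⟩))
  -- the centre
  obtain ⟨Zp, hZp⟩ : ∃ Zp, Zp = P ⊓ Subgroup.centralizer (P : Set G) := ⟨_, rfl⟩
  have hZmem : ∀ a, a ∈ Zp ↔ a ∈ P ∧ ∀ b ∈ P, Commute a b := fun a => by
    rw [hZp, Subgroup.mem_inf, Subgroup.mem_centralizer_iff]
    exact and_congr_right fun _ => ⟨fun h b hb => (h b hb).symm, fun h b hb => (h b hb).symm⟩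
  have hZmap : (Subgroup.center P).map P.subtype = Zp := by
    ext a
    rw [hZmem]
    constructor
    · rintro ⟨c, hc, rfl⟩
      exact ⟨c.2, fun b hb => (congrArg Subtype.val (Subgroup.mem_center_iff.1 hc ⟨b, hb⟩)).symm⟩
    · rintro ⟨ha, h⟩
      exact ⟨⟨a, ha⟩, Subgroup.mem_center_iff.2 fun b => Subtype.ext (h b b.2).eq.symm, rfl⟩
  have hΦ : (frattini P).map P.subtype = Zp := by rw [hfr, hZmap]
  have hcl : ∀ a ∈ P, ∀ b ∈ P, ⁅a, b⁆ ∈ Zp := fun a ha b hb => by
    rw [← hZmap, ← hder]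
    exact ⟨⁅(⟨a, ha⟩ : P), ⟨b, hb⟩⁆, Subgroup.commutator_mem_commutator (Subgroup.mem_top _)
      (Subgroup.mem_top _), map_commutatorElement P.subtype _ _⟩
  have hZP : Zp ≤ P := fun a ha => ((hZmem a).1 ha).1
  have hZne : Zp ≠ P := fun h => hall (habel P hP hyP fun a ha b hb => ((hZmem a).1 (h ▸ ha)).2 b hb)
  have hnorm : ∀ g ∈ Subgroup.normalizer (P : Set G), g ∈ Subgroup.normalizer (Zp : Set G) := by
    intro g hg
    refine Subgroup.mem_normalizer_fintype fun a ha => ?_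
    obtain ⟨haP, hac⟩ := (hZmem a).1 ha
    refine (hZmem _).2 ⟨(Subgroup.mem_normalizer_iff.1 hg a).1 haP, fun b hb => ?_⟩
    have hb' : g⁻¹ * b * g ∈ P := by
      simpa using (Subgroup.mem_normalizer_iff.1 (inv_mem hg) b).1 hb
    have h1 := (hac _ hb').map (MulAut.conj g).toMonoidHom
    simpa [mul_assoc] using h1
  have hyZ := hnorm y hyP
  have hzZ : ∀ a ∈ Zp, Commute z a := ih Zp (lt_of_le_of_ne hZP hZne) (hP.to_le hZP) hyZ
  have hzP : ∀ a ∈ P, z * a * z⁻¹ ∈ P := fun a ha =>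
    hz ▸ (Subgroup.mem_normalizer_iff.1 (pow_mem hyP _) a).1 ha
  have hirr' : ∀ V : Subgroup G, Zp ≤ V → V ≤ P → y ∈ Subgroup.normalizer (V : Set G) → V = Zp ∨ V = P :=
    fun V h1 h2 h3 => hΦ ▸ hirrP V (hΦ.le.trans h1) h2 (Subgroup.zpowers_le.2 h3)
  -- no element outside the centre is fixed modulo the centre
  have hfixZ : ∀ a ∈ P, z * a * z⁻¹ * a⁻¹ ∈ Zp → a ∈ Zp := by
    obtain ⟨F, hF⟩ : ∃ F : Subgroup G, ∀ a, a ∈ F ↔ a ∈ P ∧ z * a * z⁻¹ * a⁻¹ ∈ Zp := by
      refine ⟨{ carrier := {a | a ∈ P ∧ z * a * z⁻¹ * a⁻¹ ∈ Zp}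
                one_mem' := ⟨one_mem _, by simp⟩
                mul_mem' := fun {a b} ha hb => ⟨mul_mem ha.1 hb.1, by
                  have h1 := ((hZmem _).1 hb.2).2 _ (hzP a ha.1)
                  rw [show z * (a * b) * z⁻¹ * (a * b)⁻¹ =
                    (z * a * z⁻¹) * (z * b * z⁻¹ * b⁻¹) * a⁻¹ by group, ← h1.eq, mul_assoc]
                  exact mul_mem hb.2 ha.2⟩
                inv_mem' := fun {a} ha => ⟨inv_mem ha.1, by
                  have h1 := ((hZmem _).1 (inv_mem ha.2)).2 _ (inv_mem ha.1)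
                  rw [show z * a⁻¹ * z⁻¹ * a⁻¹⁻¹ = a⁻¹ * (z * a * z⁻¹ * a⁻¹)⁻¹ * a⁻¹⁻¹ by group, ← h1.eq,
                    mul_inv_cancel_right]
                  exact inv_mem ha.2⟩ }, fun a => Iff.rfl⟩
    have hyF : y ∈ Subgroup.normalizer (F : Set G) := by
      refine Subgroup.mem_normalizer_fintype fun a ha => ?_
      obtain ⟨haP, hae⟩ := (hF a).1 ha
      refine (hF _).2 ⟨(Subgroup.mem_normalizer_iff.1 hyP a).1 haP, ?_⟩
      have hzy : Commute z y := hz ▸ Commute.pow_self y _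
      have e : z * (y * a * y⁻¹) * z⁻¹ * (y * a * y⁻¹)⁻¹ = y * (z * a * z⁻¹ * a⁻¹) * y⁻¹ := by
        calc _ = (z * y) * a * (z * y)⁻¹ * (y * a * y⁻¹)⁻¹ := by group
          _ = (y * z) * a * (y * z)⁻¹ * (y * a * y⁻¹)⁻¹ := by rw [hzy.eq]
          _ = _ := by group
      rw [e]
      exact (Subgroup.mem_normalizer_iff.1 hyZ _).1 hae
    rcases hirr' F (fun a ha => (hF a).2 ⟨hZP ha, by rw [(hzZ a ha).eq]; simp⟩)
        (fun a ha => ((hF a).1 ha).1) hyF with h | h
    · intro a ha hae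
      exact h ▸ (hF a).2 ⟨ha, hae⟩
    · exfalso
      refine hall fun x hx => ?_
      have he := ((hF x).1 (h.symm ▸ hx)).2
      have h1 : z * x * z⁻¹ = x := fix_of_coprime (e := z * x * z⁻¹ * x⁻¹) (by group)
        (mul_inv_eq_iff_eq_mul.2 (hzZ _ he).eq) (by
          obtain ⟨i, hi⟩ := hP ⟨_, hZP he⟩
          exact (((Nat.coprime_primes Nat.prime_two Fact.out).2 (Ne.symm hs2)).pow_right i).coprime_dvd_left
            (orderOf_dvd_of_pow_eq_one hz2) |>.coprime_dvd_right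
            (orderOf_dvd_of_pow_eq_one (congrArg Subtype.val hi)))
      exact mul_inv_eq_iff_eq_mul.1 h1
  -- a weight of the centre which is not trivial
  have hex : ∃ χ : G → K, wt ρ Zp χ ≠ ⊥ ∧ ∃ a ∈ P, ∃ b ∈ P, χ ⁅a, b⁆ ≠ 1 := by
    obtain ⟨a, ha, b, hb, hab⟩ : ∃ a ∈ P, ∃ b ∈ P, ¬ Commute a b := by
      by_contra h
      push Not at h
      exact hall (habel P hP hyP h)
    by_contra hcon
    push Not at hcon
    refine hab (commutatorElement_eq_one_iff_commute.1 (hρ ((eq_one_of_weights ρ Zp ?_ _ (hcl a ha b hb)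
      (hords hP (hZP (hcl a ha b hb))) fun χ hχ => hcon χ hχ a ha b hb).trans (map_one ρ).symm)))
    exact fun u hu v hv => (((hZmem u).1 hu).2 v (hZP hv)).map ρ
  obtain ⟨χ, hχ, a₁, ha₁, b₁, hb₁, hχ1⟩ := hex
  obtain ⟨W1, hW1⟩ : ∃ W1, W1 = wt ρ Zp χ := ⟨_, rfl⟩
  rw [← hW1] at hχ
  haveI : Nontrivial W1 := Submodule.nontrivial_iff_ne_bot.2 hχ
  have hW1P : ∀ a : P, ∀ w ∈ W1, (ρ.comp P.subtype) a w ∈ W1 := by
    intro a w hw
    rw [hW1, mem_wt] at hw ⊢
    intro c hc
    show ρ c (ρ (a : G) w) = χ c • ρ (a : G) w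
    rw [← Module.End.mul_apply, ((((hZmem c).1 hc).2 a a.2).map ρ).eq, Module.End.mul_apply, hw c hc,
      map_smul]
  -- a commutator acting by a scalar different from one forbids scalar factors
  have hcval : ∀ a ∈ P, ∀ b ∈ P, ∀ w ∈ W1, ρ ⁅a, b⁆ w = χ ⁅a, b⁆ • w := fun a ha b hb w hw => by
    rw [hW1, mem_wt] at hw
    exact hw _ (hcl a ha b hb)
  have hscal : ∀ (w : W), w ≠ 0 → w ∈ W1 → ∀ a ∈ P, ∀ b ∈ P, ρ a (ρ b w) = ρ b (ρ a w) →
      χ ⁅a, b⁆ = 1 := by
    intro w hw hw1 a ha b hb hab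
    have h1 : ρ ⁅a, b⁆ (ρ b (ρ a w)) = ρ a (ρ b w) := by
      simp only [← Module.End.mul_apply, ← map_mul, commutatorElement_def]
      congr 2
      group
    have hmem : ρ b (ρ a w) ∈ W1 := hW1P ⟨b, hb⟩ _ (hW1P ⟨a, ha⟩ w hw1)
    rw [hab, hcval a ha b hb _ hmem] at h1
    have hne : ρ b (ρ a w) ≠ 0 := fun h0 =>
      hw (rep_injective ρ a (rep_injective ρ b (h0.trans (by simp))))
    exact smul_left_injective K hne (h1.trans (one_smul K _).symm)
  have hbig : ∀ (U : Submodule K W1), (∀ a : P, ∀ u ∈ U, subRep (ρ.comp P.subtype) W1 hW1P a u ∈ U) →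
      (∀ hU, IsSimpleRep (subRep (subRep (ρ.comp P.subtype) W1 hW1P) U hU)) →
      3 ≤ Module.finrank K U := by
    intro U hU hsimp
    have hs := hsimp hU
    haveI := hs.1
    obtain ⟨b, hb⟩ := ThmB.finrank_eq_pow (K := K) (Nat.card P) _ rfl hP hs
    rcases Nat.eq_zero_or_pos b with rfl | hb0
    · exfalso
      rw [pow_zero] at hb
      obtain ⟨u, hu⟩ := exists_ne (0 : U)
      refine hχ1 (hscal (((u : U) : W1) : W) (fun h => hu (Subtype.ext (Subtype.ext h)))
        ((u : U) : W1).2 _ ha₁ _ hb₁ ?_)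
      have hsc : ∀ f : Module.End K U, ∃ c : K, f u = c • u := fun f => by
        obtain ⟨c, hc⟩ := exists_smul_eq_of_finrank_eq_one hb hu (f u)
        exact ⟨c, hc.symm⟩
      obtain ⟨c₁, hc₁⟩ := hsc (subRep (subRep (ρ.comp P.subtype) W1 hW1P) U hU ⟨a₁, ha₁⟩)
      obtain ⟨c₂, hc₂⟩ := hsc (subRep (subRep (ρ.comp P.subtype) W1 hW1P) U hU ⟨b₁, hb₁⟩)
      have e1 := congrArg (fun w : U => ((w : W1) : W)) hc₁
      have e2 := congrArg (fun w : U => ((w : W1) : W)) hc₂
      simp only [subRep_apply, SetLike.val_smul, MonoidHom.comp_apply, Subgroup.coe_subtype] at e1 e2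
      rw [e1, e2, map_smul, map_smul, e1, e2, smul_comm]
    · rw [hb]
      have : 3 ≤ s := by
        have := (Fact.out : s.Prime).two_le
        omega
      exact this.trans (Nat.le_self_pow (by omega) s)
  have hW1big : 3 ≤ Module.finrank K W1 := by
    obtain ⟨U, hU, hUs⟩ := exists_simple (subRep (ρ.comp P.subtype) W1 hW1P)
    exact (hbig U hU fun _ => hUs).trans (Submodule.finrank_le U)
  have hyχ : ∀ a ∈ Zp, χ (y⁻¹ * a * y) = χ a :=
    (plane_weights ρ Zp y hyZ hm hym hrank χ (hW1 ▸ hχ)).2 (hW1 ▸ hW1big)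
  -- the group generated by `P` and `y`
  obtain ⟨G0, hG0⟩ : ∃ G0, G0 = P ⊔ Subgroup.zpowers y := ⟨_, rfl⟩
  have hPG0 : P ≤ G0 := hG0 ▸ le_sup_left
  obtain ⟨y0, hy0⟩ : ∃ y0 : G0, (y0 : G) = y :=
    ⟨⟨y, hG0 ▸ Subgroup.mem_sup_right (Subgroup.mem_zpowers y)⟩, rfl⟩
  have hW1G0 : ∀ a : G0, ∀ w ∈ W1, (ρ.comp G0.subtype) a w ∈ W1 := by
    obtain ⟨St, hSt⟩ := ThmB.exists_stab ρ W1
    intro a
    refine (hSt (a : G)).1 ?_
    have hle : G0 ≤ St := by
      rw [hG0]
      refine sup_le (fun b hb => (hSt b).2 (hW1P ⟨b, hb⟩)) (Subgroup.zpowers_le.2 ((hSt y).2 ?_))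
      intro w hw
      rw [hW1] at hw ⊢
      have h1 := map_wt hyZ hw
      rw [mem_wt] at h1 ⊢
      intro c hc
      rw [h1 c hc, hyχ c hc]
    exact hle a.2
  obtain ⟨ρ1, hρ1⟩ : ∃ ρ1 : G0 →* Module.End K W1, ρ1 = subRep (ρ.comp G0.subtype) W1 hW1G0 := ⟨_, rfl⟩
  have hρ1a : ∀ (a : G0) (w : W1), ((ρ1 a w : W1) : W) = ρ (a : G) w := fun a w => by rw [hρ1]; rfl
  obtain ⟨U, hU, hUs⟩ := exists_simple ρ1
  haveI := hUs.1
  obtain ⟨σ, hσ⟩ : ∃ σ : G0 →* Module.End K U, σ = subRep ρ1 U hU := ⟨_, rfl⟩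
  rw [← hσ] at hUs
  have hσa : ∀ (a : G0) (u : U), (((σ a u : U) : W1) : W) = ρ (a : G) ((u : W1) : W) := fun a u => by
    rw [hσ, subRep_apply, hρ1a]
  obtain ⟨P0, hP0⟩ : ∃ P0, P0 = P.subgroupOf G0 := ⟨_, rfl⟩
  have hP0mem : ∀ a : G0, a ∈ P0 ↔ (a : G) ∈ P := fun a => by rw [hP0, Subgroup.mem_subgroupOf]
  haveI hP0n : P0.Normal := hP0 ▸ Subgroup.normal_subgroupOf_of_le_normalizer (by
    rw [hG0]; exact sup_le Subgroup.le_normalizer (Subgroup.zpowers_le.2 hyP))
  have hP0p : IsPGroup s P0 := hP0 ▸ hP.comap_subtype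
  -- scalar elements are central
  have hscU : ∀ a : G0, (a : G) ∈ P → (∀ b : G0, (b : G) ∈ P → Commute (σ a) (σ b)) → (a : G) ∈ Zp := by
    intro a ha hcom
    obtain ⟨V, hV⟩ : ∃ V : Subgroup G, ∀ c, c ∈ V ↔ c ∈ P ∧ ∀ b ∈ P, χ ⁅c, b⁆ = 1 := by
      obtain ⟨w, hw, hw0⟩ := Submodule.exists_mem_ne_zero_of_ne_bot hχ
      have hiff : ∀ c ∈ P, ∀ b ∈ P, χ ⁅c, b⁆ = 1 ↔ ρ ⁅c, b⁆ w = w := fun c hc b hb => by
        rw [hcval c hc b hb w hw]
        exact ⟨fun h => by rw [h, one_smul], fun h => smul_left_injective K hw0 (h.trans (one_smul K w).symm)⟩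
      refine ⟨{ carrier := {c | c ∈ P ∧ ∀ b ∈ P, χ ⁅c, b⁆ = 1}
                one_mem' := ⟨one_mem _, fun b hb => (hiff 1 (one_mem _) b hb).2 (by
                  rw [commutatorElement_one_left, map_one, Module.End.one_apply])⟩
                mul_mem' := fun {c c'} hc hc' => ⟨mul_mem hc.1 hc'.1, fun b hb =>
                  (hiff _ (mul_mem hc.1 hc'.1) b hb).2 (by
                    have e : ⁅c * c', b⁆ = ⁅c', b⁆ * ⁅c, b⁆ := by
                      rw [show ⁅c * c', b⁆ = c * ⁅c', b⁆ * c⁻¹ * ⁅c, b⁆ by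
                        simp only [commutatorElement_def]; group,
                        ← (((hZmem _).1 (hcl c' hc'.1 b hb)).2 c hc.1).eq, mul_inv_cancel_right]
                    rw [e, map_mul, Module.End.mul_apply, (hiff c hc.1 b hb).1 (hc.2 b hb),
                      (hiff c' hc'.1 b hb).1 (hc'.2 b hb)])⟩
                inv_mem' := fun {c} hc => ⟨inv_mem hc.1, fun b hb =>
                  (hiff _ (inv_mem hc.1) b hb).2 (by
                    have e : ⁅c⁻¹, b⁆ = ⁅c, b⁆⁻¹ := by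
                      rw [show ⁅c⁻¹, b⁆ = c⁻¹ * ⁅c, b⁆⁻¹ * c⁻¹⁻¹ by simp only [commutatorElement_def]; group,
                        ← (((hZmem _).1 (inv_mem (hcl c hc.1 b hb))).2 _ (inv_mem hc.1)).eq,
                        mul_inv_cancel_right]
                    rw [e]
                    conv_lhs => rw [← (hiff c hc.1 b hb).1 (hc.2 b hb)]
                    exact rep_inv_apply ρ _ _)⟩ }, fun c => Iff.rfl⟩
    have hyV : y ∈ Subgroup.normalizer (V : Set G) := by
      refine Subgroup.mem_normalizer_fintype fun c hc => ?_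
      obtain ⟨hcP, hc1⟩ := (hV c).1 hc
      have hin := Subgroup.mem_normalizer_iff.1 hyP
      refine (hV _).2 ⟨(hin c).1 hcP, fun b hb => ?_⟩
      have hb' : y⁻¹ * b * y ∈ P := by
        simpa using (Subgroup.mem_normalizer_iff.1 (inv_mem hyP) b).1 hb
      rw [← hyχ _ (hcl _ ((hin c).1 hcP) b hb),
        show y⁻¹ * ⁅y * c * y⁻¹, b⁆ * y = ⁅c, y⁻¹ * b * y⁆ by simp only [commutatorElement_def]; group]
      exact hc1 _ hb'
    have hZV : Zp ≤ V := fun c hc => (hV c).2 ⟨hZP hc, fun b hb => by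
      obtain ⟨w, hw, hw0⟩ := Submodule.exists_mem_ne_zero_of_ne_bot hχ
      refine smul_left_injective K hw0 (Eq.trans ?_ (one_smul K w).symm)
      show χ ⁅c, b⁆ • w = w
      rw [← hcval c (hZP hc) b hb w hw,
        commutatorElement_eq_one_iff_commute.2 (((hZmem c).1 hc).2 b hb), map_one, Module.End.one_apply]⟩
    have haV : (a : G) ∈ V := by
      refine (hV _).2 ⟨ha, fun b hb => ?_⟩
      obtain ⟨u, hu⟩ := exists_ne (0 : U)
      refine hscal (((u : U) : W1) : W) (fun h => hu (Subtype.ext (Subtype.ext h))) ((u : U) : W1).2 _ ha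
        _ hb ?_
      have h1 := congrArg (fun w : U => ((w : W1) : W))
        (LinearMap.congr_fun (hcom ⟨b, hPG0 hb⟩ hb).eq u)
      simp only [Module.End.mul_apply, hσa] at h1
      exact h1
    rcases hirr' V hZV (fun c hc => ((hV c).1 hc).1) hyV with h | h
    · exact h ▸ haV
    · exact absurd (((hV a₁).1 (h.symm ▸ ha₁)).2 b₁ hb₁) hχ1
  have hirr : ∀ X : Submodule K U, (∀ a ∈ P0, ∀ u ∈ X, σ a u ∈ X) → (∀ u ∈ X, σ y0 u ∈ X) →
      X = ⊥ ∨ X = ⊤ := by
    intro X hXP hXy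
    obtain ⟨St, hSt⟩ := ThmB.exists_stab σ X
    refine hUs.2 X fun a => (hSt a).1 ?_
    have hle : G0 ≤ St.map G0.subtype := by
      conv_lhs => rw [hG0]
      refine sup_le (fun b hb => ⟨⟨b, hPG0 hb⟩, (hSt _).2 (hXP _ ((hP0mem _).2 hb)), rfl⟩) ?_
      rw [Subgroup.zpowers_le]
      exact ⟨y0, (hSt _).2 hXy, hy0⟩
    obtain ⟨a', ha', he⟩ := hle a.2
    rwa [← Subtype.ext he]
  have hZsc : ∀ a : G0, (a : G) ∈ Zp → σ a = χ a • 1 := fun a ha => LinearMap.ext fun u =>
    Subtype.ext (Subtype.ext (by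
      rw [hσa, mem_wt.1 (show ((u : W1) : W) ∈ wt ρ Zp χ from hW1.le (u : W1).2) _ ha]
      rfl))
  have hy0n : y0 ^ 2 ^ m = 1 := Subtype.ext (by
    rw [SubmonoidClass.coe_pow, hy0, hym, OneMemClass.coe_one])
  have hT : σ y0 ^ 2 ^ m = 1 := by rw [← map_pow, hy0n, map_one]
  have hsimple : IsSimpleRep (σ.comp P0.subtype) := by
    refine ThmB.simple_of_homogeneous (p := q) hsq P0 hP0p ?_ y0
      (by rw [Subgroup.normalizer_eq_top]; exact Subgroup.mem_top _) σ hirr (Nat.two_pow_pos m) hT ?_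
    · intro a ha b hb c hc
      refine Subtype.ext ?_
      show ((⁅a, b⁆ : G0) : G) * c = c * ((⁅a, b⁆ : G0) : G)
      rw [show ((⁅a, b⁆ : G0) : G) = ⁅(a : G), (b : G)⁆ from map_commutatorElement G0.subtype a b]
      exact (((hZmem _).1 (hcl _ ((hP0mem a).1 ha) _ ((hP0mem b).1 hb))).2 c ((hP0mem c).1 hc)).eq
    · intro a ha hcom
      exact ⟨_, hZsc a (hscU a ((hP0mem a).1 ha) fun b hb => hcom b ((hP0mem b).2 hb))⟩
  obtain ⟨α, hα⟩ : ∃ α : MulAut P0, ∀ a, ((α a : P0) : G0) = y0 * a * y0⁻¹ :=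
    ⟨MulAut.conjNormal y0, fun a => MulAut.conjNormal_apply y0 a⟩
  have hαi : ∀ (i : ℕ) (a : P0), (((α ^ i) a : P0) : G0) = y0 ^ i * a * (y0 ^ i)⁻¹ := by
    intro i
    induction i with
    | zero => simp
    | succ i ih => intro a; rw [pow_succ', MulAut.mul_apply, hα, ih, pow_succ']; group
  obtain ⟨R0, hR0⟩ : ∃ R0, R0 = (Zp.subgroupOf G0).subgroupOf P0 := ⟨_, rfl⟩
  have hR0mem : ∀ a : P0, a ∈ R0 ↔ ((a : G0) : G) ∈ Zp := fun a => by
    rw [hR0, Subgroup.mem_subgroupOf, Subgroup.mem_subgroupOf]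
  have hR0sc : ∀ a : P0, a ∈ R0 ↔ ∃ c : K, (σ.comp P0.subtype) a = c • 1 := fun a => by
    rw [hR0mem]
    refine ⟨fun h => ⟨_, hZsc _ h⟩, fun ⟨c, hc⟩ => hscU _ ((hP0mem _).1 a.2) fun b _ => ?_⟩
    rw [show σ (a : G0) = c • 1 from hc]
    exact (Commute.one_left _).smul_left c
  have hfree : ∀ (a : P0) (i : ℕ), 0 < i → i < 2 ^ m → a⁻¹ * (α ^ i) a ∈ R0 → a ∈ R0 := by
    intro a i hi hi' hfix
    rw [hR0mem] at hfix ⊢
    rw [Subgroup.coe_mul, Subgroup.coe_mul, InvMemClass.coe_inv, InvMemClass.coe_inv, hαi,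
      Subgroup.coe_mul, Subgroup.coe_mul, InvMemClass.coe_inv, SubmonoidClass.coe_pow, hy0] at hfix
    obtain ⟨x, hx⟩ : ∃ x, x = ((a : G0) : G) := ⟨_, rfl⟩
    have hxP : x ∈ P := hx ▸ (hP0mem _).1 a.2
    rw [← hx] at hfix ⊢
    have hpw : ∀ t : ℕ, x⁻¹ * ((y ^ i) ^ t * x * ((y ^ i) ^ t)⁻¹) ∈ Zp := by
      intro t
      induction t with
      | zero => simp
      | succ t ih =>
        have e : x⁻¹ * ((y ^ i) ^ (t + 1) * x * ((y ^ i) ^ (t + 1))⁻¹) =
            (x⁻¹ * (y ^ i * x * (y ^ i)⁻¹)) *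
              (y ^ i * (x⁻¹ * ((y ^ i) ^ t * x * ((y ^ i) ^ t)⁻¹)) * (y ^ i)⁻¹) := by
          rw [pow_succ']; group
        rw [e]
        exact mul_mem hfix ((Subgroup.mem_normalizer_iff.1 (pow_mem hyZ i) _).1 ih)
    obtain ⟨v, hv, hgcd⟩ := (Nat.dvd_prime_pow Nat.prime_two).1 (Nat.gcd_dvd_right i (2 ^ m))
    have hvm : v ≤ m - 1 := by
      by_contra hlt
      have : v = m := by omega
      rw [this] at hgcd
      have := Nat.le_of_dvd hi (hgcd ▸ Nat.gcd_dvd_left i (2 ^ m))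
      omega
    obtain ⟨t, ht⟩ : ∃ t, (y ^ i) ^ t = y ^ 2 ^ v := by
      obtain ⟨t, -, ht⟩ := Nat.exists_mul_mod_eq_gcd (n := i) (k := 2 ^ m)
        (lt_of_le_of_lt (Nat.gcd_le_left _ hi) hi')
      refine ⟨t, ?_⟩
      rw [← pow_mul, ← hgcd, ← ht]
      conv_lhs => rw [← Nat.mod_add_div (i * t) (2 ^ m), pow_add, pow_mul, hym, one_pow, mul_one]
    have hzfix := hpw (t * 2 ^ (m - 1 - v))
    rw [pow_mul, ht, ← pow_mul, ← pow_add, Nat.add_sub_cancel' hvm, ← hz] at hzfix
    refine hfixZ x hxP ?_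
    rw [show z * x * z⁻¹ * x⁻¹ = x * (x⁻¹ * (z * x * z⁻¹)) * x⁻¹ by group,
      ← (((hZmem _).1 hzfix).2 x hxP).eq, mul_inv_cancel_right]
    exact hzfix
  have hcomm0 : ∀ a b : P0, ⁅a, b⁆ ∈ R0 := fun a b => (hR0mem _).2 (by
    rw [show (((⁅a, b⁆ : P0) : G0) : G) = ⁅((a : G0) : G), ((b : G0) : G)⁆ from
      map_commutatorElement (G0.subtype.comp P0.subtype) a b]
    exact hcl _ ((hP0mem _).1 a.2) _ ((hP0mem _).1 b.2))
  have h2K : (2 : K) ≠ 0 := fun h => by
    rw [← Nat.cast_two, CharP.cast_eq_zero_iff K q] at h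
    have := (Nat.prime_dvd_prime_iff_eq Fact.out Nat.prime_two).1 h
    have h4 : 4 ≤ 2 ^ m := le_trans (by norm_num) (Nat.pow_le_pow_right (show 0 < 2 by norm_num) hm)
    omega
  obtain ⟨bs, μ, hμ⟩ := FPFOp.exists_eigenbasis (σ y0) (P := 2 ^ m)
    (by rw [Nat.cast_pow, Nat.cast_two]; exact pow_ne_zero _ h2K) hT
  obtain ⟨o, hcount, -, hSo⟩ := count hP0p hsK (σ.comp P0.subtype) hsimple α (2 ^ m) (Nat.two_pow_pos m)
    (σ y0) hT (fun a => by
      show σ y0 * σ (a : G0) = σ ((α a : P0) : G0) * σ y0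
      rw [hα, ← map_mul, ← map_mul, inv_mul_cancel_right]) R0 hR0sc hcomm0 hfree bs μ hμ
  obtain ⟨D, hD⟩ : ∃ D, D = Module.finrank K U := ⟨_, rfl⟩
  rw [← hD] at hcount
  obtain ⟨b, hb⟩ := ThmB.finrank_eq_pow (K := K) (Nat.card P0) _ rfl hP0p hsimple
  have hD3 : 3 ≤ D := by
    rw [hD, hb]
    rcases Nat.eq_zero_or_pos b with rfl | hb0
    · exfalso
      rw [pow_zero] at hb
      obtain ⟨u, hu⟩ := exists_ne (0 : U)
      refine hχ1 (hscal (((u : U) : W1) : W) (fun h => hu (Subtype.ext (Subtype.ext h)))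
        ((u : U) : W1).2 _ ha₁ _ hb₁ ?_)
      obtain ⟨c₁, hc₁⟩ := exists_smul_eq_of_finrank_eq_one hb hu (σ ⟨a₁, hPG0 ha₁⟩ u)
      obtain ⟨c₂, hc₂⟩ := exists_smul_eq_of_finrank_eq_one hb hu (σ ⟨b₁, hPG0 hb₁⟩ u)
      have e1 := congrArg (fun w : U => ((w : W1) : W)) hc₁
      have e2 := congrArg (fun w : U => ((w : W1) : W)) hc₂
      simp only [SetLike.val_smul, hσa] at e1 e2
      rw [← e1, ← e2, map_smul, map_smul, ← e1, ← e2, smul_comm]
    · have : 3 ≤ s := by
        have := (Fact.out : s.Prime).two_le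
        omega
      exact this.trans (Nat.le_self_pow (by omega) s)
  -- the eigenvalue one is frequent
  obtain ⟨J, hJ⟩ : ∃ J, J = Finset.univ.filter fun i => μ i = 1 := ⟨_, rfl⟩
  have hJc : D ≤ J.card + 2 := by
    have hli : LinearIndependent K (fun i : {i // μ i ≠ 1} => (bs i : U)) :=
      bs.linearIndependent.comp _ Subtype.val_injective
    have hmem : ∀ i : {i // μ i ≠ 1}, ((bs i : W1) : W) ∈ LinearMap.range (ρ y - 1) := by
      intro i
      refine ⟨(μ i - 1)⁻¹ • ((bs i : W1) : W), ?_⟩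
      have h1 := congrArg (fun w : U => ((w : W1) : W)) (hμ i)
      simp only [hσa, hy0, SetLike.val_smul] at h1
      rw [map_smul, LinearMap.sub_apply, Module.End.one_apply, h1]
      have h2 : μ i • ((bs i : W1) : W) - ((bs i : W1) : W) = (μ i - 1) • ((bs i : W1) : W) := by
        rw [sub_smul, one_smul]
      rw [h2, inv_smul_smul₀ (sub_ne_zero.2 i.2)]
    have hli2 : LinearIndependent K
        (fun i => (⟨_, hmem i⟩ : LinearMap.range (ρ y - 1))) := by
      refine LinearIndependent.of_comp (LinearMap.range (ρ y - 1)).subtype ?_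
      exact hli.map' (W1.subtype.comp U.subtype)
        (LinearMap.ker_eq_bot.2 (Subtype.val_injective.comp Subtype.val_injective))
    have h3 := hli2.fintype_card_le_finrank.trans hrank
    have h4 : Fintype.card {i // μ i ≠ 1} = D - J.card := by
      rw [Fintype.card_subtype_compl, hJ, Fintype.card_subtype, hD]
      exact congrArg (· - _) (Fintype.card_fin _)
    omega
  have hS : (D - 2) * (D - 2) + 2 ≤
      (Finset.univ.filter fun p : Fin (Module.finrank K U) × Fin (Module.finrank K U) => μ p.1 = μ p.2).card := by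
    obtain ⟨J', hJ'⟩ : ∃ J', J' = (Jᶜ : Finset _) := ⟨_, rfl⟩
    have hsub : J ×ˢ J ∪ J'.image (fun i => (i, i)) ⊆
        Finset.univ.filter fun p : Fin (Module.finrank K U) × Fin (Module.finrank K U) => μ p.1 = μ p.2 := by
      intro p hp
      rw [Finset.mem_filter]
      refine ⟨Finset.mem_univ _, ?_⟩
      rcases Finset.mem_union.1 hp with h | h
      · rw [hJ, Finset.mem_product, Finset.mem_filter, Finset.mem_filter] at h
        rw [h.1.2, h.2.2]
      · obtain ⟨i, -, rfl⟩ := Finset.mem_image.1 h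
        rfl
    refine le_trans ?_ (Finset.card_le_card hsub)
    rw [Finset.card_union_of_disjoint, Finset.card_product,
      Finset.card_image_of_injective _ (fun i j h => (Prod.mk.inj h).1), hJ', Finset.card_compl,
      show Fintype.card (Fin (Module.finrank K U)) = D from (Fintype.card_fin _).trans hD.symm]
    · obtain ⟨f, hf⟩ : ∃ f, f = J.card := ⟨_, rfl⟩
      have hfD : f ≤ D := hf.le.trans ((Finset.card_le_univ J).trans
        ((Fintype.card_fin _).trans hD.symm).le)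
      rw [← hf] at hJc ⊢
      obtain ⟨d, hd⟩ : ∃ d, D = d + 3 := ⟨D - 3, by omega⟩
      obtain ⟨j, hj⟩ : ∃ j, f = d + 1 + j := ⟨f - (d + 1), by omega⟩
      subst hd hj
      rw [show d + 3 - 2 = d + 1 by omega]
      have : j ≤ 2 := by omega
      interval_cases j <;> (ring_nf; omega)
    · rw [Finset.disjoint_left]
      intro p hp hp'
      obtain ⟨i, hi, rfl⟩ := Finset.mem_image.1 hp'
      rw [hJ', Finset.mem_compl] at hi
      exact hi (Finset.mem_product.1 hp).1
  have hN4 : 4 ≤ 2 ^ m := le_trans (by norm_num) (Nat.pow_le_pow_right (show 0 < 2 by norm_num) hm)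
  obtain ⟨N, hN⟩ : ∃ N, N = 2 ^ m := ⟨_, rfl⟩
  rw [← hN] at hcount hN4 hqm
  have ho := le_trans hS hSo
  obtain ⟨d, hd⟩ : ∃ d, D = d + 3 := ⟨D - 3, by omega⟩
  subst hd
  rw [show d + 3 - 2 = d + 1 by omega] at ho
  have hd0 : d = 0 := by
    by_contra h
    nlinarith [Nat.pos_of_ne_zero h, Nat.mul_le_mul_right N ho]
  subst hd0
  have hN' : N = 4 := by nlinarith [Nat.mul_le_mul_right N ho]
  have hs3 : s = 3 := by
    rw [hb] at hD
    have h1 : s ∣ 3 := by
      rcases Nat.eq_zero_or_pos b with rfl | hb0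
      · simp at hD
      · have h2 := dvd_pow_self s hb0.ne'
        rwa [← hD, zero_add] at h2
    exact (Nat.prime_dvd_prime_iff_eq Fact.out Nat.prime_three).1 h1
  exact hsq (by omega)

/-- The version for automorphisms of an elementary abelian group. -/
theorem odd_plane {M : Type u} [CommGroup M] [Finite M] {q : ℕ} [Fact q.Prime]
    (hexp : ∀ v : M, v ^ q = 1) {s : ℕ} [Fact s.Prime] (hs2 : s ≠ 2) (hsq : s ≠ q) {m : ℕ} (hm : 2 ≤ m)
    (hqm : q + 1 = 2 ^ m) (γ : MulAut M) (B : Subgroup M) (hB : Block q m γ B)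
    (X : Subgroup (MulAut M)) (hX : IsPGroup s X) (hγ : γ ∈ Subgroup.normalizer (X : Set (MulAut M))) :
    ∀ x ∈ X, Commute (γ ^ 2 ^ (m - 1)) x := by
  classical
  haveI : Finite (MulAut M) :=
    Finite.of_injective (fun e : MulAut M => (e : M → M)) DFunLike.coe_injective
  haveI : CharP (AlgebraicClosure (ZMod q)) q :=
    charP_of_injective_algebraMap (algebraMap (ZMod q) (AlgebraicClosure (ZMod q))).injective q
  obtain ⟨k, ρ, hρ, hrank⟩ := exists_planeRep hexp (AlgebraicClosure (ZMod q))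
  exact odd_plane_rep hs2 hsq hm hqm ρ hρ γ hB.1 (hrank γ B hB.2.1 hB.2.2.1) X hX hγ

end Cfsg.Agent.Solv.Gross
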