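import Cfsg.Agent.Lib.Solv.Gross.Components
import Cfsg.Agent.Lib.Solv.Gross.ExceptionalOdd
import Cfsg.Agent.Lib.Solv.Gross.OddPlane

/-!
The component of a weight for an operator with vanishing orbit sums, and an odd `s`-group normalised
by it.
-/

set_option autoImplicit false
set_option linter.style.haveILetI false

namespace Cfsg.Agent.Solv.Gross

open scoped commutatorElement

universe u v

/-- The data attached to a critical subgroup and a weight. -/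
theorem component_sum {K : Type*} [Field K] [IsAlgClosed K] {r : ℕ} [Fact r.Prime] [CharP K r]
    (hr2 : r ≠ 2) {H : Type u} [Group H] [Finite H] {W : Type v} [AddCommGroup W] [Module K W] [FiniteDimensional K W] (ρ : H →* Module.End K W)
    {q : ℕ} [Fact q.Prime] (hq : q ≠ 2) (hqr : q ≠ r) (C : Subgroup H) [C.Normal] (hC : IsPGroup q C)
    (Zc : Subgroup H) [Zc.Normal] (hZc : ∀ a, a ∈ Zc ↔ a ∈ C ∧ ∀ b ∈ C, Commute a b)
    (hcl : ∀ a ∈ C, ∀ b ∈ C, ⁅a, b⁆ ∈ Zc) (hqpow : ∀ a ∈ C, a ^ q ∈ Zc)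
    (n : ℕ) (hn : 1 ≤ n) {s : ℕ} [Fact s.Prime] (hs2 : s ≠ 2) (hsq : s ≠ q) (y : H)
    (hy : y ^ 2 ^ n = 1) (hsum : ∑ j ∈ Finset.range (2 ^ n), ρ y ^ j = 0) (U : Subgroup H)
    (hU : IsPGroup s U) (hyU : y ∈ Subgroup.normalizer (U : Set H))
    (hUZ : ∀ u ∈ U, ∀ b ∈ Zc, u * b * u⁻¹ = b) (χ : H → K) (hχ : wt ρ Zc χ ≠ ⊥) :
    ∀ u ∈ U, ∀ c ∈ C, ∀ d ∈ C, ∀ w ∈ wt ρ Zc χ,
      ρ ⁅⁅u, y ^ 2 ^ (n - 1)⁆ * c * ⁅u, y ^ 2 ^ (n - 1)⁆⁻¹ * c⁻¹, d⁆ w = w := by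
  classical
  obtain ⟨E, hE⟩ : ∃ E : Subgroup H, ∀ a, a ∈ E ↔ ∀ b ∈ Zc, χ (a⁻¹ * b * a) = χ b := by
    have hmul : ∀ {a a' : H}, (∀ b ∈ Zc, χ (a⁻¹ * b * a) = χ b) →
        (∀ b ∈ Zc, χ (a'⁻¹ * b * a') = χ b) → ∀ b ∈ Zc, χ ((a * a')⁻¹ * b * (a * a')) = χ b := by
      intro a a' ha ha' b hb
      have hb' : a⁻¹ * b * a ∈ Zc := by
        simpa using (inferInstance : Zc.Normal).conj_mem b hb a⁻¹
      rw [show (a * a')⁻¹ * b * (a * a') = a'⁻¹ * (a⁻¹ * b * a) * a' by group, ha' _ hb', ha b hb]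
    exact ⟨{ carrier := {a | ∀ b ∈ Zc, χ (a⁻¹ * b * a) = χ b}
             one_mem' := fun b _ => by simp
             mul_mem' := fun ha ha' => hmul ha ha'
             inv_mem' := fun {a} ha b hb => by
              have hb' : a * b * a⁻¹ ∈ Zc := (inferInstance : Zc.Normal).conj_mem b hb a
              have := ha _ hb'
              rw [show a⁻¹ * (a * b * a⁻¹) * a = b by group] at this
              rw [inv_inv]; exact this.symm }, fun a => Iff.rfl⟩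
  have hCE : C ≤ E := fun a ha => (hE a).2 fun b hb => by
    rw [mul_assoc, (((hZc b).1 hb).2 a ha).eq, inv_mul_cancel_left]
  obtain ⟨W1, hW1⟩ : ∃ W1, W1 = wt ρ Zc χ := ⟨_, rfl⟩
  rw [← hW1] at hχ ⊢
  haveI : Nontrivial W1 := Submodule.nontrivial_iff_ne_bot.2 hχ
  have hW1E : ∀ a : E, ∀ w ∈ W1, (ρ.comp E.subtype) a w ∈ W1 := by
    intro a w hw
    rw [hW1] at hw ⊢
    have h1 := map_wt (show (a : H) ∈ Subgroup.normalizer (Zc : Set H) by
      rw [Subgroup.normalizer_eq_top]; exact Subgroup.mem_top _) hw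
    rw [mem_wt] at h1 ⊢
    intro b hb
    show ρ b (ρ (a : H) w) = _
    rw [h1 b hb, (hE _).1 a.2 b hb]
    rfl
  obtain ⟨σ, hσ⟩ : ∃ σ : E →* Module.End K W1, σ = CRep.subRep (ρ.comp E.subtype) W1 hW1E := ⟨_, rfl⟩
  have hσa : ∀ (a : E) (w : W1), ((σ a w : W1) : W) = ρ (a : H) w := fun a w => by rw [hσ]; rfl
  have hsc : ∀ a : E, (a : H) ∈ Zc → σ a = χ a • 1 := fun a ha => LinearMap.ext fun w => Subtype.ext (by
    rw [hσa, mem_wt.1 (show (w : W) ∈ wt ρ Zc χ from hW1.le w.2) _ ha]; rfl)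
  obtain ⟨CE, hCEdef⟩ : ∃ CE, CE = C.subgroupOf E := ⟨_, rfl⟩
  haveI : CE.Normal := hCEdef ▸ inferInstance
  have hmemCE : ∀ a : E, a ∈ CE ↔ (a : H) ∈ C := fun a => by rw [hCEdef, Subgroup.mem_subgroupOf]
  have hcomm : ∀ a ∈ CE, ∀ b ∈ CE, ∃ c : K, σ ⁅a, b⁆ = c • 1 := fun a ha b hb =>
    ⟨_, hsc _ (by
      rw [show ((⁅a, b⁆ : E) : H) = ⁅(a : H), (b : H)⁆ from map_commutatorElement E.subtype a b]
      exact hcl _ ((hmemCE a).1 ha) _ ((hmemCE b).1 hb))⟩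
  have hpow : ∀ a ∈ CE, ∃ c : K, σ (a ^ q) = c • 1 := fun a ha =>
    ⟨_, hsc _ (by rw [SubmonoidClass.coe_pow]; exact hqpow _ ((hmemCE a).1 ha))⟩
  obtain ⟨S, R, hS, hR⟩ := exists_scalar_central σ CE hcomm
  have hSR : ∀ a ∈ CE, (a : H) ∈ Zc → a ∈ R := fun a ha haZ => (hR a).2 ⟨ha, fun b hb => by
    have h1 : ⁅a, b⁆ = 1 :=
      commutatorElement_eq_one_iff_commute.2 (Subtype.ext (((hZc _).1 haZ).2 b ((hmemCE b).1 hb)).eq)
    rw [h1, map_one]⟩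
  haveI : R.Normal := ⟨fun a ha e => by
    obtain ⟨haC, ha'⟩ := (hR a).1 ha
    refine (hR _).2 ⟨(inferInstance : CE.Normal).conj_mem a haC e, fun b hb => ?_⟩
    have hb' : e⁻¹ * b * e ∈ CE := by simpa using (inferInstance : CE.Normal).conj_mem b hb e⁻¹
    rw [show ⁅e * a * e⁻¹, b⁆ = e * ⁅a, e⁻¹ * b * e⁆ * e⁻¹ by simp only [commutatorElement_def]; group,
      map_mul, map_mul, ha' _ hb', mul_one, ← map_mul, mul_inv_cancel, map_one]⟩
  have hab : ∀ a ∈ CE, ∀ b ∈ CE, ⁅a, b⁆ ∈ R := fun a ha b hb => hSR _ (by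
    rw [commutatorElement_def]; exact mul_mem (mul_mem (mul_mem ha hb) (inv_mem ha)) (inv_mem hb)) (by
      rw [show ((⁅a, b⁆ : E) : H) = ⁅(a : H), (b : H)⁆ from map_commutatorElement E.subtype a b]
      exact hcl _ ((hmemCE a).1 ha) _ ((hmemCE b).1 hb))
  obtain ⟨M, _, _, π, φ, hπ, hker, hφ⟩ := exists_conjAct CE R hab
  have hexp : ∀ v : M, v ^ q = 1 := by
    intro v
    obtain ⟨c, rfl⟩ := hπ v
    rw [← map_pow, ← MonoidHom.mem_ker, hker, Subgroup.mem_subgroupOf, SubmonoidClass.coe_pow]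
    exact hSR _ (pow_mem c.2 q) (by rw [SubmonoidClass.coe_pow]; exact hqpow _ ((hmemCE _).1 c.2))
  have hφ1 : ∀ e : E, φ e = 1 ↔ ∀ c ∈ CE, e * c * e⁻¹ * c⁻¹ ∈ R := by
    intro e
    constructor
    · intro h c hc
      have hc' : e * c * e⁻¹ ∈ CE := (inferInstance : CE.Normal).conj_mem c hc e
      have h1 := hφ e ⟨c, hc⟩ hc'
      rw [h, MulAut.one_apply, eq_comm, ← mul_inv_eq_one, ← map_inv, ← map_mul, ← MonoidHom.mem_ker,
        hker, Subgroup.mem_subgroupOf] at h1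
      exact h1
    · intro h
      refine MulEquiv.ext fun v => ?_
      obtain ⟨c, rfl⟩ := hπ v
      rw [MulAut.one_apply, hφ e c ((inferInstance : CE.Normal).conj_mem c c.2 e), ← mul_inv_eq_one,
        ← map_inv, ← map_mul, ← MonoidHom.mem_ker, hker, Subgroup.mem_subgroupOf]
      exact h c c.2
  have hkey : ∀ e : E, φ e = 1 → ∀ c ∈ C, ∀ d ∈ C, ∀ w ∈ W1,
      ρ ⁅(e : H) * c * (e : H)⁻¹ * c⁻¹, d⁆ w = w := by
    intro u hu c hc d hd w hw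
    have h1 := ((hR _).1 ((hφ1 u).1 hu ⟨c, hCE hc⟩ ((hmemCE _).2 hc))).2
      ⟨d, hCE hd⟩ ((hmemCE _).2 hd)
    have h2 := congrArg Subtype.val (LinearMap.congr_fun h1 ⟨w, hW1 ▸ hw⟩)
    rw [hσa] at h2
    exact h2
  intro u huU
  have huZ := hUZ u huU
  obtain ⟨k, hk, hfix, hdeg'⟩ := period_sum ρ Zc y (by rw [Subgroup.normalizer_eq_top]; exact Subgroup.mem_top _)
    n hy hsum χ (hW1 ▸ hχ)
  have huE : u ∈ E := (hE u).2 fun b hb => by
    rw [show u⁻¹ * b * u = u⁻¹ * (u * b * u⁻¹) * u by rw [huZ b hb]]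
    group
  obtain ⟨u0, hu0⟩ : ∃ u0 : E, (u0 : H) = u := ⟨⟨u, huE⟩, rfl⟩
  obtain ⟨g, hg⟩ : ∃ g : E, (g : H) = y ^ 2 ^ k := ⟨⟨_, (hE _).2 hfix⟩, rfl⟩
  obtain ⟨m, hm⟩ : ∃ m, m = n - k := ⟨_, rfl⟩
  have hgm : g ^ 2 ^ m = 1 := Subtype.ext (by
    rw [SubmonoidClass.coe_pow, hg, ← pow_mul, ← pow_add, hm, Nat.add_sub_cancel' hk.le, hy,
      OneMemClass.coe_one])
  have hgz : (g : H) ^ 2 ^ (m - 1) = y ^ 2 ^ (n - 1) := by
    rw [hg, ← pow_mul, ← pow_add, hm, show k + (n - k - 1) = n - 1 by omega]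
  have hsumσ : ∑ j ∈ Finset.range (2 ^ m), σ g ^ j = 0 := LinearMap.ext fun w => Subtype.ext (by
    rw [LinearMap.sum_apply, LinearMap.zero_apply, ZeroMemClass.coe_zero, AddSubmonoidClass.coe_finsetSum]
    have h1 := hdeg' (w : W) (hW1 ▸ w.2)
    rw [LinearMap.sum_apply] at h1
    rw [← h1, hm]
    refine Finset.sum_congr rfl fun i _ => ?_
    rw [← map_pow, ← map_pow, hσa, SubmonoidClass.coe_pow, hg])
  obtain ⟨z, hz⟩ : ∃ z : E, z = g ^ 2 ^ (m - 1) := ⟨_, rfl⟩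
  have hzH : (z : H) = y ^ 2 ^ (n - 1) := by rw [hz, SubmonoidClass.coe_pow, hgz]
  have hfinish : φ ⁅u0, z⁆ = 1 → ∀ c ∈ C, ∀ d ∈ C, ∀ w ∈ W1,
      ρ ⁅⁅u, y ^ 2 ^ (n - 1)⁆ * c * ⁅u, y ^ 2 ^ (n - 1)⁆⁻¹ * c⁻¹, d⁆ w = w := by
    intro h
    have h2 : ((⁅u0, z⁆ : E) : H) = ⁅u, y ^ 2 ^ (n - 1)⁆ := by
      rw [← hu0, ← hzH]; exact map_commutatorElement E.subtype u0 z
    rw [← h2]
    exact hkey _ h
  have hCEp : IsPGroup q CE := hCEdef ▸ hC.comap_subtype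
  rcases exceptional_sum hq hr2 hqr CE hCEp σ g (by rw [Subgroup.normalizer_eq_top]; exact Subgroup.mem_top _)
      hcomm hpow m hgm hsumσ R hR with h | ⟨hm2, hqm, Q, hQC, hQcard, hQmove, hQinv⟩
  · refine hfinish ?_
    rw [map_commutatorElement, commutatorElement_eq_one_iff_commute,
      (hφ1 z).2 (by rw [hz]; exact h)]
    exact Commute.one_right _
  obtain ⟨B, hB⟩ : ∃ B : Subgroup M, B = (Q.subgroupOf CE).map π := ⟨_, rfl⟩
  have hblock : Block q m (φ g) B := by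
    refine ⟨by rw [← map_pow, hgm, map_one], ?_, fun v => ?_, ?_⟩
    · rw [hB, ← Subgroup.relIndex_ker, hker]
      rw [show (R.subgroupOf CE).relIndex (Q.subgroupOf CE) = R.relIndex Q from
        Subgroup.relIndex_subgroupOf hQC]
      exact hQcard
    · obtain ⟨c, rfl⟩ := hπ v
      have hc' : g * c * g⁻¹ ∈ CE := (inferInstance : CE.Normal).conj_mem c c.2 g
      rw [hφ g c hc', ← map_inv, ← map_mul, hB]
      obtain ⟨a, ha, r, hr, he⟩ := Subgroup.mem_sup_of_normal_right.1 (hQmove c c.2)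
      refine ⟨⟨a, hQC ha⟩, ha, ?_⟩
      rw [← mul_inv_eq_one, ← map_inv, ← map_mul, ← MonoidHom.mem_ker, hker, Subgroup.mem_subgroupOf]
      show a * (g * c * g⁻¹ * (c : E)⁻¹)⁻¹ ∈ R
      rw [← he, mul_inv_rev, ← mul_assoc]
      exact (inferInstance : R.Normal).conj_mem _ (inv_mem hr) a
    · rintro _ hb
      rw [hB] at hb
      obtain ⟨a, ha, rfl⟩ := hb
      have hc' : z * a * z⁻¹ ∈ CE := (inferInstance : CE.Normal).conj_mem a a.2 z
      rw [← map_pow, ← hz, hφ z a hc', ← mul_eq_one_iff_eq_inv, ← map_mul, ← MonoidHom.mem_ker, hker,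
        Subgroup.mem_subgroupOf]
      have := hQinv _ ha
      rw [← hz] at this
      exact this
  obtain ⟨X, hX⟩ : ∃ X, X = (U.subgroupOf E).map φ := ⟨_, rfl⟩
  have hXp : IsPGroup s X := hX ▸ hU.comap_subtype.map φ
  have hgX : φ g ∈ Subgroup.normalizer (X : Set (MulAut M)) := by
    haveI : Finite (MulAut M) :=
      Finite.of_injective (fun e : MulAut M => (e : M → M)) DFunLike.coe_injective
    refine Subgroup.mem_normalizer_fintype fun w hw => ?_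
    rw [hX] at hw ⊢
    obtain ⟨a, ha, rfl⟩ := hw
    refine ⟨g * a * g⁻¹, ?_, by rw [map_mul, map_mul, map_inv]⟩
    rw [SetLike.mem_coe, Subgroup.mem_subgroupOf] at ha ⊢
    rw [Subgroup.coe_mul, Subgroup.coe_mul, InvMemClass.coe_inv, hg]
    exact (Subgroup.mem_normalizer_iff.1 (pow_mem hyU _) _).1 ha
  refine hfinish ?_
  rw [map_commutatorElement, commutatorElement_eq_one_iff_commute]
  have h1 := odd_plane hexp hs2 hsq hm2 hqm (φ g) B hblock X hXp hgX (φ u0)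
    (hX ▸ Subgroup.mem_map_of_mem φ (Subgroup.mem_subgroupOf.2 (hu0 ▸ huU)))
  rw [← map_pow, ← hz] at h1
  exact h1.symm

end Cfsg.Agent.Solv.Gross
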