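import Cfsg.Agent.Lib.Solv.Gross.Components
import Cfsg.Agent.Lib.Char.ItoConverse

/-!
Gross: the 2-length of a solvable group with Sylow 2-subgroups of exponent `2 ^ e` is at most `2e - 1`.
-/

set_option autoImplicit false
set_option linter.style.haveILetI false

namespace Cfsg.Agent.Solv.Gross

universe u

theorem two_length : ∀ (e : ℕ) (G : Type u) [Group G] [Finite G], Group.IsSolvable G →
    PLE.ExpLE 2 (e + 1) G → PLen.HasPSeries 2 (2 * e + 1) G := by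
  haveI : Fact (Nat.Prime 2) := ⟨Nat.prime_two⟩
  intro e
  induction e with
  | zero =>
    intro G _ _ hG he
    haveI := hG
    haveI := Cfsg.pPrimeCore_normal 2 G
    refine PLen.HasPSeries.lift_pPrime (Cfsg.pPrimeCore 2 G) (pPrimeCore_coprime 2) ?_
    have hG' : Group.IsSolvable (G ⧸ Cfsg.pPrimeCore 2 G) :=
      Group.isSolvable_of_surjective (QuotientGroup.mk'_surjective _)
    haveI := Cfsg.pCore_normal 2 (G ⧸ Cfsg.pPrimeCore 2 G)
    refine PLen.HasPSeries.lift_p (Cfsg.pCore 2 (G ⧸ Cfsg.pPrimeCore 2 G)) (pCore_isPGroup 2) ?_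
    obtain ⟨k, σ, hσ, hz, -⟩ := PLE.exists_faithful_module (Cfsg.Agent.Char.isPSolvable_of_isSolvable Nat.prime_two _ rfl hG')
      Fusion.pPrimeCore_quotient_eq_bot (he.quotient _)
    refine PLen.hasPSeries_of_coprime 0 (PLE.ExpLE.coprime_zero fun g hg => ?_)
    rw [pow_zero, pow_one]
    refine hσ ?_
    rw [map_one]
    have h := hz g hg
    rwa [show 2 ^ (0 + 1) - 1 = 1 from rfl, pow_one, sub_eq_zero] at h
  | succ e ih =>
    intro G _ _ hG he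
    haveI := hG
    haveI := Cfsg.pPrimeCore_normal 2 G
    refine PLen.HasPSeries.lift_pPrime (Cfsg.pPrimeCore 2 G) (pPrimeCore_coprime 2) ?_
    have hG' : Group.IsSolvable (G ⧸ Cfsg.pPrimeCore 2 G) :=
      Group.isSolvable_of_surjective (QuotientGroup.mk'_surjective _)
    haveI := Cfsg.pCore_normal 2 (G ⧸ Cfsg.pPrimeCore 2 G)
    rw [show 2 * (e + 1) + 1 = 2 * e + 1 + 1 + 1 by ring]
    refine PLen.HasPSeries.lift_p (Cfsg.pCore 2 (G ⧸ Cfsg.pPrimeCore 2 G)) (pCore_isPGroup 2) ?_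
    obtain ⟨k, σ, hσ, hz, -⟩ := PLE.exists_faithful_module (Cfsg.Agent.Char.isPSolvable_of_isSolvable Nat.prime_two _ rfl hG')
      Fusion.pPrimeCore_quotient_eq_bot (he.quotient _)
    haveI := hG'
    have hK : Group.IsSolvable ((G ⧸ Cfsg.pPrimeCore 2 G) ⧸ Cfsg.pCore 2 (G ⧸ Cfsg.pPrimeCore 2 G)) :=
      Group.isSolvable_of_surjective (QuotientGroup.mk'_surjective _)
    have heK := (he.quotient (Cfsg.pPrimeCore 2 G)).quotient (Cfsg.pCore 2 (G ⧸ Cfsg.pPrimeCore 2 G))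
    haveI := Cfsg.pPrimeCore_normal 2 ((G ⧸ Cfsg.pPrimeCore 2 G) ⧸ Cfsg.pCore 2 (G ⧸ Cfsg.pPrimeCore 2 G))
    refine PLen.HasPSeries.lift_pPrime (Cfsg.pPrimeCore 2 _) (pPrimeCore_coprime 2) ?_
    haveI := Cfsg.pCore_normal 2 (((G ⧸ Cfsg.pPrimeCore 2 G) ⧸ Cfsg.pCore 2 (G ⧸ Cfsg.pPrimeCore 2 G)) ⧸
      Cfsg.pPrimeCore 2 ((G ⧸ Cfsg.pPrimeCore 2 G) ⧸ Cfsg.pCore 2 (G ⧸ Cfsg.pPrimeCore 2 G)))
    haveI := hK
    have hL : Group.IsSolvable (((G ⧸ Cfsg.pPrimeCore 2 G) ⧸ Cfsg.pCore 2 (G ⧸ Cfsg.pPrimeCore 2 G)) ⧸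
      Cfsg.pPrimeCore 2 ((G ⧸ Cfsg.pPrimeCore 2 G) ⧸ Cfsg.pCore 2 (G ⧸ Cfsg.pPrimeCore 2 G))) :=
      Group.isSolvable_of_surjective (QuotientGroup.mk'_surjective _)
    haveI := hL
    refine PLen.HasPSeries.lift_p _ (pCore_isPGroup 2) (ih _
      (Group.isSolvable_of_surjective (QuotientGroup.mk'_surjective _)) fun z hzp => ?_)
    -- the exponent drops
    obtain ⟨x', rfl, hx'p⟩ := PLE.exists_lift _ z hzp
    obtain ⟨β, hβdef⟩ : ∃ β, β = Module.End.baseChangeHom (ZMod 2) (AlgebraicClosure (ZMod 2))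
      (Fin k → ZMod 2) := ⟨_, rfl⟩
    have hβ : Function.Injective β :=
      hβdef ▸ LinearMap.baseChangeHom_injective (ZMod 2) (Fin k → ZMod 2) (AlgebraicClosure (ZMod 2))
    haveI : CharP (AlgebraicClosure (ZMod 2)) 2 :=
      charP_of_injective_algebraMap (algebraMap (ZMod 2) (AlgebraicClosure (ZMod 2))).injective 2
    rw [← map_pow]
    refine (QuotientGroup.eq_one_iff _).2 ?_
    rw [show 2 ^ (e + 1) = 2 ^ (e + 1 + 1 - 1) from rfl]
    obtain ⟨τ, hτ⟩ : ∃ τ, τ = β.toRingHom.toMonoidHom.comp σ := ⟨_, rfl⟩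
    refine drop hK Fusion.pCore_quotient_eq_bot τ
      (hτ ▸ hβ.comp hσ) (e + 1 + 1) (by omega) heK (fun g hg => ?_) x' hx'p
    rw [hτ]
    show (β (σ g) - 1) ^ _ = 0
    rw [show β (σ g) - 1 = β (σ g - 1) by simp, ← map_pow, hz g hg, map_zero]

end Cfsg.Agent.Solv.Gross
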